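import Mathlib
import Cfsg.Prelude.Def_Transfer
import Cfsg.Prelude.Def_Solvable
import Cfsg.Agent.Lib.Grp.Cores
import Cfsg.Agent.Lib.Grp.LargeExtraImage

/-!
An element `a` of order three with centraliser `3^(1+2) : SL(2,3)` and a signalizer-free elementary
abelian subgroup `J` of order 27 in it: hypothesis and the case division by the normaliser of `J`.
-/

set_option autoImplicit false

namespace Cfsg.Agent.Recog.ThreeCentSp

abbrev SL3 := Matrix.SpecialLinearGroup (Fin 2) (ZMod 3)

/-- The hypothesis. -/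
structure Hyp (G : Type*) [Group G] where
  a : G
  J : Subgroup G
  R : Subgroup G
  π : ↥(Subgroup.centralizer ({a} : Set G)) →* SL3
  ha : orderOf a = 3
  π_surj : Function.Surjective π
  π_ker : π.ker = R.subgroupOf (Subgroup.centralizer ({a} : Set G))
  R_le : R ≤ Subgroup.centralizer ({a} : Set G)
  R_core : R = (Cfsg.pCore 3 ↥(Subgroup.centralizer ({a} : Set G))).map
    (Subgroup.centralizer ({a} : Set G)).subtype
  R_card : Nat.card R = 27
  R_extra : Cfsg.IsExtraspecial 3 R
  R_exp : ∀ r ∈ R, r ^ 3 = 1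
  J_le : J ≤ Subgroup.centralizer ({a} : Set G)
  J_comm : ∀ x ∈ J, ∀ y ∈ J, x * y = y * x
  J_exp : ∀ x ∈ J, x ^ 3 = 1
  J_card : Nat.card J = 27
  sig : ∀ K : Subgroup G, (Nat.card K).Coprime 3 →
    (∀ j ∈ J, K.map (MulAut.conj j).toMonoidHom = K) → K = ⊥

variable {G : Type*} [Group G]

namespace Hyp

variable (h : Hyp G)

/-- The centraliser of `a`. -/
abbrev C : Subgroup G := Subgroup.centralizer ({h.a} : Set G)

/-- `a` is conjugate to its inverse. -/
def Inverted : Prop := ∃ g : G, g * h.a * g⁻¹ = h.a⁻¹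

/-- The normaliser of `J` leaves `⟨a⟩` invariant. -/
def Small : Prop := ∀ g ∈ Subgroup.normalizer (h.J : Set G),
  g * h.a * g⁻¹ = h.a ∨ g * h.a * g⁻¹ = h.a⁻¹

theorem mem_C {x : G} : x ∈ h.C ↔ x * h.a = h.a * x := Subgroup.mem_centralizer_singleton_iff

theorem a_mem_C : h.a ∈ h.C := h.mem_C.2 rfl

end Hyp

/-- The hypothesis from the data of the statement. -/
theorem exists_hyp [Finite G] (a : G) (ha : orderOf a = 3) (C : Subgroup G)
    (hC : C = Subgroup.centralizer ({a} : Set G))
    (hR : Cfsg.IsExtraspecial 3 (Cfsg.pCore 3 C)) (hRcard : Nat.card (Cfsg.pCore 3 C) = 27)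
    (hRexp : ∀ r ∈ Cfsg.pCore 3 C, r ^ 3 = 1)
    (e : C ⧸ Cfsg.pCore 3 C ≃* Matrix.SpecialLinearGroup (Fin 2) (ZMod 3))
    (J : Subgroup G) (hJC : J ≤ C) (hJcomm : IsMulCommutative J) (hJexp : ∀ j ∈ J, j ^ 3 = 1)
    (hJcard : Nat.card J = 27)
    (hJsig : ∀ K : Subgroup G, (Nat.card K).Coprime 3 →
      (∀ j ∈ J, K.map (MulAut.conj j).toMonoidHom = K) → K = ⊥) :
    ∃ h : Hyp G, h.a = a ∧ h.J = J := by
  subst hC
  haveI : (Cfsg.pCore 3 ↥(Subgroup.centralizer ({a} : Set G))).Normal := Grp.pCore_isNormal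
  have hinj := (Subgroup.centralizer ({a} : Set G)).subtype_injective
  set R := (Cfsg.pCore 3 ↥(Subgroup.centralizer ({a} : Set G))).map
    (Subgroup.centralizer ({a} : Set G)).subtype with hRdef
  let i : ↥(Cfsg.pCore 3 ↥(Subgroup.centralizer ({a} : Set G))) ≃* R :=
    (Cfsg.pCore 3 ↥(Subgroup.centralizer ({a} : Set G))).equivMapOfInjective _ hinj
  refine ⟨{ a := a, J := J, R := R
            π := e.toMonoidHom.comp (QuotientGroup.mk' _)
            ha := ha
            π_surj := e.surjective.comp (QuotientGroup.mk'_surjective _)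
            π_ker := ?_
            R_le := Subgroup.map_subtype_le _
            R_core := hRdef
            R_card := by rw [← Nat.card_congr i.toEquiv, hRcard]
            R_extra := ?_
            R_exp := ?_
            J_le := hJC
            J_comm := fun x hx y hy => congrArg Subtype.val (hJcomm.is_comm.comm ⟨x, hx⟩ ⟨y, hy⟩)
            J_exp := hJexp
            J_card := hJcard
            sig := hJsig }, rfl, rfl⟩
  · ext x
    rw [MonoidHom.mem_ker, MonoidHom.comp_apply, MulEquiv.coe_toMonoidHom,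
      EmbeddingLike.map_eq_one_iff, QuotientGroup.mk'_apply, QuotientGroup.eq_one_iff,
      Subgroup.mem_subgroupOf, hRdef]
    exact ⟨fun hx => ⟨x, hx, rfl⟩, fun ⟨y, hy, he⟩ => hinj he ▸ hy⟩
  · exact Grp.ExtraCentSimple.isExtraspecial_equiv i hR
  · rintro _ ⟨r, hr, rfl⟩
    rw [← map_pow, hRexp r hr, map_one]

end Cfsg.Agent.Recog.ThreeCentSp
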