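import Cfsg.Agent.Lib.Invol.PSp43Am.Basic

/-!
Linear maps of three coordinates over the field with three elements as triples of codes, and the
certificates: a group of maps containing the cycle and the swap in which only six elements fix
`(1,1,1)` is monomial after a shift of the basis along `(1,1,1)`.
-/

set_option autoImplicit false
set_option maxRecDepth 20000
set_option maxHeartbeats 1000000

namespace Cfsg.Agent.Recog.ThreeCentSp

open Cfsg.Agent.Invol.PSp43Am (V3 act aV xV yV zV basis_decomp act_add)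

/-- sum of codes -/
def ad (a b : ℕ) : ℕ :=
  (a % 3 + b % 3) % 3 + 3 * ((a / 3 % 3 + b / 3 % 3) % 3) + 9 * ((a / 9 + b / 9) % 3)

/-- multiple of a code -/
def sm : ℕ → ℕ → ℕ
  | 0, _ => 0
  | 1, p => p
  | _, p => ad p p

/-- a map given by three columns -/
abbrev Map3 := ℕ × ℕ × ℕ

/-- application -/
def ap (M : Map3) (v : ℕ) : ℕ :=
  ad (ad (sm (v % 3) M.1) (sm (v / 3 % 3) M.2.1)) (sm (v / 9 % 3) M.2.2)

/-- composition -/
def cp (M N : Map3) : Map3 := (ap M N.1, ap M N.2.1, ap M N.2.2)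

/-- code of a vector -/
def enc (v : V3) : ℕ := v.1.val + 3 * v.2.1.val + 9 * v.2.2.val

/-- vector of a code -/
def dec (n : ℕ) : V3 := ((n % 3 : ℕ), (n / 3 % 3 : ℕ), (n / 9 % 3 : ℕ))

theorem dec_enc : ∀ v : V3, dec (enc v) = v ∧ enc v < 27 := by decide +kernel

theorem dec_ad : ∀ a b : Fin 27, dec (ad a b) = dec a + dec b ∧ ad a b < 27 := by decide +kernel

theorem dec_sm : ∀ (i : Fin 3) (a : Fin 27), dec (sm i a) = (i : ℕ) • dec a ∧ sm i a < 27 := by
  decide +kernel

theorem enc_coords : ∀ v : V3, enc v % 3 = v.1.val ∧ enc v / 3 % 3 = v.2.1.val ∧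
    enc v / 9 % 3 = v.2.2.val := by decide +kernel

/-- columns of a map -/
def cols (L : V3 → V3) : Map3 := (enc (L xV), enc (L yV), enc (L zV))

theorem cols_lt (L : V3 → V3) : (cols L).1 < 27 ∧ (cols L).2.1 < 27 ∧ (cols L).2.2 < 27 :=
  ⟨(dec_enc _).2, (dec_enc _).2, (dec_enc _).2⟩

theorem ap_cols (L : V3 →+ V3) (v : V3) : ap (cols L) (enc v) = enc (L v) := by
  obtain ⟨h1, h2, h3⟩ := enc_coords v
  obtain ⟨p1, p2, p3⟩ := cols_lt L
  unfold ap
  rw [h1, h2, h3]
  obtain ⟨a1, b1⟩ := dec_sm ⟨_, ZMod.val_lt v.1⟩ ⟨_, p1⟩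
  obtain ⟨a2, b2⟩ := dec_sm ⟨_, ZMod.val_lt v.2.1⟩ ⟨_, p2⟩
  obtain ⟨a3, b3⟩ := dec_sm ⟨_, ZMod.val_lt v.2.2⟩ ⟨_, p3⟩
  simp only at a1 a2 a3 b1 b2 b3
  obtain ⟨a4, b4⟩ := dec_ad ⟨_, b1⟩ ⟨_, b2⟩
  obtain ⟨a5, b5⟩ := dec_ad ⟨_, b4⟩ ⟨_, b3⟩
  simp only at a4 a5 b4 b5
  have key : ∀ n, n < 27 → enc (dec n) = n := fun n hn =>
    (show ∀ m : Fin 27, enc (dec m) = m by decide +kernel) ⟨n, hn⟩
  rw [← key _ b5, a5, a4, a1, a2, a3]
  congr 1
  conv_rhs => rw [basis_decomp v]
  simp only [map_add, map_nsmul, cols, (dec_enc _).1]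

theorem cols_comp (L M : V3 →+ V3) : cols (L.comp M) = cp (cols L) (cols M) := by
  simp only [cols, cp, AddMonoidHom.coe_comp, Function.comp_apply]
  rw [← ap_cols L, ← ap_cols L, ← ap_cols L]
  rfl

theorem eq_of_cols {L M : V3 →+ V3} (h : cols L = cols M) (v : V3) : L v = M v := by
  rw [← (dec_enc (L v)).1, ← (dec_enc (M v)).1, ← ap_cols, ← ap_cols, h]

/-- the identity -/
def idM : Map3 := (1, 3, 9)
/-- the cycle -/
def cM : Map3 := cols (act 8)
/-- the swap -/
def tM : Map3 := cols (act 4)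
/-- a diagonal map -/
def dM : Map3 := cols (act 1)

/-- the six maps of the stabiliser -/
def sixM : List Map3 := [idM, cM, cp cM cM, tM, cp tM cM, cp tM (cp cM cM)]

/-- the monomial maps -/
def monoM : List Map3 := (List.range 48).map fun k => cols (act k)

/-- a map of order three whose fixed vectors are multiples of one vector -/
def isJ (M : Map3) : Bool :=
  (cp M (cp M M) == idM) &&
    !((ad (ad 1 M.1) (cp M M).1 == 0) && (ad (ad 3 M.2.1) (cp M M).2.1 == 0) &&
      (ad (ad 9 M.2.2) (cp M M).2.2 == 0))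

/-- value of a word in the cycle, its inverse, the swap, the diagonal map and `M` -/
def evW (M : Map3) : List ℕ → Map3
  | [] => idM
  | n :: w => cp ([cM, cp cM cM, tM, dM, M].getD n idM) (evW M w)

/-- a witness: the word fixes `(1,1,1)` and is none of the six -/
def wit (M : Map3) (w : List ℕ) : Bool :=
  (ap (evW M w) 13 == 13) && !(sixM.contains (evW M w))

/-- shifts of the basis along `(1,1,1)` -/
def shM : ℕ → Map3
  | 1 => (14, 16, 22)
  | 2 => (24, 20, 8)
  | _ => idM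

/-- words in the cycle, the swap and `M` -/
def wordsA : List (List ℕ) :=
  [[4, 0, 2, 4, 4], [4, 2, 4, 4], [4, 1, 2, 4, 4], [4, 4, 1, 4, 0, 4], [4, 4, 0, 4, 1, 4],
    [4, 4, 2, 4], [4, 4, 0, 2, 4], [4, 4, 1, 2, 4]]

/-- words using the diagonal map -/
def wordsB : List (List ℕ) :=
  [[4, 3, 4, 4], [4, 4, 3, 4], [3, 4, 3, 4, 3], [4, 3, 4, 3, 4], [3, 0, 4, 3], [3, 1, 4, 3],
    [3, 4, 0, 3], [3, 4, 1, 3]]

/-- the first case division -/
def chkA (M : Map3) : Bool :=
  !(isJ M) || wordsA.any (wit M) || monoM.contains M ||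
    monoM.contains (cp (shM 2) (cp M (shM 1))) || monoM.contains (cp (shM 1) (cp M (shM 2)))

/-- the second case division -/
def chkB (M : Map3) : Bool :=
  !(isJ M) || wordsA.any (wit M) || monoM.contains M || wordsB.any (wit M)

/-- maps normalising the cycle -/
def chkC (M : Map3) : Bool :=
  !((cp M cM == cp cM M) || (cp M cM == cp (cp cM cM) M)) ||
    ((List.range 26).any fun v => ap M (v + 1) == 0) || monoM.contains M || wit M [4, 4]

theorem chk_all : ∀ p q r : Fin 27, chkA (p, q, r) = true ∧ chkB (p, q, r) = true ∧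
    chkC (p, q, r) = true := by decide +kernel

theorem shift_facts : cp (shM 1) (shM 2) = idM ∧ cp (shM 2) (shM 1) = idM ∧
    (∀ k : Fin 3, cp (shM k) cM = cp cM (shM k) ∧ cp (shM k) tM = cp tM (shM k) ∧ ap (shM k) 13 = 13) := by
  decide +kernel

theorem six_closed : ∀ M ∈ sixM, ∀ N ∈ sixM, cp M N ∈ sixM := by decide +kernel

theorem mono_closed : ∀ j k : Fin 48, monoM.contains (cp (cols (act j)) (cols (act k))) = true := by
  decide +kernel

theorem mono_three : ∀ k : Fin 48, isJ (cols (act k)) = true →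
    ([[0, 4, 1, 4, 4], [0, 4, 4, 1, 4], [4, 0, 4, 1, 4]].any (fun w => evW (cols (act k)) w == dM) = true ∨
      cols (act k) = cM ∨ cols (act k) = cp cM cM) ∧
    ∃ e : Fin 4, cp (cols (act e)) (cp (cols (act k)) (cols (act e))) = cM ∨
      cp (cols (act e)) (cp (cols (act k)) (cols (act e))) = cp cM cM := by decide +kernel

theorem evens_gen : cols (act 0) = idM ∧ cols (act 1) = dM ∧ cols (act 2) = cp cM (cp dM (cp cM cM)) ∧
    cols (act 3) = cp (cp cM cM) (cp dM cM) ∧ ∀ e : Fin 4, cp (cols (act e)) (cols (act e)) = idM := by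
  decide +kernel

end Cfsg.Agent.Recog.ThreeCentSp
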