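import Cfsg.Agent.Lib.Recog.ThreeCentSp.Natural
import Cfsg.Agent.Lib.Recog.ThreeCentSp.LinCode

/-!
Coordinates on `J` in which the normaliser of `J` acts by signed permutations, the element `a` being
`(1, 1, 1)`, with a cycle in `R` and a swap lifting the central involution.
-/

set_option autoImplicit false
set_option linter.unusedSectionVars false
set_option linter.style.haveILetI false
set_option maxRecDepth 20000

namespace Cfsg.Agent.Recog.ThreeCentSp

open Cfsg.Agent.Invol.PSp43Am (V3 act aV xV yV zV pw pw_add basis_decomp act_add)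

/-- Coordinates with the cycle and the swap. -/
structure Base {G : Type*} [Group G] (h : Hyp G) where
  ψ : V3 → G
  ψ_add : ∀ u v, ψ (u + v) = ψ u * ψ v
  ψ_inj : Function.Injective ψ
  ψ_mem : ∀ v, ψ v ∈ h.J
  ψ_surj : ∀ j ∈ h.J, ∃ v, ψ v = j
  ψ_a : ψ aV = h.a
  c : G
  t : G
  c_R : c ∈ h.R
  c_not_J : c ∉ h.J
  t_C : t ∈ h.C
  t_sq : t * t = 1
  t_π : h.π ⟨t, t_C⟩ = -1
  t_c : t * c * t⁻¹ = c⁻¹
  c_act : ∀ v, c * ψ v * c⁻¹ = ψ (act 8 v)
  t_act : ∀ v, t * ψ v * t⁻¹ = ψ (act 4 v)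

/-- Coordinates in which `N(J)` is monomial. -/
structure Coords {G : Type*} [Group G] (h : Hyp G) extends Base h where
  acts : ∀ g ∈ Subgroup.normalizer (h.J : Set G), ∃ k : Fin 48, ∀ v, g * ψ v * g⁻¹ = ψ (act k v)

namespace Hyp

variable {G : Type*} [Group G] [Finite G] (h : Hyp G)

theorem J_not_le_R : ∃ j ∈ h.J, j ∉ h.R := by
  by_contra hn
  push Not at hn
  have hJR := Subgroup.eq_of_le_of_card_ge hn (by rw [h.R_card, h.J_card])
  have := Subgroup.card_le_of_le (show h.R ≤ Subgroup.zpowers h.a from fun r hr =>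
    h.center_R hr fun q hq => h.J_comm r (hJR ▸ hr) q (hJR ▸ hq))
  rw [h.R_card, h.card_zpow_a] at this
  omega

theorem card_J_inf_R : 9 ≤ Nat.card ↥(h.R ⊓ h.J) := by
  have hRP : h.R.relIndex h.P = 3 := by
    have := Subgroup.card_mul_index (h.R.subgroupOf h.P)
    rw [Nat.card_congr (Subgroup.subgroupOfEquivOfLe h.R_le_P).toEquiv, h.R_card, h.card_P] at this
    show (h.R.subgroupOf h.P).index = 3
    omega
  have hRJ : h.R.relIndex h.J ≤ 3 := hRP ▸ Subgroup.relIndex_le_of_le_right h.J_le_P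
    (by rw [hRP]; norm_num)
  have h4 : Nat.card ↥(h.R ⊓ h.J) * h.R.relIndex h.J = 27 := by
    rw [← h.J_card, ← Subgroup.card_mul_index (h.R.subgroupOf h.J),
      Nat.card_congr ((Subgroup.subgroupOfEquivOfLe (show h.R ⊓ h.J ≤ h.J from inf_le_right)).toEquiv).symm,
      Subgroup.inf_subgroupOf_right]
    rfl
  have := Nat.mul_le_mul_left (Nat.card ↥(h.R ⊓ h.J)) hRJ
  omega

/-- The preimage of `-1` normalises `J`. -/
theorem neg_normalises {t : G} {ht : t ∈ h.C} (hπ : h.π ⟨t, ht⟩ = -1) :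
    ∀ p ∈ h.P, t * p * t⁻¹ ∈ h.P := by
  intro p hp
  have hR : (p⁻¹ * (t * p * t⁻¹)) ∈ h.R := (h.mem_R_iff
    (⟨p, h.P_le hp⟩⁻¹ * (⟨t, ht⟩ * ⟨p, h.P_le hp⟩ * (⟨t, ht⟩ : h.C)⁻¹))).2 (by
      simp only [map_mul, map_inv, hπ]
      generalize h.π ⟨p, h.P_le hp⟩ = w
      revert w
      decide +kernel)
  have := mul_mem hp (h.R_le_P hR)
  rwa [mul_inv_cancel_left] at this

theorem neg_conj_J {t : G} {ht : t ∈ h.C} (hπ : h.π ⟨t, ht⟩ = -1) {j : G} (hj : j ∈ h.J) :
    t * j * t⁻¹ ∈ h.J := by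
  have e := h.unique_J (A := h.J.map (MulAut.conj t).toMonoidHom) ?_ ?_ ?_
  · rw [← e]; exact ⟨j, hj, rfl⟩
  · rintro _ ⟨k, hk, rfl⟩
    exact h.neg_normalises hπ k (h.J_le_P hk)
  · rintro _ ⟨k, hk, rfl⟩ _ ⟨l, hl, rfl⟩
    rw [← map_mul, h.J_comm k hk l hl, map_mul]
  · rw [Subgroup.card_map_of_injective (MulEquiv.injective _), h.J_card]

theorem cent_outside {c : G} (hc : c ∈ h.P) (hcJ : c ∉ h.J) {j : G} (hj : j ∈ h.J)
    (hjc : j * c = c * j) : j ∈ Subgroup.zpowers h.a := by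
  set S := h.P ⊓ Subgroup.centralizer ({j} : Set G) with hS
  have hJS : h.J ≤ S := fun i hi =>
    ⟨h.J_le_P hi, Subgroup.mem_centralizer_singleton_iff.2 (h.J_comm i hi j hj)⟩
  have hcS : c ∈ S := ⟨hc, Subgroup.mem_centralizer_singleton_iff.2 hjc.symm⟩
  have hlt : 27 < Nat.card S := h.J_card ▸ lt_of_le_of_ne (Subgroup.card_le_of_le hJS) fun e =>
    hcJ (Subgroup.eq_of_le_of_card_ge hJS e.ge ▸ hcS)
  have hSP : S = h.P := card_eq_of_lt h.card_P inf_le_left hlt
  exact h.center_P (h.J_le_P hj) fun x hx =>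
    (Subgroup.mem_centralizer_singleton_iff.1 ((hSP.symm ▸ hx : x ∈ S)).2).symm

theorem exists_base : Nonempty (Base h) := by
  obtain ⟨t', ht'⟩ := h.π_surj (-1)
  obtain ⟨t, ht, htt, hπ, -⟩ := h.exists_invol ht'
  have htinv : t⁻¹ = t := inv_eq_of_mul_eq_one_left htt
  -- the cycle
  obtain ⟨c₀, hc₀, hc₀J⟩ : ∃ c ∈ h.R, c ∉ h.J := by
    obtain ⟨j, hj, hjR⟩ := h.J_not_le_R
    by_contra hn
    push Not at hn
    exact hjR (Subgroup.eq_of_le_of_card_ge hn (by rw [h.R_card, h.J_card]) ▸ hj)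
  set c := t * c₀ * t⁻¹ * c₀⁻¹ with hcdef
  have hcR : c ∈ h.R := mul_mem (h.conj_R ht hc₀) (inv_mem hc₀)
  have htc : t * c * t⁻¹ = c⁻¹ := by
    calc t * c * t⁻¹ = (t * t) * c₀ * (t * t)⁻¹ * (t * c₀ * t⁻¹)⁻¹ := by rw [hcdef]; group
      _ = c⁻¹ := by rw [htt, hcdef]; group
  have hcJ : c ∉ h.J := fun hc => hc₀J (by
    have h1 := h.inverts htt hπ hc₀
    have h2 : c * (c₀ * c₀) ∈ Subgroup.zpowers h.a := by
      rwa [hcdef, mul_assoc, inv_mul_cancel_left]
    have h3 := h.R_exp c₀ hc₀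
    have h4 : c₀ * c₀ = c₀⁻¹ := by rwa [pow_succ, pow_two, mul_eq_one_iff_eq_inv] at h3
    rw [h4] at h2
    have h5 := mul_mem (inv_mem (Subgroup.zpowers_le.2 h.a_mem_J h2)) hc
    rwa [mul_inv_rev, inv_inv, mul_assoc, inv_mul_cancel, mul_one] at h5)
  have hc3 : c ^ 3 = 1 := h.R_exp c hcR
  have hcC := h.R_le hcR
  have hcP := h.R_le_P hcR
  have hTJ : ∀ j ∈ h.J, c * j * c⁻¹ ∈ h.J := fun j hj => h.J_normal_P hcP hj
  -- an element of `J` outside `R` fixed by `t`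
  obtain ⟨j₁, hj₁, hj₁R⟩ := h.J_not_le_R
  have htj₁ : t * j₁ * t⁻¹ ∈ h.J := h.neg_conj_J hπ hj₁
  set z₀ := (j₁ * (t * j₁ * t⁻¹)) ^ 2 with hz₀
  have hz₀J : z₀ ∈ h.J := pow_mem (mul_mem hj₁ htj₁) 2
  have hz₀t : t * z₀ * t⁻¹ = z₀ := by
    rw [hz₀, ← conj_pow]
    congr 1
    calc t * (j₁ * (t * j₁ * t⁻¹)) * t⁻¹ = (t * j₁ * t⁻¹) * ((t * t) * j₁ * (t * t)⁻¹) := by group
      _ = (t * j₁ * t⁻¹) * j₁ := by rw [htt]; group
      _ = _ := h.J_comm _ htj₁ _ hj₁
  have hπz₀ : h.π ⟨z₀, h.J_le hz₀J⟩ ≠ 1 := by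
    rw [show (⟨z₀, h.J_le hz₀J⟩ : h.C) = (⟨j₁, h.J_le hj₁⟩ *
        (⟨t, ht⟩ * ⟨j₁, h.J_le hj₁⟩ * (⟨t, ht⟩ : h.C)⁻¹)) ^ 2 from Subtype.ext rfl,
      map_pow, map_mul, map_mul, map_mul, map_inv, hπ]
    have hw : h.π ⟨j₁, h.J_le hj₁⟩ ≠ 1 := fun e => hj₁R ((h.mem_R_iff ⟨j₁, _⟩).2 e)
    have hw3 : h.π ⟨j₁, h.J_le hj₁⟩ ^ 3 = 1 := by
      rw [← map_pow, show (⟨j₁, h.J_le hj₁⟩ : h.C) ^ 3 = 1 from Subtype.ext (h.J_exp j₁ hj₁), map_one]
    revert hw hw3
    generalize h.π ⟨j₁, h.J_le hj₁⟩ = w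
    revert w
    decide +kernel
  set T : G → G := fun j => c * j * c⁻¹ with hT
  have hTz : T z₀ ∈ h.J := hTJ _ hz₀J
  have hTTz : T (T z₀) ∈ h.J := hTJ _ hTz
  have hT3 : ∀ j, T (T (T j)) = j := by
    intro j
    calc T (T (T j)) = c ^ 3 * j * (c ^ 3)⁻¹ := by simp only [hT, pow_succ, pow_zero]; group
      _ = j := by rw [hc3]; group
  -- the sum lies in `⟨a⟩` and is nontrivial
  set s := z₀ * T z₀ * T (T z₀) with hs
  have hsJ : s ∈ h.J := mul_mem (mul_mem hz₀J hTz) hTTz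
  have hsc : s * c = c * s := by
    have e : c * s * c⁻¹ = s := by
      calc c * s * c⁻¹ = T z₀ * T (T z₀) * T (T (T z₀)) := by simp only [hs, hT]; group
        _ = z₀ * (T z₀ * T (T z₀)) := by rw [hT3, h.J_comm _ (mul_mem hTz hTTz) _ hz₀J]
        _ = s := (mul_assoc _ _ _).symm
    exact (mul_inv_eq_iff_eq_mul.1 e).symm
  have hsA : s ∈ Subgroup.zpowers h.a := h.cent_outside hcP hcJ hsJ hsc
  have hnotfix : ¬ h.Fixes z₀ c := by
    intro hf
    refine hπz₀ ((h.mem_R_iff ⟨z₀, h.J_le hz₀J⟩).1 (h.natural (h.J_le hz₀J) fun r hr => ?_))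
    set S : Subgroup G := { carrier := {x | x ∈ h.R ∧ h.Fixes z₀ x}
                            mul_mem' := fun ⟨a1, a2⟩ ⟨b1, b2⟩ =>
                              ⟨mul_mem a1 b1, h.fixes_mul_right a2 b2 (h.R_le a1)⟩
                            one_mem' := ⟨one_mem _, h.fixes_comm (by simp)⟩
                            inv_mem' := fun {x} ⟨a1, a2⟩ => ⟨inv_mem a1, by
                              unfold Fixes at a2 ⊢
                              have e : z₀ * x⁻¹ * z₀⁻¹ * x⁻¹⁻¹ =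
                                  x⁻¹ * (z₀ * x * z₀⁻¹ * x⁻¹)⁻¹ * x⁻¹⁻¹ := by group
                              rw [e, h.a_pow_comm (inv_mem a2) (inv_mem (h.R_le a1))]
                              exact inv_mem a2⟩ } with hS
    have hle : h.R ⊓ h.J ≤ S := fun x hx => ⟨hx.1, h.fixes_comm (h.J_comm z₀ hz₀J x hx.2)⟩
    have hlt : 9 < Nat.card S := lt_of_le_of_lt h.card_J_inf_R
      (lt_of_le_of_ne (Subgroup.card_le_of_le hle) fun e => hcJ
        ((Subgroup.eq_of_le_of_card_ge hle e.ge).symm ▸ (⟨hcR, hf⟩ : c ∈ S) : c ∈ h.R ⊓ h.J).2)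
    have hSR : S ≤ h.R := fun x hx => hx.1
    have hd := Subgroup.card_dvd_of_le hSR
    rw [h.R_card, show 27 = 3 ^ 3 from rfl, Nat.dvd_prime_pow Nat.prime_three] at hd
    obtain ⟨i, hi, he⟩ := hd
    have hSe : S = h.R := Subgroup.eq_of_le_of_card_ge hSR (by
      rw [he] at hlt ⊢
      rw [h.R_card]
      interval_cases i <;> simp_all)
    exact (hSe.symm ▸ hr : r ∈ S).2
  have hs1 : s ≠ 1 := by
    intro e
    set w := T z₀ * z₀⁻¹ with hw
    have hwJ : w ∈ h.J := mul_mem hTz (inv_mem hz₀J)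
    have h3 : z₀ * z₀ = z₀⁻¹ := by
      have := h.J_exp z₀ hz₀J
      rwa [pow_succ, pow_two, mul_eq_one_iff_eq_inv] at this
    have hTw : T w = T (T z₀) * (T z₀)⁻¹ := by simp only [hw, hT]; group
    have e' : T (T z₀) = (z₀ * T z₀)⁻¹ := eq_inv_of_mul_eq_one_right e
    have hTw' : T w = w := by
      have h4 : T z₀ * T z₀ = (T z₀)⁻¹ := by
        have := h.J_exp _ hTz
        rwa [pow_succ, pow_two, mul_eq_one_iff_eq_inv] at this
      rw [hTw, e', mul_inv_rev, hw]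
      calc (T z₀)⁻¹ * z₀⁻¹ * (T z₀)⁻¹ = (T z₀)⁻¹ * (T z₀)⁻¹ * z₀⁻¹ := by
            rw [mul_assoc, h.J_comm _ (inv_mem hz₀J) _ (inv_mem hTz), ← mul_assoc]
        _ = T z₀ * z₀⁻¹ := by rw [← mul_inv_rev, h4, inv_inv]
    have hwA := h.cent_outside hcP hcJ hwJ (mul_inv_eq_iff_eq_mul.1 hTw').symm
    refine hnotfix ?_
    unfold Fixes
    rw [show z₀ * c * z₀⁻¹ * c⁻¹ = w⁻¹ by simp only [hw, hT]; group]
    exact inv_mem hwA
  -- orient so that the sum is `a`
  obtain ⟨z, hzJ, hzt, hza, hzz⟩ : ∃ z ∈ h.J, t * z * t⁻¹ = z ∧ z * T z * T (T z) = h.a ∧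
      (z = z₀ ∨ z = z₀⁻¹) := by
    rcases h.mem_zpow_a hsA with e | e | e
    · exact absurd e hs1
    · exact ⟨z₀, hz₀J, hz₀t, e, Or.inl rfl⟩
    · refine ⟨z₀⁻¹, inv_mem hz₀J, by rw [← conj_inv, hz₀t], ?_, Or.inr rfl⟩
      rw [show T z₀⁻¹ = (T z₀)⁻¹ from conj_inv.symm,
        show T (T z₀)⁻¹ = (T (T z₀))⁻¹ from conj_inv.symm, ← mul_inv_rev, ← mul_inv_rev,
        h.J_comm _ hTz _ hz₀J, h.J_comm _ hTTz _ (mul_mem hz₀J hTz), ← hs, e, inv_inv]
  set x := T z with hx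
  set y := T x with hy
  have hxJ : x ∈ h.J := hTJ _ hzJ
  have hyJ : y ∈ h.J := hTJ _ hxJ
  have hTy : T y = z := hT3 z
  have htx : t * x * t⁻¹ = y := by
    calc t * x * t⁻¹ = (t * c * t⁻¹) * (t * z * t⁻¹) * (t * c * t⁻¹)⁻¹ := by
          simp only [hx, hT]; group
      _ = c⁻¹ * z * c := by rw [htc, hzt, inv_inv]
      _ = y := by
          rw [← hTy]
          simp [hT, mul_assoc]
  have hty : t * y * t⁻¹ = x := by
    calc t * y * t⁻¹ = (t * t) * x * (t * t)⁻¹ := by rw [← htx]; group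
      _ = x := by rw [htt]; group
  let ψ : V3 → G := fun v => pw x v.1 * pw y v.2.1 * pw z v.2.2
  have hpw : ∀ {w : G}, w ∈ h.J → ∀ i, pw w i ∈ h.J := fun hw i => pow_mem hw _
  have hmem : ∀ v, ψ v ∈ h.J := fun v => mul_mem (mul_mem (hpw hxJ _) (hpw hyJ _)) (hpw hzJ _)
  have hadd : ∀ u v, ψ (u + v) = ψ u * ψ v := by
    intro u v
    haveI : IsMulCommutative h.J := ⟨⟨fun p q => Subtype.ext (h.J_comm p p.2 q q.2)⟩⟩
    open scoped IsMulCommutative in
    have : (⟨ψ (u + v), hmem _⟩ : h.J) = ⟨ψ u, hmem u⟩ * ⟨ψ v, hmem v⟩ := by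
      have e : ∀ w, (⟨ψ w, hmem w⟩ : h.J) = ⟨pw x w.1, hpw hxJ _⟩ * ⟨pw y w.2.1, hpw hyJ _⟩ *
          ⟨pw z w.2.2, hpw hzJ _⟩ := fun _ => rfl
      have ep : ∀ {w : G} (hw : w ∈ h.J) (i j : ZMod 3),
          (⟨pw w (i + j), hpw hw _⟩ : h.J) = ⟨pw w i, hpw hw _⟩ * ⟨pw w j, hpw hw _⟩ := fun hw i j =>
        Subtype.ext (pw_add (h.J_exp _ hw) i j)
      rw [e, e, e, Prod.fst_add, Prod.snd_add, Prod.fst_add, Prod.snd_add, ep hxJ, ep hyJ, ep hzJ]
      ac_rfl
    exact congrArg Subtype.val this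
  have hψ0 : ψ 0 = 1 := by simp [ψ, pw]
  let Ψ : Multiplicative V3 →* G :=
    { toFun := fun v => ψ v.toAdd, map_one' := hψ0, map_mul' := fun u v => hadd _ _ }
  have hcact : ∀ v, c * ψ v * c⁻¹ = ψ (act 8 v) := by
    intro ⟨i, j, l⟩
    have e : ∀ (w : G) (n : ZMod 3), c * pw w n * c⁻¹ = pw (T w) n := fun w n => conj_pow.symm
    calc c * ψ (i, j, l) * c⁻¹ = (c * pw x i * c⁻¹) * (c * pw y j * c⁻¹) * (c * pw z l * c⁻¹) := by
          simp only [ψ]; group
      _ = pw y i * pw z j * pw x l := by rw [e, e, e, hTy, ← hy, ← hx]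
      _ = pw x l * pw y i * pw z j := by
          rw [h.J_comm _ (mul_mem (hpw hyJ _) (hpw hzJ _)) _ (hpw hxJ _), mul_assoc]
      _ = ψ (act 8 (i, j, l)) := rfl
  have htact : ∀ v, t * ψ v * t⁻¹ = ψ (act 4 v) := by
    intro ⟨i, j, l⟩
    have e : ∀ (w : G) (n : ZMod 3), t * pw w n * t⁻¹ = pw (t * w * t⁻¹) n := fun w n => conj_pow.symm
    calc t * ψ (i, j, l) * t⁻¹ = (t * pw x i * t⁻¹) * (t * pw y j * t⁻¹) * (t * pw z l * t⁻¹) := by
          simp only [ψ]; group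
      _ = pw y i * pw x j * pw z l := by rw [e, e, e, htx, hty, hzt]
      _ = pw x j * pw y i * pw z l := by rw [h.J_comm _ (hpw hyJ _) _ (hpw hxJ _)]
      _ = ψ (act 4 (i, j, l)) := rfl
  have hψx : ψ xV = x := by simp [ψ, pw, ZMod.val_one]
  have hψz : ψ zV = z := by simp [ψ, pw, ZMod.val_one]
  have hψy : ψ yV = y := by simp [ψ, pw, ZMod.val_one]
  have hψa : ψ aV = h.a := by
    rw [← hza]
    show pw x 1 * pw y 1 * pw z 1 = z * x * y
    simp only [pw, ZMod.val_one, pow_one]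
    rw [h.J_comm z hzJ x hxJ, mul_assoc x z y, h.J_comm z hzJ y hyJ, mul_assoc]
  -- the image is all of `J`
  have hKJ : Ψ.range ≤ h.J := by rintro _ ⟨v, rfl⟩; exact hmem _
  have hzR : z ∉ h.R := by
    intro hzR
    have : z₀ ∈ h.R := by
      rcases hzz with rfl | rfl
      · exact hzR
      · exact h.R.inv_mem_iff.1 hzR
    exact hπz₀ ((h.mem_R_iff ⟨z₀, _⟩).1 this)
  have hKeq : Ψ.range = h.J := by
    refine Subgroup.eq_of_le_of_card_ge hKJ ?_
    by_contra hlt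
    push Not at hlt
    have hzK : z ∈ Ψ.range := ⟨Multiplicative.ofAdd zV, hψz⟩
    have haK : h.a ∈ Ψ.range := ⟨Multiplicative.ofAdd aV, hψa⟩
    have hd := Subgroup.card_dvd_of_le hKJ
    rw [h.J_card, show 27 = 3 ^ 3 from rfl, Nat.dvd_prime_pow Nat.prime_three] at hd
    obtain ⟨i, hi, he⟩ := hd
    have h9 : Nat.card Ψ.range ≤ 9 := by
      rw [h.J_card] at hlt
      rw [he] at hlt ⊢
      interval_cases i <;> simp_all
    set M : Subgroup G := Ψ.range ⊓ h.R with hM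
    have hMa : Subgroup.zpowers h.a ≤ M := Subgroup.zpowers_le.2 ⟨haK, h.a_mem_R⟩
    have hMlt : Nat.card M < Nat.card Ψ.range :=
      lt_of_le_of_ne (Subgroup.card_le_of_le inf_le_left) fun e => by
        have he' : M = Ψ.range := Subgroup.eq_of_le_of_card_ge inf_le_left e.ge
        have hzM : z ∈ M := by rw [he']; exact hzK
        exact hzR hzM.2
    have hMe : Subgroup.zpowers h.a = M := by
      refine Subgroup.eq_of_le_of_card_ge hMa ?_
      have hd' := Subgroup.card_dvd_of_le (show M ≤ h.R from inf_le_right)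
      rw [h.R_card, show 27 = 3 ^ 3 from rfl, Nat.dvd_prime_pow Nat.prime_three] at hd'
      obtain ⟨j, hj, hje⟩ := hd'
      rw [h.card_zpow_a]
      rw [hje] at hMlt ⊢
      interval_cases j <;> omega
    have hxK : x ∈ Ψ.range := ⟨Multiplicative.ofAdd xV, hψx⟩
    have hxzR : x * z⁻¹ ∈ h.R := by
      exact (h.mem_R_iff (⟨c, hcC⟩ * ⟨z, h.J_le hzJ⟩ * (⟨c, hcC⟩ : h.C)⁻¹ * (⟨z, h.J_le hzJ⟩ : h.C)⁻¹)).2
        (by rw [map_mul, map_mul, map_mul, map_inv, (h.mem_R_iff ⟨c, hcC⟩).1 hcR]; simp)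
    have hA : x * z⁻¹ ∈ Subgroup.zpowers h.a := by
      rw [hMe]
      exact Subgroup.mem_inf.2 ⟨mul_mem hxK (inv_mem hzK), hxzR⟩
    have hf : h.Fixes c z := by
      unfold Fixes
      rwa [show c * z * c⁻¹ = x from rfl]
    have hf' : h.Fixes z c := by
      unfold Fixes at hf ⊢
      rw [show z * c * z⁻¹ * c⁻¹ = (c * z * c⁻¹ * z⁻¹)⁻¹ by group]
      exact inv_mem hf
    refine hnotfix ?_
    rcases hzz with rfl | rfl
    · exact hf'
    · exact inv_inv z₀ ▸ h.fixes_inv (h.J_le hzJ) hf'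
  refine ⟨{ ψ := ψ, ψ_add := hadd, ψ_inj := ?_, ψ_mem := hmem
            ψ_surj := fun j hj => ?_, ψ_a := hψa, c := c, t := t, c_R := hcR, c_not_J := hcJ
            t_C := ht, t_sq := htt, t_π := hπ, t_c := htc, c_act := hcact, t_act := htact }⟩
  · have hb : Function.Bijective Ψ.rangeRestrict := by
      refine (Nat.bijective_iff_surjective_and_card _).2 ⟨Ψ.rangeRestrict_surjective, ?_⟩
      rw [hKeq, h.J_card, Nat.card_eq_fintype_card]
      rfl
    intro u v e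
    exact Multiplicative.ofAdd.injective (hb.1 (Subtype.ext e))
  · obtain ⟨v, hv⟩ := (hKeq.symm ▸ hj : j ∈ Ψ.range)
    exact ⟨v.toAdd, hv⟩

end Hyp

/-- the action of a code as an additive map -/
def actH (k : Fin 48) : V3 →+ V3 := AddMonoidHom.mk' (act k) (act_add k)

@[simp] theorem actH_apply (k : Fin 48) (v : V3) : actH k v = act k v := rfl

/-- the shift of the basis along `(1, 1, 1)` -/
def shiftH (k : ℕ) : V3 →+ V3 :=
  AddMonoidHom.mk' (fun v => v + (k • (v.1 + v.2.1 + v.2.2), k • (v.1 + v.2.1 + v.2.2), k • (v.1 + v.2.1 + v.2.2)))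
    fun u v => by
      ext <;> simp only [Prod.fst_add, Prod.snd_add, nsmul_eq_mul] <;> ring

theorem shift_cols : cols (shiftH 0) = shM 0 ∧ cols (shiftH 1) = shM 1 ∧ cols (shiftH 2) = shM 2 ∧
    (∀ v, shiftH 1 (shiftH 2 v) = v ∧ shiftH 2 (shiftH 1 v) = v) ∧
    ∀ k : Fin 3, shiftH k aV = aV ∧ ∀ v, shiftH k (act 8 v) = act 8 (shiftH k v) ∧
      shiftH k (act 4 v) = act 4 (shiftH k v) := by decide +kernel

theorem six_mem : cols (AddMonoidHom.id V3) = idM ∧ idM ∈ sixM ∧ cM ∈ sixM ∧ tM ∈ sixM := by decide +kernel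

theorem enc_aV : enc aV = 13 := by decide +kernel

namespace Base

variable {G : Type*} [Group G] [Finite G] {h : Hyp G} (B : Base h)

theorem conj_mem {g : G} (hg : g ∈ Subgroup.normalizer (h.J : Set G)) {j : G} (hj : j ∈ h.J) :
    g * j * g⁻¹ ∈ h.J := (Subgroup.mem_normalizer_iff.1 hg j).1 hj

/-- `g` acts on `J` as the map `L`. -/
def ActsAs (g : G) (L : V3 →+ V3) : Prop := ∀ v, g * B.ψ v * g⁻¹ = B.ψ (L v)

theorem exists_lin {g : G} (hg : g ∈ Subgroup.normalizer (h.J : Set G)) :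
    ∃ L : V3 →+ V3, B.ActsAs g L := by
  choose f hf using fun v => B.ψ_surj _ (conj_mem hg (B.ψ_mem v))
  refine ⟨AddMonoidHom.mk' f fun u v => B.ψ_inj ?_, fun v => (hf v).symm⟩
  rw [B.ψ_add, hf, hf, hf, B.ψ_add]
  group

theorem actsAs_mul {g k : G} {L M : V3 →+ V3} (hg : B.ActsAs g L) (hk : B.ActsAs k M) :
    B.ActsAs (g * k) (L.comp M) := fun v => by
  calc g * k * B.ψ v * (g * k)⁻¹ = g * (k * B.ψ v * k⁻¹) * g⁻¹ := by group
    _ = g * B.ψ (M v) * g⁻¹ := by rw [hk v]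
    _ = B.ψ (L (M v)) := hg (M v)

theorem actsAs_unique {g : G} {L M : V3 →+ V3} (hg : B.ActsAs g L) (hg' : B.ActsAs g M) : L = M :=
  AddMonoidHom.ext fun v => B.ψ_inj ((hg v).symm.trans (hg' v))

theorem actsAs_inj {g : G} {L : V3 →+ V3} (hg : B.ActsAs g L) : Function.Injective L := fun u v e =>
  B.ψ_inj (by
    have h1 := hg u
    rw [e, ← hg v] at h1
    exact mul_left_cancel (mul_right_cancel h1))

theorem c_mem_N : B.c ∈ Subgroup.normalizer (h.J : Set G) :=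
  Cfsg.Agent.Invol.PSp43Am.mem_normalizer_of_conj_mem fun y hy => h.J_normal_P (h.R_le_P B.c_R) hy

theorem t_mem_N : B.t ∈ Subgroup.normalizer (h.J : Set G) :=
  Cfsg.Agent.Invol.PSp43Am.mem_normalizer_of_conj_mem fun y hy => h.neg_conj_J B.t_π hy

theorem c_actsAs : B.ActsAs B.c (actH 8) := B.c_act
theorem t_actsAs : B.ActsAs B.t (actH 4) := B.t_act

/-- The maps induced by `N(J)`. -/
def Real (M : Map3) : Prop :=
  ∃ g ∈ Subgroup.normalizer (h.J : Set G), ∃ L : V3 →+ V3, B.ActsAs g L ∧ cols L = M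

theorem real_cp {M N : Map3} (hM : B.Real M) (hN : B.Real N) : B.Real (cp M N) := by
  obtain ⟨g, hg, L, hL, rfl⟩ := hM
  obtain ⟨k, hk, L', hL', rfl⟩ := hN
  exact ⟨g * k, mul_mem hg hk, _, B.actsAs_mul hL hL', cols_comp L L'⟩

theorem real_id : B.Real idM :=
  ⟨1, one_mem _, AddMonoidHom.id V3, fun v => by simp, six_mem.1⟩

theorem real_c : B.Real cM := ⟨B.c, B.c_mem_N, actH 8, B.c_actsAs, rfl⟩
theorem real_t : B.Real tM := ⟨B.t, B.t_mem_N, actH 4, B.t_actsAs, rfl⟩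

/-- An element of `N(J)` centralising `a` induces one of the six maps. -/
theorem stab_six {g : G} (hg : g ∈ Subgroup.normalizer (h.J : Set G)) (hga : g ∈ h.C) {L : V3 →+ V3}
    (hL : B.ActsAs g L) : cols L ∈ sixM := by
  set H : Set G := {x | ∃ L : V3 →+ V3, B.ActsAs x L ∧ cols L ∈ sixM} with hH
  have hmul : ∀ x ∈ H, ∀ y ∈ H, x * y ∈ H := fun x ⟨L1, a1, a2⟩ y ⟨L2, b1, b2⟩ =>
    ⟨L1.comp L2, B.actsAs_mul a1 b1, by rw [cols_comp]; exact six_closed _ a2 _ b2⟩
  have hinv : ∀ x ∈ H, x⁻¹ ∈ H := by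
    intro x hx
    have hp : ∀ n : ℕ, x ^ n ∈ H := by
      intro n
      induction n with
      | zero => exact ⟨AddMonoidHom.id V3, fun v => by simp, six_mem.1 ▸ six_mem.2.1⟩
      | succ n ih => rw [pow_succ]; exact hmul _ ih _ hx
    have he : x⁻¹ = x ^ (orderOf x - 1) := by
      rw [inv_eq_iff_mul_eq_one, ← pow_succ', Nat.sub_add_cancel (orderOf_pos x), pow_orderOf_eq_one]
    rw [he]
    exact hp _
  let S : Subgroup G :=
    { carrier := H, mul_mem' := fun hx hy => hmul _ hx _ hy, inv_mem' := fun hx => hinv _ hx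
      one_mem' := ⟨AddMonoidHom.id V3, fun v => by simp, six_mem.1 ▸ six_mem.2.1⟩ }
  have hJS : h.J ≤ S := fun j hj => ⟨AddMonoidHom.id V3, fun v => by
    rw [h.J_comm j hj _ (B.ψ_mem v), mul_inv_cancel_right]; rfl, six_mem.1 ▸ six_mem.2.1⟩
  have hcS : B.c ∈ S := ⟨actH 8, B.c_actsAs, six_mem.2.2.1⟩
  have htS : B.t ∈ S := ⟨actH 4, B.t_actsAs, six_mem.2.2.2⟩
  have hPS : h.P ≤ S := by
    have e : S ⊓ h.P = h.P := Hyp.card_eq_of_lt h.card_P inf_le_right (h.J_card ▸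
      lt_of_le_of_ne (Subgroup.card_le_of_le (le_inf hJS h.J_le_P)) fun e => B.c_not_J
        ((Subgroup.eq_of_le_of_card_ge (le_inf hJS h.J_le_P) e.ge).symm ▸
          (⟨hcS, h.R_le_P B.c_R⟩ : B.c ∈ S ⊓ h.P)))
    exact e ▸ inf_le_left
  suffices hgS : g ∈ S by
    obtain ⟨L', h1, h2⟩ := hgS
    rwa [B.actsAs_unique hL h1]
  obtain ⟨j, hj, hjR⟩ := h.J_not_le_R
  have hw : h.π ⟨j, h.J_le hj⟩ ≠ 1 := fun e => hjR ((h.mem_R_iff ⟨j, _⟩).2 e)
  have hw3 : h.π ⟨j, h.J_le hj⟩ ^ 3 = 1 := by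
    rw [← map_pow, show (⟨j, h.J_le hj⟩ : h.C) ^ 3 = 1 from Subtype.ext (h.J_exp j hj), map_one]
  have hj' := conj_mem hg hj
  -- the image of `J` has order three
  set f : ↥h.P →* SL3 := h.π.comp (Subgroup.inclusion h.P_le) with hf
  have hker : Nat.card f.ker = 27 := by
    rw [← h.R_card]
    refine Nat.card_congr
      { toFun := fun p => ⟨((p : h.P) : G), (h.mem_R_iff _).2 p.2⟩
        invFun := fun r => ⟨⟨(r : G), h.R_le_P r.2⟩, (h.mem_R_iff ⟨(r : G), h.R_le r.2⟩).1 r.2⟩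
        left_inv := fun p => rfl, right_inv := fun r => rfl }
  have hrange : Nat.card f.range = 3 := by
    have := Subgroup.card_eq_card_quotient_mul_card_subgroup f.ker
    rw [Nat.card_congr (QuotientGroup.quotientKerEquivRange f).toEquiv, hker, h.card_P] at this
    omega
  have hcases := Hyp.three_card hrange (q := ⟨h.π ⟨j, h.J_le hj⟩, ⟨j, h.J_le_P hj⟩, rfl⟩)
    (fun e => hw (congrArg Subtype.val e)) ⟨h.π ⟨_, h.J_le hj'⟩, ⟨_, h.J_le_P hj'⟩, rfl⟩
  have e0 : h.π ⟨_, h.J_le hj'⟩ = h.π ⟨g, hga⟩ * h.π ⟨j, h.J_le hj⟩ * (h.π ⟨g, hga⟩)⁻¹ := by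
    rw [← map_inv, ← map_mul, ← map_mul]; rfl
  have hinv2 : (h.π ⟨j, h.J_le hj⟩)⁻¹ = h.π ⟨j, h.J_le hj⟩ * h.π ⟨j, h.J_le hj⟩ := by
    rw [inv_eq_iff_mul_eq_one, ← hw3, pow_succ, pow_two, mul_assoc]
  have hsix := sl_norm_three _ (h.π ⟨g, hga⟩) hw3 hw (by
    rcases hcases with e | e | e
    · exfalso
      have e' : h.π ⟨g, hga⟩ * h.π ⟨j, h.J_le hj⟩ * (h.π ⟨g, hga⟩)⁻¹ = 1 :=
        e0.symm.trans (congrArg Subtype.val e)
      exact hw (conj_eq_one_iff.1 e')
    · exact Or.inl (e0.symm.trans (congrArg Subtype.val e))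
    · exact Or.inr ((e0.symm.trans (congrArg Subtype.val e)).trans hinv2))
  have hjS : (⟨j, h.J_le hj⟩ : h.C).1 ∈ S := hJS hj
  have key : ∀ p : h.C, (p : G) ∈ S → h.π ⟨g, hga⟩ = h.π p → g ∈ S := by
    intro p hp e
    have hr : ((p⁻¹ * ⟨g, hga⟩ : h.C) : G) ∈ h.R := (h.mem_R_iff _).2 (by rw [map_mul, map_inv, e, inv_mul_cancel])
    have := mul_mem hp (hPS (h.R_le_P hr))
    rwa [Subgroup.coe_mul, Subgroup.coe_inv, mul_inv_cancel_left] at this
  rcases hsix with e | e | e | e | e | e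
  · exact key 1 S.one_mem (e.trans (map_one _).symm)
  · exact key _ hjS e
  · exact key (⟨j, h.J_le hj⟩ * ⟨j, h.J_le hj⟩) (mul_mem hjS hjS) (e.trans (map_mul _ _ _).symm)
  · exact key ⟨B.t, B.t_C⟩ htS (e.trans B.t_π.symm)
  · refine key (⟨B.t, B.t_C⟩ * ⟨j, h.J_le hj⟩) (mul_mem htS hjS) (e.trans ?_)
    rw [map_mul, B.t_π, neg_one_mul]
  · refine key (⟨B.t, B.t_C⟩ * (⟨j, h.J_le hj⟩ * ⟨j, h.J_le hj⟩)) (mul_mem htS (mul_mem hjS hjS)) (e.trans ?_)
    rw [map_mul, map_mul, B.t_π, neg_one_mul]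

theorem no_wit {M : Map3} (hM : B.Real M) (w : List ℕ) (hD : (∀ n ∈ w, n ≠ 3) ∨ B.Real dM) :
    wit M w = false := by
  have hev : ∀ u : List ℕ, ((∀ n ∈ u, n ≠ 3) ∨ B.Real dM) → B.Real (evW M u) := by
    intro u
    induction u with
    | nil => exact fun _ => B.real_id
    | cons n u ih =>
      intro hu
      refine B.real_cp ?_ (ih (hu.imp_left fun hh m hm => hh m (List.mem_cons_of_mem _ hm)))
      match n, hu with
      | 0, _ => exact B.real_c
      | 1, _ => exact B.real_cp B.real_c B.real_c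
      | 2, _ => exact B.real_t
      | 3, hu => exact hu.elim (fun hh => absurd rfl (hh 3 (List.mem_cons_self))) id
      | 4, _ => exact hM
      | n + 5, _ => exact B.real_id
  obtain ⟨g, hg, L, hL, he⟩ := hev w hD
  rw [wit, Bool.and_eq_false_iff]
  by_cases hfix : ap (evW M w) 13 = 13
  · refine Or.inr ?_
    rw [← he, ← enc_aV, ap_cols] at hfix
    have hLa : L aV = aV := by rw [← (dec_enc (L aV)).1, hfix, (dec_enc aV).1]
    have hgC : g ∈ h.C := h.mem_C.2 (by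
      have := hL aV
      rw [hLa, B.ψ_a] at this
      exact mul_inv_eq_iff_eq_mul.1 this)
    rw [Bool.not_eq_false', List.contains_iff_mem, ← he]
    exact B.stab_six hg hgC hL
  · exact Or.inl (by simpa using hfix)

/-- A conjugate of the cycle induces a map of order three fixing one line. -/
theorem real_J {g : G} (hg : g ∈ Subgroup.normalizer (h.J : Set G)) {Lg L : V3 →+ V3}
    (hLg : B.ActsAs g Lg) (hL : B.ActsAs (g * B.c * g⁻¹) L) : isJ (cols L) = true := by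
  have h3 : L.comp (L.comp L) = AddMonoidHom.id V3 := by
    refine B.actsAs_unique (B.actsAs_mul hL (B.actsAs_mul hL hL)) fun v => ?_
    have e : g * B.c * g⁻¹ * (g * B.c * g⁻¹ * (g * B.c * g⁻¹)) = 1 := by
      calc _ = g * B.c ^ 3 * g⁻¹ := by simp only [pow_succ, pow_zero]; group
        _ = 1 := by rw [h.R_exp _ B.c_R, mul_one, mul_inv_cancel]
    rw [e, one_mul, inv_one, mul_one]
    rfl
  have hLL : L.comp Lg = Lg.comp (actH 8) := by
    have h1 := B.actsAs_mul hL hLg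
    rw [inv_mul_cancel_right] at h1
    exact B.actsAs_unique h1 (B.actsAs_mul hLg B.c_actsAs)
  unfold isJ
  rw [Bool.and_eq_true, beq_iff_eq, ← cols_comp, ← cols_comp, h3, six_mem.1, Bool.not_eq_true']
  refine ⟨rfl, ?_⟩
  by_contra hall
  rw [Bool.not_eq_false, Bool.and_eq_true, Bool.and_eq_true, beq_iff_eq, beq_iff_eq, beq_iff_eq] at hall
  obtain ⟨⟨a1, a2⟩, a3⟩ := hall
  have hsum : ∀ v w : V3, ad (ad (enc v) (enc w)) 0 = enc (v + w) := by decide +kernel
  have hsum2 : ∀ v w : V3, ad (enc v) (enc w) = enc (v + w) := by decide +kernel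
  set K : V3 →+ V3 := AddMonoidHom.id V3 + L + L.comp L with hK
  have hzero : ∀ v, K v = 0 := by
    have hb : ∀ v : V3, ad (ad (enc v) (enc (L v))) (enc (L (L v))) = enc (K v) := fun v => by
      rw [hsum2, hsum2]; rfl
    have h0 : ∀ u : V3, enc u = 0 → u = 0 := by decide +kernel
    have hK1 : K xV = 0 := h0 _ (by rw [← hb]; exact a1)
    have hK2 : K yV = 0 := h0 _ (by rw [← hb]; exact a2)
    have hK3 : K zV = 0 := h0 _ (by rw [← hb]; exact a3)
    intro v
    rw [basis_decomp v, map_add, map_add, map_nsmul, map_nsmul, map_nsmul, hK1, hK2, hK3]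
    simp
  have e1 := hzero (Lg xV)
  have e2 : L (Lg xV) = Lg (act 8 xV) := DFunLike.congr_fun hLL xV
  have e3 : L (Lg (act 8 xV)) = Lg (act 8 (act 8 xV)) := DFunLike.congr_fun hLL _
  simp only [hK, AddMonoidHom.add_apply, AddMonoidHom.id_apply, AddMonoidHom.comp_apply] at e1
  rw [e2, e3, ← map_add, ← map_add, ← map_zero Lg] at e1
  exact absurd (B.actsAs_inj hLg e1) (by decide +kernel)

theorem conj_c_real {g : G} (hg : g ∈ Subgroup.normalizer (h.J : Set G)) :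
    ∃ Lg L : V3 →+ V3, B.ActsAs g Lg ∧ B.ActsAs (g * B.c * g⁻¹) L ∧ B.Real (cols L) := by
  obtain ⟨Lg, hLg⟩ := B.exists_lin hg
  have hm : g * B.c * g⁻¹ ∈ Subgroup.normalizer (h.J : Set G) :=
    mul_mem (mul_mem hg B.c_mem_N) (inv_mem hg)
  obtain ⟨L, hL⟩ := B.exists_lin hm
  exact ⟨Lg, L, hLg, hL, _, hm, L, hL, rfl⟩

/-- Coordinates after a shift. -/
def shift (k : Fin 3) (hk : Function.Bijective (shiftH k)) : Base h :=
  { B with
    ψ := fun v => B.ψ (shiftH k v)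
    ψ_add := fun u v => by rw [map_add, B.ψ_add]
    ψ_inj := B.ψ_inj.comp hk.1
    ψ_mem := fun v => B.ψ_mem _
    ψ_surj := fun j hj => by
      obtain ⟨v, hv⟩ := B.ψ_surj j hj
      obtain ⟨u, rfl⟩ := hk.2 v
      exact ⟨u, hv⟩
    ψ_a := by rw [(shift_cols.2.2.2.2 k).1]; exact B.ψ_a
    c_act := fun v => by rw [B.c_act, ((shift_cols.2.2.2.2 k).2 v).1]
    t_act := fun v => by rw [B.t_act, ((shift_cols.2.2.2.2 k).2 v).2] }

/-- All conjugates of the cycle are monomial, a diagonal map being available unless all are powers. -/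
def Mono : Prop := ∀ g ∈ Subgroup.normalizer (h.J : Set G), ∀ L : V3 →+ V3,
  B.ActsAs (g * B.c * g⁻¹) L → monoM.contains (cols L) = true

theorem exists_mono {G : Type*} [Group G] [Finite G] {h : Hyp G} (B : Base h) :
    ∃ B' : Base h, B'.Mono := by
  by_cases hall : B.Mono
  · exact ⟨B, hall⟩
  simp only [Mono, not_forall] at hall
  obtain ⟨g, hg, L, hL, hnm⟩ := hall
  obtain ⟨Lg, hLg⟩ := B.exists_lin hg
  have hJM := B.real_J hg hLg hL
  have hreal : B.Real (cols L) := ⟨_, mul_mem (mul_mem hg B.c_mem_N) (inv_mem hg), L, hL, rfl⟩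
  obtain ⟨p1, p2, p3⟩ := cols_lt L
  have hA := (chk_all ⟨_, p1⟩ ⟨_, p2⟩ ⟨_, p3⟩).1
  simp only [chkA, Prod.mk.eta] at hA
  have hwA : wordsA.any (wit (cols L)) = false := by
    rw [List.any_eq_false]
    intro w hw
    rw [B.no_wit hreal w (Or.inl ?_)]
    · simp
    · revert w
      decide +kernel
  rw [hJM, hwA, Bool.eq_false_iff.2 hnm] at hA
  simp only [Bool.not_true, Bool.false_or, Bool.or_eq_true] at hA
  -- the shift and its inverse
  obtain ⟨k, k', hkk, hk'k, hsk, hsk', hcont⟩ : ∃ k k' : Fin 3,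
      (∀ v, shiftH k (shiftH k' v) = v) ∧ (∀ v, shiftH k' (shiftH k v) = v) ∧
      cols (shiftH k) = shM k ∧ cols (shiftH k') = shM k' ∧
      monoM.contains (cp (shM k') (cp (cols L) (shM k))) = true := by
    rcases hA with e | e
    · exact ⟨1, 2, fun v => (shift_cols.2.2.2.1 v).1, fun v => (shift_cols.2.2.2.1 v).2,
        shift_cols.2.1, shift_cols.2.2.1, e⟩
    · exact ⟨2, 1, fun v => (shift_cols.2.2.2.1 v).2, fun v => (shift_cols.2.2.2.1 v).1,
        shift_cols.2.2.1, shift_cols.2.1, e⟩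
  have hbij : Function.Bijective (shiftH k) :=
    ⟨Function.LeftInverse.injective hk'k, Function.RightInverse.surjective hkk⟩
  set B' := B.shift k hbij with hB'
  refine ⟨B', ?_⟩
  have hnew : ∀ {x : G} {M : V3 →+ V3}, B.ActsAs x M →
      B'.ActsAs x ((shiftH k').comp (M.comp (shiftH k))) := fun {x M} hx v => by
    show x * B.ψ (shiftH k v) * x⁻¹ = B.ψ (shiftH k (shiftH k' (M (shiftH k v))))
    rw [hkk]; exact hx _
  have hcols : ∀ M : V3 →+ V3, cols ((shiftH k').comp (M.comp (shiftH k))) =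
      cp (shM k') (cp (cols M) (shM k)) := fun M => by rw [cols_comp, cols_comp, hsk, hsk']
  -- the diagonal map is induced
  have hLgn := hnew hLg
  have hLn := hnew hL
  have hJM' := B'.real_J hg hLgn hLn
  have hreal' : B'.Real (cols ((shiftH k').comp (L.comp (shiftH k)))) :=
    ⟨_, mul_mem (mul_mem hg B.c_mem_N) (inv_mem hg), _, hLn, rfl⟩
  rw [← hcols] at hcont
  obtain ⟨n, hn, hne⟩ := List.mem_map.1 (List.contains_iff_mem.1 hcont)
  rw [← hne] at hJM' hreal'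
  obtain ⟨h3, -⟩ := mono_three ⟨n, List.mem_range.1 hn⟩ hJM'
  have hdM : B'.Real dM := by
    rcases h3 with e | e | e
    · obtain ⟨w, hw, he⟩ := List.any_eq_true.1 e
      rw [← beq_iff_eq.1 he]
      have hev : ∀ u : List ℕ, (∀ m ∈ u, m = 0 ∨ m = 1 ∨ m = 4) → B'.Real (evW (cols (act n)) u) := by
        intro u
        induction u with
        | nil => exact fun _ => B'.real_id
        | cons m u ih =>
          intro hu
          refine B'.real_cp ?_ (ih fun j hj => hu j (List.mem_cons_of_mem _ hj))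
          rcases hu m List.mem_cons_self with rfl | rfl | rfl
          · exact B'.real_c
          · exact B'.real_cp B'.real_c B'.real_c
          · exact hreal'
      refine hev w ?_
      clear he
      revert w
      decide +kernel
    all_goals exfalso; apply hnm
    all_goals
      simp only at e
      rw [List.contains_iff_mem]
      have e2 : cols L = cp (shM k) (cp (cols (act n)) (shM k')) := by
        rw [hne, hcols, ← hsk, ← hsk', ← cols_comp, ← cols_comp, ← cols_comp, ← cols_comp]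
        congr 1
        ext1 v
        simp [hkk]
      rw [e2, e]
      have hpq := (show ∀ p q : Fin 3, (cp (shM p) (shM q) = idM) → cp (shM p) (cp cM (shM q)) ∈ monoM ∧
        cp (shM p) (cp (cp cM cM) (shM q)) ∈ monoM by decide +kernel) k k' (by
          rw [← hsk, ← hsk', ← cols_comp, ← six_mem.1]
          congr 1
          ext1 v
          simp [hkk])
      first | exact hpq.1 | exact hpq.2
  intro g' hg' L' hL'
  obtain ⟨Lg', hLg'⟩ := B'.exists_lin hg'
  have hJ2 := B'.real_J hg' hLg' hL'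
  have hr2 : B'.Real (cols L') := ⟨_, mul_mem (mul_mem hg' B'.c_mem_N) (inv_mem hg'), L', hL', rfl⟩
  obtain ⟨q1, q2, q3⟩ := cols_lt L'
  have hB := (chk_all ⟨_, q1⟩ ⟨_, q2⟩ ⟨_, q3⟩).2.1
  simp only [chkB, Prod.mk.eta] at hB
  have hA' : wordsA.any (wit (cols L')) = false := by
    rw [List.any_eq_false]
    intro w _
    rw [B'.no_wit hr2 w (Or.inr hdM)]; simp
  have hB' : wordsB.any (wit (cols L')) = false := by
    rw [List.any_eq_false]
    intro w _
    rw [B'.no_wit hr2 w (Or.inr hdM)]; simp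
  rw [hJ2, hA', hB'] at hB
  simpa using hB

theorem exists_coords (hB : B.Mono) : ∀ g ∈ Subgroup.normalizer (h.J : Set G),
    ∃ k : Fin 48, ∀ v, g * B.ψ v * g⁻¹ = B.ψ (act k v) := by
  intro g hg
  obtain ⟨Lg, L, hLg, hL, hreal⟩ := B.conj_c_real hg
  have hJM := B.real_J hg hLg hL
  obtain ⟨n, hn, hne⟩ := List.mem_map.1 (List.contains_iff_mem.1 (hB g hg L hL))
  rw [← hne] at hJM hreal
  obtain ⟨h3, e, he⟩ := mono_three ⟨n, List.mem_range.1 hn⟩ hJM
  simp only at he h3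
  have hcpow : ∀ d : V3 →+ V3, B.Real (cols d) → cols (d.comp d) = idM →
      (cp (cols d) (cp (cols L) (cols d)) = cM ∨ cp (cols d) (cp (cols L) (cols d)) = cp cM cM) →
      ∃ k : Fin 48, cols (d.comp Lg) = cols (act k) := by
    intro d hd hdd hc
    have hreal2 : B.Real (cols (d.comp Lg)) := by
      rw [cols_comp]
      exact B.real_cp hd ⟨g, hg, Lg, hLg, rfl⟩
    have hLL : L.comp Lg = Lg.comp (actH 8) := by
      have h1 := B.actsAs_mul hL hLg
      rw [inv_mul_cancel_right] at h1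
      exact B.actsAs_unique h1 (B.actsAs_mul hLg B.c_actsAs)
    have hdd' : ∀ v, d (d v) = v := fun v => eq_of_cols (L := d.comp d) (M := AddMonoidHom.id V3)
      (hdd.trans six_mem.1.symm) v
    have hcm : cp (cols (d.comp Lg)) cM =
        cp (cp (cols d) (cp (cols L) (cols d))) (cols (d.comp Lg)) := by
      rw [← cols_comp L d, ← cols_comp d (L.comp d), show cM = cols (actH 8) from rfl,
        ← cols_comp (d.comp Lg) (actH 8), ← cols_comp (d.comp (L.comp d)) (d.comp Lg)]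
      congr 1
      ext1 v
      simp only [AddMonoidHom.comp_apply, hdd']
      exact congrArg d (DFunLike.congr_fun hLL v).symm
    obtain ⟨p1, p2, p3⟩ := cols_lt (d.comp Lg)
    have hC := (chk_all ⟨_, p1⟩ ⟨_, p2⟩ ⟨_, p3⟩).2.2
    simp only [chkC, Prod.mk.eta] at hC
    have hinj : ((List.range 26).any fun v => ap (cols (d.comp Lg)) (v + 1) == 0) = false := by
      rw [List.any_eq_false]
      intro v hv hz
      have hv' : v + 1 < 27 := by have := List.mem_range.1 hv; omega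
      have e1 : enc (dec (v + 1)) = v + 1 := (show ∀ m : Fin 27, enc (dec m) = m by decide +kernel) ⟨_, hv'⟩
      rw [← e1, ap_cols, beq_iff_eq] at hz
      have e2 : d (Lg (dec (v + 1))) = 0 := by
        rw [← (dec_enc (d (Lg (dec (v + 1))))).1]
        exact (congrArg dec hz).trans (by decide +kernel)
      rw [← map_zero d] at e2
      have e3 : Lg (dec (v + 1)) = 0 := by rw [← hdd' (Lg _), e2, hdd']
      rw [← map_zero Lg] at e3
      have e4 := congrArg enc (B.actsAs_inj hLg e3)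
      rw [e1, show enc (0 : V3) = 0 by decide +kernel] at e4
      omega
    have hw : wit (cols (d.comp Lg)) [4, 4] = false := B.no_wit hreal2 _ (Or.inl (by decide))
    have hnorm : ((cp (cols (d.comp Lg)) cM == cp cM (cols (d.comp Lg))) ||
        (cp (cols (d.comp Lg)) cM == cp (cp cM cM) (cols (d.comp Lg)))) = true := by
      rw [Bool.or_eq_true, beq_iff_eq, beq_iff_eq, hcm]
      rcases hc with e | e <;> rw [e]
      · exact Or.inl rfl
      · exact Or.inr rfl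
    rw [hnorm, hinj, hw] at hC
    simp only [Bool.not_true, Bool.false_or, Bool.or_false] at hC
    obtain ⟨k, hk, hke⟩ := List.mem_map.1 (List.contains_iff_mem.1 hC)
    exact ⟨⟨k, List.mem_range.1 hk⟩, hke.symm⟩
  have hfin : ∀ (d : Fin 48) (k : Fin 48), (∀ v, actH d (actH d v) = v) →
      cols ((actH d).comp Lg) = cols (act k) → ∃ m : Fin 48, ∀ v, g * B.ψ v * g⁻¹ = B.ψ (act m v) := by
    intro d k hdd hk
    have hm := mono_closed d k
    obtain ⟨m, hm', hme⟩ := List.mem_map.1 (List.contains_iff_mem.1 hm)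
    refine ⟨⟨m, List.mem_range.1 hm'⟩, fun v => ?_⟩
    rw [hLg v]
    congr 1
    refine eq_of_cols (L := Lg) (M := actH ⟨m, List.mem_range.1 hm'⟩) ?_ v
    show cols Lg = cols (act m)
    rw [hme, ← hk]
    show cols Lg = cp (cols (actH d)) (cols ((actH d).comp Lg))
    rw [← cols_comp]
    congr 1
    ext1 w
    simp only [AddMonoidHom.comp_apply, hdd]
  by_cases hpow : cols (act n) = cM ∨ cols (act n) = cp cM cM
  · obtain ⟨k, hk⟩ := hcpow (AddMonoidHom.id V3) (six_mem.1 ▸ B.real_id) (by rw [← six_mem.1]; rfl) (by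
      rw [six_mem.1, hne] at *
      rw [← six_mem.1, ← cols_comp, ← cols_comp]
      exact hpow)
    refine hfin 0 k (by decide +kernel) ?_
    rw [← hk]
    congr 1

  · have hdM : B.Real dM := by
      rcases h3 with e' | e'
      · obtain ⟨w, hw, hwe⟩ := List.any_eq_true.1 e'
        rw [← beq_iff_eq.1 hwe]
        have hev : ∀ u : List ℕ, (∀ m ∈ u, m = 0 ∨ m = 1 ∨ m = 4) → B.Real (evW (cols (act n)) u) := by
          intro u
          induction u with
          | nil => exact fun _ => B.real_id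
          | cons m u ih =>
            intro hu
            refine B.real_cp ?_ (ih fun j hj => hu j (List.mem_cons_of_mem _ hj))
            rcases hu m List.mem_cons_self with rfl | rfl | rfl
            · exact B.real_c
            · exact B.real_cp B.real_c B.real_c
            · exact hreal
        refine hev w ?_
        clear hwe
        revert w
        decide +kernel
      · exact absurd e' hpow
    obtain ⟨q0, q1, q2, q3, q4⟩ := evens_gen
    have hde : B.Real (cols (act (e : ℕ))) := by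
      fin_cases e
      · exact q0 ▸ B.real_id
      · exact q1 ▸ hdM
      · exact q2 ▸ B.real_cp B.real_c (B.real_cp hdM (B.real_cp B.real_c B.real_c))
      · exact q3 ▸ B.real_cp (B.real_cp B.real_c B.real_c) (B.real_cp hdM B.real_c)
    have hdd : cols ((actH ⟨e, by omega⟩).comp (actH ⟨e, by omega⟩)) = idM := by
      rw [cols_comp]; exact q4 e
    obtain ⟨k, hk⟩ := hcpow (actH ⟨e, by omega⟩) hde hdd (by rw [← hne]; exact he)
    exact hfin ⟨e, by omega⟩ k (fun v => eq_of_cols (L := (actH ⟨e, by omega⟩).comp (actH ⟨e, by omega⟩))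
      (M := AddMonoidHom.id V3) (hdd.trans six_mem.1.symm) v) hk

end Base

theorem Hyp.exists_coords {G : Type*} [Group G] [Finite G] (h : Hyp G) : Nonempty (Coords h) := by
  obtain ⟨B⟩ := h.exists_base
  obtain ⟨B', hB'⟩ := B.exists_mono
  exact ⟨{ B' with acts := B'.exists_coords hB' }⟩

end Cfsg.Agent.Recog.ThreeCentSp
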