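import Cfsg.Agent.Lib.Recog.ThreeCentSp.EightCent

/-!
The centraliser of an element of `J` with two nonzero coordinates normalises `J`; the centraliser of
an axis does so as well or contains the symmetric group of degree six.
-/

set_option autoImplicit false
set_option linter.unusedSectionVars false
set_option linter.style.haveILetI false
set_option maxRecDepth 20000

namespace Cfsg.Agent.Recog.ThreeCentSp

open Cfsg.Agent.Invol.PSp43Am (V3 act act_add aV xV yV zV fV gV exists_transfer mem_normalizer_of_conj_mem)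

/-- the codes of the fixers of `(1, 1, 0)` -/
def ksB : List (Fin 48) := [0, 4, 27, 31]

/-- the codes of the fixers of `(1, 0, 0)` -/
def ksX : List (Fin 48) := [0, 1, 20, 21, 26, 27, 46, 47]

set_option synthInstance.maxSize 1000 in
theorem ksB_facts : (∀ k : Fin 48, act (k : ℕ) fV = fV ↔ k ∈ ksB) ∧
    (∀ k ∈ ksB, cm k k = 0) ∧
    act 27 zV - zV = zV ∧ act 4 gV - gV = gV ∧
    (∀ u : V3, ∃ i j n : Fin 3, u = (i : ℕ) • fV + (j : ℕ) • zV + (n : ℕ) • gV) ∧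
    (∀ u : V3, u.1 + u.2.1 = 0 ↔ ∃ j n : Fin 3, u = (j : ℕ) • zV + (n : ℕ) • gV) ∧
    (∀ k ∈ ksB, ∀ u : V3, u.1 + u.2.1 = 0 → (act (k : ℕ) u).1 + (act (k : ℕ) u).2.1 = 0) :=
  ⟨by decide +kernel, by decide +kernel, by decide +kernel, by decide +kernel, by decide +kernel,
    by decide +kernel, by decide +kernel⟩

set_option synthInstance.maxSize 1000 in
theorem bz_facts : (∀ k : Fin 48, act (k : ℕ) fV = fV → act (k : ℕ) zV = zV → k = 0 ∨ k = 4) ∧
    (act 4 fV = fV ∧ act 4 zV = zV ∧ act 4 gV = -gV ∧ gV ≠ 0) ∧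
    (∀ u : V3, ∃ e, ∃ n : Fin 3, act 4 e = e ∧ u = e + (n : ℕ) • gV) :=
  ⟨by decide +kernel, by decide +kernel, by decide +kernel⟩

set_option synthInstance.maxSize 1000 in
theorem xy_facts : (∀ k : Fin 48, act (k : ℕ) xV = xV → act (k : ℕ) yV = yV → k = 0 ∨ k = 27) ∧
    (act 27 xV = xV ∧ act 27 yV = yV ∧ act 27 zV = -zV ∧ zV ≠ 0) ∧
    (∀ u : V3, ∃ e, ∃ n : Fin 3, act 27 e = e ∧ u = e + (n : ℕ) • zV) ∧
    (∀ u : V3, ∃ i j n : Fin 3, u = (i : ℕ) • xV + (j : ℕ) • yV + (n : ℕ) • zV) ∧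
    (fV + gV = (2 : ℕ) • xV ∧ fV + (2 : ℕ) • gV = (2 : ℕ) • yV) :=
  ⟨by decide +kernel, by decide +kernel, by decide +kernel, by decide +kernel, by decide +kernel⟩

set_option synthInstance.maxSize 1000 in
theorem xz_facts : (∀ k : Fin 48, act (k : ℕ) xV = xV → act (k : ℕ) zV = zV → k = 0 ∨ k = 26) ∧
    (act 26 xV = xV ∧ act 26 zV = zV ∧ act 26 yV = -yV ∧ yV ≠ 0) ∧
    (∀ u : V3, ∃ e, ∃ n : Fin 3, act 26 e = e ∧ u = e + (n : ℕ) • yV) ∧
    (∀ u : V3, ∃ i j n : Fin 3, u = (i : ℕ) • xV + (j : ℕ) • zV + (n : ℕ) • yV) :=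
  ⟨by decide +kernel, by decide +kernel, by decide +kernel, by decide +kernel⟩

set_option synthInstance.maxSize 1000 in
theorem pair_facts :
    (∀ k : Fin 48, act (k : ℕ) fV = fV → act (k : ℕ) (zV + gV) = zV + gV → k = 0) ∧
    (∀ k : Fin 48, act (k : ℕ) fV = fV → act (k : ℕ) (zV + (2 : ℕ) • gV) = zV + (2 : ℕ) • gV → k = 0) ∧
    (∀ u : V3, u.1 + u.2.1 = 0 → u ≠ 0 → ∃ e : Fin 3, (u = (e : ℕ) • zV ∨ u = (e : ℕ) • gV ∨
      u = (e : ℕ) • (zV + gV) ∨ u = (e : ℕ) • (zV + (2 : ℕ) • gV)) ∧ (e : ℕ) ≠ 0) ∧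
    (∀ e : Fin 3, (e : ℕ) ≠ 0 → ∀ u : V3, (e : ℕ) • ((e : ℕ) • u) = u) :=
  ⟨by decide +kernel, by decide +kernel, by decide +kernel, by decide +kernel⟩

set_option synthInstance.maxSize 1000 in
theorem ksX_facts : (∀ k : Fin 48, act (k : ℕ) xV = xV ↔ k ∈ ksX) ∧
    (∀ k ∈ ksX, cm (cm k k) (cm k k) = 0) ∧
    act 26 yV - yV = yV ∧ act 27 zV - zV = zV ∧
    (∀ u : V3, u.1 = 0 ↔ ∃ j n : Fin 3, u = (j : ℕ) • yV + (n : ℕ) • zV) ∧
    (∀ k ∈ ksX, ∀ u : V3, u.1 = 0 → (act (k : ℕ) u).1 = 0) ∧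
    (∀ u : V3, u.1 = 0 → u ≠ 0 → ∃ e : Fin 3, (e : ℕ) ≠ 0 ∧ (u = (e : ℕ) • yV ∨ u = (e : ℕ) • zV ∨
      ∃ k : Fin 48, u = (e : ℕ) • act (k : ℕ) fV)) :=
  ⟨by decide +kernel, by decide +kernel, by decide +kernel, by decide +kernel, by decide +kernel,
    by decide +kernel, by decide +kernel⟩

theorem sub_b : ∀ (k : Fin 48) (i : Fin 3), act (k : ℕ) fV = fV → act (k : ℕ) ((i : ℕ) • fV) = (i : ℕ) • fV := by
  decide +kernel

theorem inj_b : ∀ p q : Fin 3 × Fin 3,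
    (p.1 : ℕ) • zV + (p.2 : ℕ) • gV = (q.1 : ℕ) • zV + (q.2 : ℕ) • gV → p = q := by decide +kernel

theorem inj_x : ∀ p q : Fin 3 × Fin 3,
    (p.1 : ℕ) • yV + (p.2 : ℕ) • zV = (q.1 : ℕ) • yV + (q.2 : ℕ) • zV → p = q := by decide +kernel

theorem sub_x : ∀ (k : Fin 48) (i : ZMod 3), act (k : ℕ) xV = xV → act (k : ℕ) (i, 0, 0) = (i, 0, 0) := by
  decide +kernel

theorem card_b : Nat.card ({u : V3 // u.1 + u.2.1 = 0} × {k : Fin 48 // k ∈ ksB}) = 36 := by
  rw [Nat.card_eq_fintype_card]; decide +kernel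

/-- the dihedral group of the fixers of an axis -/
def dCode : DihedralGroup 4 → Fin 48
  | .r i => (fun j => cm (cm 27 20) j)^[i.val] 0
  | .sr i => cm 20 ((fun j => cm (cm 27 20) j)^[i.val] 0)

set_option synthInstance.maxSize 1000 in
theorem dCode_facts : (∀ p q : DihedralGroup 4, dCode (p * q) = cm (dCode p) (dCode q)) ∧
    (∀ p q : DihedralGroup 4, dCode p = dCode q → p = q) ∧ (∀ p, dCode p ∈ ksX) :=
  ⟨by decide +kernel, by decide +kernel, by decide +kernel⟩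

namespace Eight

variable {G : Type*} [Group G] [Finite G] {h : Hyp G} {K : Coords h} (T : Eight K)

theorem code_of_comm {u v : V3} {k : Fin 48}
    (e : K.ψ u * T.σ k * K.ψ v = K.ψ v * (K.ψ u * T.σ k)) : act (k : ℕ) v = v := by
  refine (T.comm_iff k v).1 (mul_left_cancel (a := K.ψ u) ?_)
  rw [← mul_assoc, e, ← mul_assoc, ← mul_assoc, K.toBase.ψ_comm]

theorem nsmul_comm {x : G} {u : V3} (e : Fin 3) (he : (e : ℕ) ≠ 0)
    (hx : x * K.ψ ((e : ℕ) • u) = K.ψ ((e : ℕ) • u) * x) : x * K.ψ u = K.ψ u * x := by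
  rw [← pair_facts.2.2.2 e he u, K.toBase.ψ_nsmul]
  exact ((show Commute x _ from hx).pow_right _).eq

include T in
theorem ψσ_N (u : V3) (k : Fin 48) : K.ψ u * T.σ k ∈ Subgroup.normalizer (h.J : Set G) :=
  mul_mem (K.toBase.ψ_N u) (T.σ_N k)

include T in
theorem cent_xy {x : G} (hx : x * K.ψ xV = K.ψ xV * x) (hy : x * K.ψ yV = K.ψ yV * x) :
    ∃ u, x = K.ψ u ∨ x = K.ψ u * T.σ 27 :=
  T.cent_two xV yV zV 27 code_pow.2.2.1 xy_facts.1 xy_facts.2.1 xy_facts.2.2.1 xy_facts.2.2.2.1 hx hy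

include T in
theorem cent_xz {x : G} (hx : x * K.ψ xV = K.ψ xV * x) (hz : x * K.ψ zV = K.ψ zV * x) :
    ∃ u, x = K.ψ u ∨ x = K.ψ u * T.σ 26 :=
  T.cent_two xV zV yV 26 code_pow.2.2.2.1 xz_facts.1 xz_facts.2.1 xz_facts.2.2.1 xz_facts.2.2.2 hx hz

include T in
theorem cent_bz {x : G} (hx : x * K.ψ fV = K.ψ fV * x) (hz : x * K.ψ zV = K.ψ zV * x) :
    ∃ u, x = K.ψ u ∨ x = K.ψ u * T.σ 4 :=
  T.cent_two fV zV gV 4 code_pow.2.2.2.2 bz_facts.1 bz_facts.2.1 bz_facts.2.2 ksB_facts.2.2.2.2.1 hx hz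

include T in
/-- The centraliser of `(1, 1, 0)` normalises `J`. -/
theorem cent_b {x : G} (hx : x * K.ψ fV = K.ψ fV * x) : x ∈ Subgroup.normalizer (h.J : Set G) := by
  classical
  haveI := Fact.mk Nat.prime_three
  set Y := Subgroup.centralizer ({K.ψ fV} : Set G) with hY
  have hJY : h.J ≤ Y := fun j hj => Subgroup.mem_centralizer_singleton_iff.2 (h.J_comm j hj _ (K.ψ_mem _))
  have hσY : ∀ k ∈ ksB, T.σ k ∈ Y := fun k hk =>
    Subgroup.mem_centralizer_singleton_iff.2 ((T.comm_iff k fV).2 ((ksB_facts.1 k).2 hk))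
  obtain ⟨L, hLY, hLn, hLc, hLs, hLe, hidx, hcov⟩ := T.exists_ker hJY ksB
    (fun k u hu => (ksB_facts.1 k).1 (T.code_of_comm (Subgroup.mem_centralizer_singleton_iff.1 hu)))
    (fun k hk => by rw [ksB_facts.2.1 k hk, code_pow.2.1]) hσY
  have hzL : K.ψ zV ∈ L := by
    have := hLc 27 (by decide) zV
    rwa [show ((27 : Fin 48) : ℕ) = 27 from rfl, ksB_facts.2.2.1] at this
  have hgL : K.ψ gV ∈ L := by
    have := hLc 4 (by decide) gV
    rwa [show ((4 : Fin 48) : ℕ) = 4 from rfl, ksB_facts.2.2.2.1] at this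
  have hin : ∀ u, K.ψ u ∈ L ↔ u.1 + u.2.1 = 0 := by
    intro u
    obtain ⟨i, j, n, rfl⟩ := ksB_facts.2.2.2.2.1 u
    have hrest : K.ψ ((j : ℕ) • zV + (n : ℕ) • gV) ∈ L := by
      rw [K.ψ_add, K.toBase.ψ_nsmul, K.toBase.ψ_nsmul]; exact mul_mem (pow_mem hzL _) (pow_mem hgL _)
    constructor
    · intro hu
      have h1 : K.ψ ((i : ℕ) • fV) ∈ L := by
        rw [add_assoc, K.ψ_add] at hu
        have := mul_mem hu (inv_mem hrest)
        rwa [mul_inv_cancel_right] at this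
      have h2 := hLe _ (fun k hk => by
        exact sub_b k i ((ksB_facts.1 k).2 hk)) h1
      rw [h2, zero_add]
      exact (ksB_facts.2.2.2.2.2.1 _).2 ⟨j, n, rfl⟩
    · intro hu
      obtain ⟨j', n', e⟩ := (ksB_facts.2.2.2.2.2.1 _).1 hu
      rw [e, K.ψ_add, K.toBase.ψ_nsmul, K.toBase.ψ_nsmul]; exact mul_mem (pow_mem hzL _) (pow_mem hgL _)
  -- the Sylow subgroup of the kernel
  set S : Subgroup L := h.J.subgroupOf L with hSdef
  have hSm : ∀ y : L, y ∈ S → ∃ u, (y : G) = K.ψ u ∧ u.1 + u.2.1 = 0 := fun y hy => by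
    obtain ⟨u, hu⟩ := K.ψ_surj _ hy
    exact ⟨u, hu.symm, (hin u).1 (hu ▸ y.2)⟩
  have hSp : IsPGroup 3 S := h.J_isPGroup.comap_of_injective _ L.subtype_injective
  set P : Sylow 3 L := hSp.toSylow hidx with hP
  have hPS : (P : Subgroup L) = S := rfl
  have hScard : Nat.card (P : Subgroup L) = 9 := by
    let f : Fin 3 × Fin 3 → S := fun q => ⟨⟨K.ψ ((q.1 : ℕ) • zV + (q.2 : ℕ) • gV),
      (hin _).2 ((ksB_facts.2.2.2.2.2.1 _).2 ⟨_, _, rfl⟩)⟩, K.ψ_mem _⟩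
    have hf : Function.Bijective f := by
      refine ⟨fun p q e => ?_, fun y => ?_⟩
      · have e' := K.ψ_inj (congrArg (fun z : S => ((z : L) : G)) e)
        exact inj_b p q e'
      · obtain ⟨u, hu, hu0⟩ := hSm y y.2
        obtain ⟨j, n, rfl⟩ := (ksB_facts.2.2.2.2.2.1 u).1 hu0
        exact ⟨(j, n), Subtype.ext (Subtype.ext hu.symm)⟩
    rw [hPS, ← Nat.card_eq_of_bijective f hf, Nat.card_eq_fintype_card]; rfl
  have hnJ : ∀ n : G, n ∈ Y → (∀ u : V3, u.1 + u.2.1 = 0 → n * K.ψ u * n⁻¹ ∈ h.J) →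
      n ∈ Subgroup.normalizer (h.J : Set G) := fun n hn hu => mem_normalizer_of_conj_mem fun y hy => by
    obtain ⟨u, rfl⟩ := K.ψ_surj y hy
    obtain ⟨i, j, m, rfl⟩ := ksB_facts.2.2.2.2.1 u
    rw [add_assoc, K.ψ_add, ← conj_mul]
    refine mul_mem ?_ (hu _ ((ksB_facts.2.2.2.2.2.1 _).2 ⟨_, _, rfl⟩))
    rw [K.toBase.ψ_nsmul, ((show Commute n (K.ψ fV) from Subgroup.mem_centralizer_singleton_iff.1 hn).pow_right _).eq,
      mul_inv_cancel_right]
    exact pow_mem (K.ψ_mem _) _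
  have hNS : ∀ n : L, n ∈ Subgroup.normalizer ((P : Subgroup L) : Set L) ↔
      ∃ k ∈ ksB, ∃ u : V3, u.1 + u.2.1 = 0 ∧ (n : G) = K.ψ u * T.σ k := by
    intro n
    constructor
    · intro hn
      have hnN := hnJ n (hLY n.2) fun u hu => (Subgroup.mem_normalizer_iff.1 hn ⟨K.ψ u, (hin u).2 hu⟩).1 (K.ψ_mem u)
      obtain ⟨u, k, e, -⟩ := T.decomp hnN
      have hk := (ksB_facts.1 k).1 (T.code_of_comm (u := u) (e ▸ Subgroup.mem_centralizer_singleton_iff.1 (hLY n.2)))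
      refine ⟨k, hk, u, (hin u).1 ?_, e⟩
      have := mul_mem n.2 (inv_mem (hLs k hk))
      rwa [e, mul_inv_cancel_right] at this
    · rintro ⟨k, hk, u, hu, e⟩
      refine mem_normalizer_of_conj_mem fun y hy => ?_
      obtain ⟨q, hq, hq0⟩ := hSm y hy
      show (n : G) * (y : G) * (n : G)⁻¹ ∈ h.J
      exact (Subgroup.mem_normalizer_iff.1 (e ▸ T.ψσ_N u k) _).1 (hq ▸ K.ψ_mem q)
  have htop := Cfsg.Agent.Fus.NineFour.normalizer_eq_top (T := P)
    ⟨⟨⟨fun p q => Subtype.ext (Subtype.ext (h.J_comm _ p.2 _ q.2))⟩⟩, fun p hp => Subtype.ext (h.J_exp _ hp)⟩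
    hScard (le_antisymm (fun n hn => by
      have hc := Subgroup.mem_centralizer_iff.1 hn
      show (n : G) ∈ h.J
      refine h.cent_J fun j hj => ?_
      obtain ⟨u, rfl⟩ := K.ψ_surj j hj
      obtain ⟨i, j, m, rfl⟩ := ksB_facts.2.2.2.2.1 u
      rw [add_assoc, K.ψ_add]
      refine ((show Commute (n : G) _ from ?_).mul_right ?_).eq
      · rw [K.toBase.ψ_nsmul]
        exact (show Commute (n : G) (K.ψ fV) from Subgroup.mem_centralizer_singleton_iff.1 (hLY n.2)).pow_right _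
      · exact (congrArg Subtype.val (hc ⟨_, (hin _).2 ((ksB_facts.2.2.2.2.2.1 _).2 ⟨j, m, rfl⟩)⟩ (K.ψ_mem _))).symm)
      (fun n hn => Subgroup.mem_centralizer_iff.2 fun y hy => Subtype.ext (h.J_comm _ hy _ hn))) (by
      let f : {u : V3 // u.1 + u.2.1 = 0} × {k : Fin 48 // k ∈ ksB} →
          Subgroup.normalizer ((P : Subgroup L) : Set L) := fun q =>
        ⟨⟨K.ψ q.1.1 * T.σ q.2.1, mul_mem ((hin _).2 q.1.2) (hLs _ q.2.2)⟩,
          (hNS _).2 ⟨_, q.2.2, _, q.1.2, rfl⟩⟩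
      have hf : Function.Bijective f := by
        refine ⟨?_, fun n => ?_⟩
        · rintro ⟨⟨u, hu⟩, ⟨k, hk⟩⟩ ⟨⟨v, hv⟩, ⟨l, hl⟩⟩ e
          have e' : K.ψ u * T.σ k = K.ψ v * T.σ l := congrArg (fun z : Subgroup.normalizer _ => ((z : L) : G)) e
          have hkl : k = l := by
            refine cm_facts.2 k l ?_
            have hh : ∀ q, act (k : ℕ) q = act (l : ℕ) q := fun q => K.ψ_inj (by
              have := congrArg (fun z => z * K.ψ q * z⁻¹) e'
              change K.ψ u * T.σ k * K.ψ q * (K.ψ u * T.σ k)⁻¹ = K.ψ v * T.σ l * K.ψ q * (K.ψ v * T.σ l)⁻¹ at this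
              rw [show K.ψ u * T.σ k * K.ψ q * (K.ψ u * T.σ k)⁻¹ = K.ψ u * (T.σ k * K.ψ q * (T.σ k)⁻¹) * (K.ψ u)⁻¹
                by group, show K.ψ v * T.σ l * K.ψ q * (K.ψ v * T.σ l)⁻¹ =
                K.ψ v * (T.σ l * K.ψ q * (T.σ l)⁻¹) * (K.ψ v)⁻¹ by group, T.σ_act, T.σ_act, K.toBase.ψ_comm u,
                mul_inv_cancel_right, K.toBase.ψ_comm v, mul_inv_cancel_right] at this
              exact this)
            unfold cols; rw [hh, hh, hh]
          subst hkl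
          have := K.ψ_inj (mul_right_cancel e')
          subst this
          rfl
        · obtain ⟨k, hk, u, hu, e⟩ := (hNS n).1 n.2
          exact ⟨(⟨u, hu⟩, ⟨k, hk⟩), Subtype.ext (Subtype.ext e.symm)⟩
      rw [← Nat.card_eq_of_bijective f hf, card_b])
    (fun n hn => by
      obtain ⟨k, hk, u, hu, e⟩ := (hNS n).1 hn
      show (n : G) * (n : G) ∈ h.J
      rw [e, show K.ψ u * T.σ k * (K.ψ u * T.σ k) =
        K.ψ u * (T.σ k * K.ψ u * (T.σ k)⁻¹) * (T.σ k * T.σ k) by group, T.σ_act, ← T.σ_mul, ksB_facts.2.1 k hk,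
        T.σ_zero, mul_one]
      exact mul_mem (K.ψ_mem _) (K.ψ_mem _))
    (fun t ht ht1 n hn => by
      obtain ⟨u, hu, hu0⟩ := hSm t ht
      have hne : u ≠ 0 := fun e => ht1 (Subtype.ext (by rw [hu, e, K.toBase.ψ_zero]; rfl))
      obtain ⟨e, hcase, he⟩ := pair_facts.2.2.1 u hu0 hne
      have hcn : (n : G) * K.ψ u = K.ψ u * n := hu ▸ congrArg Subtype.val (Subgroup.mem_centralizer_singleton_iff.1 hn)
      have hf : (n : G) * K.ψ fV = K.ψ fV * n := Subgroup.mem_centralizer_singleton_iff.1 (hLY n.2)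
      have hN : (n : G) ∈ Subgroup.normalizer (h.J : Set G) := by
        rcases hcase with r | r | r | r <;> rw [r] at hcn <;> have hc := nsmul_comm e he hcn
        · obtain ⟨q, r' | r'⟩ := T.cent_bz hf hc <;> rw [r']
          · exact K.toBase.ψ_N q
          · exact T.ψσ_N q 4
        · have h1 : (n : G) * K.ψ xV = K.ψ xV * n := by
            refine nsmul_comm (2 : Fin 3) (by decide) ?_
            show (n : G) * K.ψ ((2 : ℕ) • xV) = K.ψ ((2 : ℕ) • xV) * n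
            rw [← xy_facts.2.2.2.2.1, K.ψ_add]
            exact ((show Commute (n : G) (K.ψ fV) from hf).mul_right hc).eq
          have h2 : (n : G) * K.ψ yV = K.ψ yV * n := by
            refine nsmul_comm (2 : Fin 3) (by decide) ?_
            show (n : G) * K.ψ ((2 : ℕ) • yV) = K.ψ ((2 : ℕ) • yV) * n
            rw [← xy_facts.2.2.2.2.2, K.ψ_add, K.toBase.ψ_nsmul]
            exact ((show Commute (n : G) (K.ψ fV) from hf).mul_right ((show Commute (n : G) _ from hc).pow_right _)).eq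
          obtain ⟨q, r' | r'⟩ := T.cent_xy h1 h2 <;> rw [r']
          · exact K.toBase.ψ_N q
          · exact T.ψσ_N q 27
        · refine Subgroup.le_normalizer (h.cent_pair (K.ψ_mem fV) (K.ψ_mem (zV + gV)) (fun m hm hm1 hm2 => ?_) hf hc)
          obtain ⟨q, k, e', hk⟩ := T.decomp hm
          rw [pair_facts.1 k (T.code_of_comm (e' ▸ hm1)) (T.code_of_comm (e' ▸ hm2))] at e'
          rw [e', T.σ_zero, mul_one]; exact K.ψ_mem q
        · refine Subgroup.le_normalizer (h.cent_pair (K.ψ_mem fV) (K.ψ_mem (zV + (2 : ℕ) • gV)) (fun m hm hm1 hm2 => ?_) hf hc)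
          obtain ⟨q, k, e', hk⟩ := T.decomp hm
          rw [pair_facts.2.1 k (T.code_of_comm (e' ▸ hm1)) (T.code_of_comm (e' ▸ hm2))] at e'
          rw [e', T.σ_zero, mul_one]; exact K.ψ_mem q
      exact mem_normalizer_of_conj_mem fun y hy => (Subgroup.mem_normalizer_iff.1 hN _).1 hy)
  obtain ⟨l, hl, u, rfl⟩ := hcov x (Subgroup.mem_centralizer_singleton_iff.2 hx)
  refine mul_mem ?_ (K.toBase.ψ_N u)
  have hl' : (⟨l, hl⟩ : L) ∈ Subgroup.normalizer ((P : Subgroup L) : Set L) := htop ▸ Subgroup.mem_top _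
  exact hnJ l (hLY hl) fun v hv => (Subgroup.mem_normalizer_iff.1 hl' ⟨K.ψ v, (hin v).2 hv⟩).1 (K.ψ_mem v)

include T in
/-- The same for every element with two nonzero coordinates. -/
theorem cent_b' (k : Fin 48) {x : G} (hx : x * K.ψ (act (k : ℕ) fV) = K.ψ (act (k : ℕ) fV) * x) :
    x ∈ Subgroup.normalizer (h.J : Set G) := by
  have h1 : (T.σ k)⁻¹ * x * T.σ k ∈ Subgroup.normalizer (h.J : Set G) := T.cent_b (by
    rw [← T.σ_act] at hx
    calc (T.σ k)⁻¹ * x * T.σ k * K.ψ fV = (T.σ k)⁻¹ * (x * (T.σ k * K.ψ fV * (T.σ k)⁻¹)) * T.σ k := by group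
      _ = (T.σ k)⁻¹ * (T.σ k * K.ψ fV * (T.σ k)⁻¹ * x) * T.σ k := by rw [hx]
      _ = _ := by group)
  have h2 := mul_mem (mul_mem (T.σ_N k) h1) (inv_mem (T.σ_N k))
  rwa [show T.σ k * ((T.σ k)⁻¹ * x * T.σ k) * (T.σ k)⁻¹ = x by group] at h2

/-- The data of the larger centraliser of an axis. -/
structure BigAxis (T : Eight K) where
  L : Subgroup G
  le : ∀ y ∈ L, y * K.ψ xV = K.ψ xV * y
  normal : ∀ y : G, y * K.ψ xV = K.ψ xV * y → ∀ l ∈ L, y * l * y⁻¹ ∈ L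
  mem : ∀ u : V3, K.ψ u ∈ L ↔ u.1 = 0
  σ_mem : ∀ k ∈ ksX, T.σ k ∈ L
  cover : ∀ y : G, y * K.ψ xV = K.ψ xV * y → ∃ l ∈ L, ∃ u, y = l * K.ψ u
  iso : L ≃* Equiv.Perm (Fin 6)

include T in
/-- The centraliser of an axis. -/
theorem axis_cases : (∀ x : G, x * K.ψ xV = K.ψ xV * x → x ∈ Subgroup.normalizer (h.J : Set G)) ∨
    Nonempty (BigAxis T) := by
  classical
  haveI := Fact.mk Nat.prime_three
  set Y := Subgroup.centralizer ({K.ψ xV} : Set G) with hY
  have hJY : h.J ≤ Y := fun j hj => Subgroup.mem_centralizer_singleton_iff.2 (h.J_comm j hj _ (K.ψ_mem _))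
  have hσY : ∀ k ∈ ksX, T.σ k ∈ Y := fun k hk =>
    Subgroup.mem_centralizer_singleton_iff.2 ((T.comm_iff k xV).2 ((ksX_facts.1 k).2 hk))
  obtain ⟨L, hLY, hLn, hLc, hLs, hLe, hidx, hcov⟩ := T.exists_ker hJY ksX
    (fun k u hu => (ksX_facts.1 k).1 (T.code_of_comm (Subgroup.mem_centralizer_singleton_iff.1 hu)))
    ksX_facts.2.1 hσY
  have hyL : K.ψ yV ∈ L := by
    have := hLc 26 (by decide) yV
    rwa [show ((26 : Fin 48) : ℕ) = 26 from rfl, ksX_facts.2.2.1] at this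
  have hzL : K.ψ zV ∈ L := by
    have := hLc 27 (by decide) zV
    rwa [show ((27 : Fin 48) : ℕ) = 27 from rfl, ksX_facts.2.2.2.1] at this
  have hrest : ∀ u : V3, u.1 = 0 → K.ψ u ∈ L := fun u hu => by
    obtain ⟨j, n, e⟩ := (ksX_facts.2.2.2.2.1 u).1 hu
    rw [e, K.ψ_add, K.toBase.ψ_nsmul, K.toBase.ψ_nsmul]; exact mul_mem (pow_mem hyL _) (pow_mem hzL _)
  have hin : ∀ u : V3, K.ψ u ∈ L ↔ u.1 = 0 := fun u => by
    refine ⟨fun hu => ?_, hrest u⟩
    have h1 : K.ψ (u.1, 0, 0) ∈ L := by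
      have e : ((u.1, 0, 0) : V3) = u - (0, u.2.1, u.2.2) := by ext <;> simp
      rw [e, K.toBase.ψ_sub]
      exact mul_mem hu (inv_mem (hrest _ rfl))
    exact congrArg Prod.fst (hLe (u.1, 0, 0) (fun k hk =>
      sub_x k _ ((ksX_facts.1 k).2 hk)) h1)
  set S : Subgroup L := h.J.subgroupOf L with hSdef
  have hSm : ∀ y : L, y ∈ S → ∃ u, (y : G) = K.ψ u ∧ u.1 = 0 := fun y hy => by
    obtain ⟨u, hu⟩ := K.ψ_surj _ hy
    exact ⟨u, hu.symm, (hin u).1 (hu ▸ y.2)⟩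
  have hSp : IsPGroup 3 S := h.J_isPGroup.comap_of_injective _ L.subtype_injective
  set P : Sylow 3 L := hSp.toSylow hidx with hP
  have hScard : Nat.card S = 9 := by
    let f : Fin 3 × Fin 3 → S := fun q => ⟨⟨K.ψ ((q.1 : ℕ) • yV + (q.2 : ℕ) • zV),
      (hin _).2 ((ksX_facts.2.2.2.2.1 _).2 ⟨_, _, rfl⟩)⟩, K.ψ_mem _⟩
    have hf : Function.Bijective f := by
      refine ⟨fun p q e => ?_, fun y => ?_⟩
      · have e' := K.ψ_inj (congrArg (fun z : S => ((z : L) : G)) e)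
        exact inj_x p q e'
      · obtain ⟨u, hu, hu0⟩ := hSm y y.2
        obtain ⟨j, n, rfl⟩ := (ksX_facts.2.2.2.2.1 u).1 hu0
        exact ⟨(j, n), Subtype.ext (Subtype.ext hu.symm)⟩
    rw [← Nat.card_eq_of_bijective f hf, Nat.card_eq_fintype_card]; rfl
  have hnJ : ∀ n : G, n ∈ Y → (∀ u : V3, u.1 = 0 → n * K.ψ u * n⁻¹ ∈ h.J) →
      n ∈ Subgroup.normalizer (h.J : Set G) := fun n hn hu => mem_normalizer_of_conj_mem fun y hy => by
    obtain ⟨u, rfl⟩ := K.ψ_surj y hy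
    rw [show u = (u.1.val : ℕ) • xV + (0, u.2.1, u.2.2) by ext <;> simp, K.ψ_add, ← conj_mul]
    refine mul_mem ?_ (hu _ rfl)
    rw [K.toBase.ψ_nsmul, ((show Commute n (K.ψ xV) from Subgroup.mem_centralizer_singleton_iff.1 hn).pow_right _).eq,
      mul_inv_cancel_right]
    exact pow_mem (K.ψ_mem _) _
  set N := Subgroup.normalizer (S : Set L) with hN
  have hNS : ∀ n : L, n ∈ N → ∃ k ∈ ksX, ∃ u : V3, u.1 = 0 ∧ (n : G) = K.ψ u * T.σ k := by
    intro n hn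
    have hnN := hnJ n (hLY n.2) fun u hu => (Subgroup.mem_normalizer_iff.1 hn ⟨K.ψ u, (hin u).2 hu⟩).1 (K.ψ_mem u)
    obtain ⟨u, k, e, -⟩ := T.decomp hnN
    have hk := (ksX_facts.1 k).1 (T.code_of_comm (u := u) (e ▸ Subgroup.mem_centralizer_singleton_iff.1 (hLY n.2)))
    refine ⟨k, hk, u, (hin u).1 ?_, e⟩
    have := mul_mem n.2 (inv_mem (hLs k hk))
    rwa [e, mul_inv_cancel_right] at this
  have hσN : ∀ p, (⟨T.σ (dCode p), hLs _ (dCode_facts.2.2 p)⟩ : L) ∈ N := fun p =>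
    mem_normalizer_of_conj_mem fun y hy => (Subgroup.mem_normalizer_iff.1 (T.σ_N _) _).1 hy
  haveI : (S.subgroupOf N).Normal := Subgroup.normal_in_normalizer
  let f0 : DihedralGroup 4 →* N :=
    { toFun := fun p => ⟨_, hσN p⟩
      map_one' := Subtype.ext (Subtype.ext (by
        show T.σ (dCode 1) = 1
        rw [show dCode 1 = 0 by decide +kernel, T.σ_zero]))
      map_mul' := fun p q => Subtype.ext (Subtype.ext (by
        show T.σ (dCode (p * q)) = T.σ (dCode p) * T.σ (dCode q)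
        rw [dCode_facts.1, T.σ_mul])) }
  set f := (QuotientGroup.mk' (S.subgroupOf N)).comp f0
  have hcode : ∀ k u, K.ψ u = T.σ k → k = 0 := fun k u e => cm_facts.2 k 0 (by
    have hh : ∀ q, act (k : ℕ) q = act 0 q := fun q => K.ψ_inj (by
      rw [← T.σ_act k q, ← e, K.toBase.ψ_comm, mul_inv_cancel_right, (code_pow.1 0 q).1])
    unfold cols; rw [hh, hh, hh]; rfl)
  have hf : Function.Bijective f := by
    refine ⟨(injective_iff_map_eq_one _).2 fun p hp => ?_, fun q => ?_⟩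
    · obtain ⟨u, hu, -⟩ := hSm ((f0 p : N) : L) ((QuotientGroup.eq_one_iff (f0 p)).1 hp)
      exact dCode_facts.2.1 p 1 ((hcode _ u hu.symm).trans (by decide +kernel))
    · obtain ⟨n, rfl⟩ := QuotientGroup.mk'_surjective _ q
      obtain ⟨k, hk, u, hu, e⟩ := hNS n n.2
      obtain ⟨p, rfl⟩ := (show ∀ k ∈ ksX, ∃ p, dCode p = k by decide +kernel) k hk
      refine ⟨p, QuotientGroup.eq.2 ?_⟩
      show (T.σ (dCode p))⁻¹ * (n : L) ∈ h.J
      rw [show ((n : L) : G) = _ from e, ← mul_assoc]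
      obtain ⟨v, hv⟩ := K.ψ_surj _ ((Subgroup.mem_normalizer_iff.1 (inv_mem (T.σ_N (dCode p))) _).1 (K.ψ_mem u))
      rw [inv_inv] at hv
      rw [← hv]; exact K.ψ_mem v
  rcases Cfsg.Agent.S3333.result P S rfl hScard (le_antisymm (fun n hn => by
      have hc := Subgroup.mem_centralizer_iff.1 hn
      show (n : G) ∈ h.J
      refine h.cent_J fun j hj => ?_
      obtain ⟨u, rfl⟩ := K.ψ_surj j hj
      rw [show u = (u.1.val : ℕ) • xV + (0, u.2.1, u.2.2) by ext <;> simp, K.ψ_add]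
      refine ((show Commute (n : G) _ from ?_).mul_right ?_).eq
      · rw [K.toBase.ψ_nsmul]
        exact (show Commute (n : G) (K.ψ xV) from Subgroup.mem_centralizer_singleton_iff.1 (hLY n.2)).pow_right _
      · exact (congrArg Subtype.val (hc ⟨_, (hin _).2 rfl⟩ (K.ψ_mem _))).symm)
      (fun n hn => Subgroup.mem_centralizer_iff.2 fun y hy => Subtype.ext (h.J_comm _ hy _ hn)))
    (MulEquiv.ofBijective f hf).symm (fun t ht ht1 n hn => by
      obtain ⟨u, hu, hu0⟩ := hSm t ht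
      have hne : u ≠ 0 := fun e => ht1 (Subtype.ext (by rw [hu, e, K.toBase.ψ_zero]; rfl))
      obtain ⟨e, he, hcase⟩ := ksX_facts.2.2.2.2.2.2 u hu0 hne
      have hcn : (n : G) * K.ψ u = K.ψ u * n := hu ▸ congrArg Subtype.val (Subgroup.mem_centralizer_singleton_iff.1 hn)
      have hx : (n : G) * K.ψ xV = K.ψ xV * n := Subgroup.mem_centralizer_singleton_iff.1 (hLY n.2)
      have hNJ : (n : G) ∈ Subgroup.normalizer (h.J : Set G) := by
        rcases hcase with r | r | ⟨k, r⟩ <;> rw [r] at hcn <;> have hc := nsmul_comm e he hcn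
        · obtain ⟨q, r' | r'⟩ := T.cent_xy hx hc <;> rw [r']
          · exact K.toBase.ψ_N q
          · exact T.ψσ_N q 27
        · obtain ⟨q, r' | r'⟩ := T.cent_xz hx hc <;> rw [r']
          · exact K.toBase.ψ_N q
          · exact T.ψσ_N q 26
        · exact T.cent_b' k hc
      exact mem_normalizer_of_conj_mem fun y hy => (Subgroup.mem_normalizer_iff.1 hNJ _).1 hy) with hSn | ⟨⟨e⟩⟩
  · left
    intro x hx
    obtain ⟨l, hl, u, rfl⟩ := hcov x (Subgroup.mem_centralizer_singleton_iff.2 hx)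
    refine mul_mem ?_ (K.toBase.ψ_N u)
    exact hnJ l (hLY hl) fun v hv => hSn.conj_mem ⟨K.ψ v, (hin v).2 hv⟩ (K.ψ_mem v) ⟨l, hl⟩
  · exact Or.inr ⟨{ L := L, le := fun y hy => Subgroup.mem_centralizer_singleton_iff.1 (hLY hy)
                    normal := fun y hy l hl => hLn y (Subgroup.mem_centralizer_singleton_iff.2 hy) l hl
                    mem := hin, σ_mem := hLs
                    cover := fun y hy => hcov y (Subgroup.mem_centralizer_singleton_iff.2 hy)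
                    iso := e }⟩

end Eight

end Cfsg.Agent.Recog.ThreeCentSp
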