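import Cfsg.Agent.Lib.Recog.ThreeCentSp.EightFrame
import Cfsg.Agent.Lib.Fus.NineFour.Main
import Cfsg.Agent.S3333

/-!
Centralisers of elements of `J` in the case of eight conjugates: of pairs, of an element with two
nonzero coordinates, and of an axis.
-/

set_option autoImplicit false
set_option linter.unusedSectionVars false
set_option linter.style.haveILetI false
set_option maxRecDepth 20000

namespace Cfsg.Agent.Recog.ThreeCentSp

open Cfsg.Agent.Invol.PSp43Am (V3 act act_add aV xV yV zV fV gV exists_transfer mem_normalizer_of_conj_mem)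

set_option synthInstance.maxSize 1000 in
theorem code_pow : (∀ k : Fin 48, ∀ v : V3, act 0 v = v ∧ act k (act (cm k (cm k k)) v) = act (cm (cm k k) (cm k k)) v) ∧
    (cm 0 0 = 0 ∧ cm 27 27 = 0 ∧ cm 26 26 = 0 ∧ cm 4 4 = 0) :=
  ⟨by decide +kernel, by decide +kernel⟩

namespace Eight

variable {G : Type*} [Group G] [Finite G] {h : Hyp G} {K : Coords h} (T : Eight K)

theorem σ_N (k : Fin 48) : T.σ k ∈ Subgroup.normalizer (h.J : Set G) :=
  mem_normalizer_of_conj_mem fun y hy => by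
    obtain ⟨v, rfl⟩ := K.ψ_surj y hy
    rw [T.σ_act]
    exact K.ψ_mem _

include T in
/-- An element of `N(J)` is a translation times a section element. -/
theorem decomp {n : G} (hn : n ∈ Subgroup.normalizer (h.J : Set G)) :
    ∃ u k, n = K.ψ u * T.σ k ∧ ∀ v, n * K.ψ v * n⁻¹ = K.ψ (act (k : Fin 48) v) := by
  obtain ⟨k, hk⟩ := K.acts n hn
  obtain ⟨u, hu⟩ := K.ψ_surj (n * (T.σ k)⁻¹) (h.cent_J fun j hj => by
    obtain ⟨v, rfl⟩ := K.ψ_surj j hj
    obtain ⟨q, hq⟩ := K.ψ_surj _ ((Subgroup.mem_normalizer_iff.1 (inv_mem (T.σ_N k)) _).1 (K.ψ_mem v))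
    have hv : K.ψ (act (k : ℕ) q) = K.ψ v := by rw [← T.σ_act, hq]; group
    refine mul_inv_eq_iff_eq_mul.1 ?_
    calc n * (T.σ k)⁻¹ * K.ψ v * (n * (T.σ k)⁻¹)⁻¹
        = n * ((T.σ k)⁻¹ * K.ψ v * (T.σ k)⁻¹⁻¹) * n⁻¹ := by group
      _ = K.ψ v := by rw [← hq, hk, hv])
  exact ⟨u, k, by rw [hu, inv_mul_cancel_right], hk⟩

theorem comm_iff (k : Fin 48) (v : V3) : T.σ k * K.ψ v = K.ψ v * T.σ k ↔ act (k : ℕ) v = v := by
  constructor
  · intro e
    refine K.ψ_inj ?_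
    rw [← T.σ_act, e, mul_inv_cancel_right]
  · intro e
    refine mul_inv_eq_iff_eq_mul.1 ?_
    rw [T.σ_act, e]

/-- The transfer kernel of a subgroup whose normaliser of `J` is given by a list of codes. -/
theorem exists_ker {Y : Subgroup G} (hJY : h.J ≤ Y) (ks : List (Fin 48))
    (hcode : ∀ k, ∀ u, K.ψ u * T.σ k ∈ Y → k ∈ ks)
    (hfour : ∀ k ∈ ks, cm (cm k k) (cm k k) = 0) (hmem : ∀ k ∈ ks, T.σ k ∈ Y) :
    ∃ L : Subgroup G, L ≤ Y ∧ (∀ y ∈ Y, ∀ l ∈ L, y * l * y⁻¹ ∈ L) ∧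
      (∀ k ∈ ks, ∀ v, K.ψ (act (k : Fin 48) v - v) ∈ L) ∧ (∀ k ∈ ks, T.σ k ∈ L) ∧
      (∀ e, (∀ k ∈ ks, act (k : Fin 48) e = e) → K.ψ e ∈ L → e = 0) ∧
      (¬ 3 ∣ h.J.relIndex L) ∧ ∀ y ∈ Y, ∃ l ∈ L, ∃ u, y = l * K.ψ u := by
  classical
  haveI := Fact.mk Nat.prime_three
  have hsig : ∀ k, T.σ (cm (cm k k) (cm k k)) = T.σ k ^ 4 := fun k => by
    rw [T.σ_mul, T.σ_mul]; simp [pow_succ, mul_assoc]
  obtain ⟨S, hS⟩ := h.exists_sylow_J hJY fun n hn hnY h81 => by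
    obtain ⟨u, k, e, hk⟩ := T.decomp hn
    have hk0 := hfour k (hcode k u (e ▸ hnY))
    have h4 : n ^ 4 ∈ h.J := h.cent_J fun j hj => by
      obtain ⟨v, rfl⟩ := K.ψ_surj j hj
      refine mul_inv_eq_iff_eq_mul.1 ?_
      have h2 : ∀ w, n ^ 2 * K.ψ w * (n ^ 2)⁻¹ = K.ψ (act (cm k k : Fin 48) w) := fun w => by
        rw [act_cm, pow_two, show n * n * K.ψ w * (n * n)⁻¹ = n * (n * K.ψ w * n⁻¹) * n⁻¹ by group, hk, hk]
      rw [show 4 = 2 + 2 from rfl, pow_add,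
        show n ^ 2 * n ^ 2 * K.ψ v * (n ^ 2 * n ^ 2)⁻¹ = n ^ 2 * (n ^ 2 * K.ψ v * (n ^ 2)⁻¹) * (n ^ 2)⁻¹ by group,
        h2, h2, ← act_cm, hk0]
      exact congrArg K.ψ ((code_pow.1 0 v).1)
    have e2 : n = (n ^ 4) ^ 61 := by
      rw [← pow_mul, show 4 * 61 = 81 * 3 + 1 from rfl, pow_succ, pow_mul, h81, one_pow, one_mul]
    rw [e2]
    exact pow_mem h4 61
  obtain ⟨V, hV⟩ := exists_transfer S fun p hp q hq => by
    rw [hS] at hp hq
    exact Subtype.ext (h.J_comm _ hp _ hq)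
  set i := fun (u : V3) => (⟨K.ψ u, hJY (K.ψ_mem u)⟩ : Y)
  have hcomm : ∀ a b : (S : Subgroup Y), a * b = b * a := fun a b =>
    Subtype.ext (Subtype.ext (h.J_comm _ (hS.le a.2) _ (hS.le b.2)))
  refine ⟨V.ker.map Y.subtype, Subgroup.map_subtype_le _, ?_, ?_, ?_, ?_, ?_, ?_⟩
  · rintro y hy _ ⟨l, hl, rfl⟩
    exact ⟨⟨y, hy⟩ * l * (⟨y, hy⟩ : Y)⁻¹, V.normal_ker.conj_mem _ hl _, rfl⟩
  · intro k hk v
    refine ⟨i (act (k : ℕ) v - v), ?_, rfl⟩
    have e : i (act (k : ℕ) v - v) = (⟨T.σ k, hmem k hk⟩ : Y) * i v * (⟨T.σ k, hmem k hk⟩ : Y)⁻¹ * (i v)⁻¹ :=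
      Subtype.ext (by
        show K.ψ _ = T.σ k * K.ψ v * (T.σ k)⁻¹ * (K.ψ v)⁻¹
        rw [T.σ_act, K.toBase.ψ_sub])
    show V _ = 1
    rw [e, map_mul, map_mul, map_mul, map_inv, map_inv, hcomm (V _) (V (i v))]
    group
  · intro k hk
    refine ⟨⟨T.σ k, hmem k hk⟩, ?_, rfl⟩
    have h4 : (⟨T.σ k, hmem k hk⟩ : Y) ^ 4 = 1 := Subtype.ext (by
      rw [SubgroupClass.coe_pow, ← hsig, hfour k hk, T.σ_zero]; rfl)
    show V _ = 1
    set y := V (⟨T.σ k, hmem k hk⟩ : Y)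
    have h3 : y ^ 3 = 1 := by
      refine Subtype.ext (Subtype.ext ?_)
      exact h.J_exp _ (hS.le y.2)
    have h4' : y ^ 4 = 1 := by rw [← map_pow, h4, map_one]
    rwa [pow_succ, h3, one_mul] at h4'
  · rintro e he ⟨l, hl, hle⟩
    obtain rfl : l = i e := Subtype.ext hle
    have h1 := hV (i e) (by rw [hS]; exact K.ψ_mem e) fun n hn => Subtype.ext (by
      have hn' : (n : G) ∈ Subgroup.normalizer (h.J : Set G) := mem_normalizer_of_conj_mem fun y hy => by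
        have h1 := (Subgroup.mem_normalizer_iff.1 hn ⟨y, hJY hy⟩).1 (hS.ge hy)
        exact hS.le h1
      obtain ⟨u, k, eu, hk⟩ := T.decomp hn'
      refine mul_inv_eq_iff_eq_mul.1 ?_
      show (n : G) * K.ψ e * (n : G)⁻¹ = K.ψ e
      rw [hk, he k (hcode k u (eu ▸ n.2))])
    rw [hl] at h1
    refine K.ψ_inj ?_
    rw [K.toBase.ψ_zero]
    exact orderOf_eq_one_iff.1 (Nat.eq_one_of_dvd_coprimes
      ((Nat.Prime.coprime_iff_not_dvd Nat.prime_three).2 S.not_dvd_index)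
      (orderOf_dvd_of_pow_eq_one (h.J_exp _ (K.ψ_mem e)))
      (orderOf_dvd_of_pow_eq_one (congrArg Subtype.val h1).symm))
  · have h1 := Grp.sylow_inf_normal_relIndex S V.ker
    have e : (V.ker.map Y.subtype).subgroupOf Y = V.ker :=
      Subgroup.comap_map_eq_self_of_injective Y.subtype_injective _
    have e2 : (S : Subgroup Y).relIndex V.ker = (h.J.subgroupOf Y).relIndex ((V.ker.map Y.subtype).subgroupOf Y) := by
      rw [e]; exact congrArg (Subgroup.relIndex · V.ker) hS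
    rwa [e2, Subgroup.relIndex_subgroupOf (Subgroup.map_subtype_le _)] at h1
  · intro y hy
    have htop : V.ker ⊔ (S : Subgroup Y) = ⊤ := by
      rw [← Subgroup.index_eq_one]
      have h1 : (V.ker ⊔ (S : Subgroup Y)).index ∣ Nat.card V.range :=
        Subgroup.index_ker V ▸ Subgroup.index_dvd_of_le le_sup_left
      have h2 : (V.ker ⊔ (S : Subgroup Y)).index ∣ (S : Subgroup Y).index :=
        Subgroup.index_dvd_of_le le_sup_right
      obtain ⟨m, hm⟩ := IsPGroup.iff_card.1 S.isPGroup'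
      have h3 : Nat.card V.range ∣ 3 ^ m := hm ▸ Subgroup.card_subgroup_dvd_card _
      exact Nat.eq_one_of_dvd_coprimes (((Nat.Prime.coprime_iff_not_dvd Nat.prime_three).2
        S.not_dvd_index).pow_left m) (h1.trans h3) h2
    have hy' : (⟨y, hy⟩ : Y) ∈ V.ker ⊔ (S : Subgroup Y) := htop ▸ Subgroup.mem_top _
    obtain ⟨l, hl, s, hs, e⟩ := Subgroup.mem_sup_of_normal_left.1 hy'
    obtain ⟨u, hu⟩ := K.ψ_surj _ (hS.le hs)
    exact ⟨l, ⟨l, hl, rfl⟩, u, by rw [hu]; exact (congrArg Subtype.val e).symm⟩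

include T in
/-- The joint centraliser of two elements whose fixers in `N(J)` are one involution. -/
theorem cent_two (v w g : V3) (k₀ : Fin 48) (hk₀ : cm k₀ k₀ = 0)
    (hfix : ∀ k : Fin 48, act (k : ℕ) v = v → act (k : ℕ) w = w → k = 0 ∨ k = k₀)
    (h0 : act (k₀ : ℕ) v = v ∧ act (k₀ : ℕ) w = w ∧ act (k₀ : ℕ) g = -g ∧ g ≠ 0)
    (hdec : ∀ u, ∃ e, ∃ n : Fin 3, act (k₀ : ℕ) e = e ∧ u = e + (n : ℕ) • g)
    (hspan : ∀ u, ∃ i j n : Fin 3, u = (i : ℕ) • v + (j : ℕ) • w + (n : ℕ) • g)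
    {x : G} (hxv : x * K.ψ v = K.ψ v * x) (hxw : x * K.ψ w = K.ψ w * x) :
    ∃ u, x = K.ψ u ∨ x = K.ψ u * T.σ k₀ := by
  classical
  set Y := Subgroup.centralizer ({K.ψ v} : Set G) ⊓ Subgroup.centralizer ({K.ψ w} : Set G) with hY
  have hJY : h.J ≤ Y := fun j hj => ⟨Subgroup.mem_centralizer_singleton_iff.2 (h.J_comm j hj _ (K.ψ_mem v)),
    Subgroup.mem_centralizer_singleton_iff.2 (h.J_comm j hj _ (K.ψ_mem w))⟩
  have hk₀Y : T.σ k₀ ∈ Y := ⟨Subgroup.mem_centralizer_singleton_iff.2 ((T.comm_iff k₀ v).2 h0.1),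
    Subgroup.mem_centralizer_singleton_iff.2 ((T.comm_iff k₀ w).2 h0.2.1)⟩
  have hmem : ∀ k ∈ [0, k₀], T.σ k ∈ Y := fun k hk => by
    simp only [List.mem_cons, List.not_mem_nil, or_false] at hk
    rcases hk with rfl | rfl
    · rw [T.σ_zero]; exact one_mem _
    · exact hk₀Y
  have hcode : ∀ k, ∀ u, K.ψ u * T.σ k ∈ Y → k ∈ [0, k₀] := fun k u hu => by
    have key : ∀ z, K.ψ u * T.σ k * K.ψ z = K.ψ z * (K.ψ u * T.σ k) → act (k : ℕ) z = z := fun z e => by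
      refine (T.comm_iff k z).1 (mul_left_cancel (a := K.ψ u) ?_)
      rw [← mul_assoc, e, ← mul_assoc, ← mul_assoc, K.toBase.ψ_comm]
    have e1 := key v (Subgroup.mem_centralizer_singleton_iff.1 hu.1)
    have e2 := key w (Subgroup.mem_centralizer_singleton_iff.1 hu.2)
    rcases hfix k e1 e2 with r | r <;> simp [r]
  obtain ⟨L, hLY, hLn, hLc, hLs, hLe, -, hcov⟩ := T.exists_ker hJY [0, k₀] hcode (fun k hk => by
    simp only [List.mem_cons, List.not_mem_nil, or_false] at hk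
    rcases hk with rfl | rfl
    · rw [code_pow.2.1, code_pow.2.1]
    · rw [hk₀, code_pow.2.1]) hmem
  have hgL : K.ψ g ∈ L := by
    have := hLc k₀ (by simp) g
    rwa [h0.2.2.1, (show ∀ u : V3, -u - u = u by decide +kernel) g] at this
  have hgne : K.ψ g ≠ 1 := fun e => h0.2.2.2 (K.ψ_inj (e.trans K.toBase.ψ_zero.symm))
  have hLJ : h.J ≤ Subgroup.normalizer (L : Set G) := fun j hj =>
    mem_normalizer_of_conj_mem fun y hy => hLn j (hJY hj) y hy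
  have hLinJ : ∀ u, K.ψ u ∈ L → K.ψ u ∈ Subgroup.zpowers (K.ψ g) := fun u hu => by
    obtain ⟨e, n, he, rfl⟩ := hdec u
    rw [K.ψ_add, K.toBase.ψ_nsmul] at hu
    have he' : K.ψ e ∈ L := by
      have := mul_mem hu (inv_mem (pow_mem hgL (n : ℕ)))
      rwa [mul_inv_cancel_right] at this
    rw [hLe e (fun k hk => by
      simp only [List.mem_cons, List.not_mem_nil, or_false] at hk
      rcases hk with rfl | rfl
      · exact (code_pow.1 0 e).1
      · exact he) he', zero_add, K.toBase.ψ_nsmul]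
    exact Subgroup.npow_mem_zpowers _ _
  obtain ⟨hcard, -⟩ := h.selfcent_small hLJ hgL (h.J_exp _ (K.ψ_mem g)) hgne fun y hy hyg => by
    obtain ⟨u, rfl⟩ := K.ψ_surj y (h.cent_J fun j hj => by
      obtain ⟨u, rfl⟩ := K.ψ_surj j hj
      obtain ⟨i, j, n, rfl⟩ := hspan u
      rw [K.ψ_add, K.ψ_add, K.toBase.ψ_nsmul, K.toBase.ψ_nsmul, K.toBase.ψ_nsmul]
      have h1 : Commute y (K.ψ v) := Subgroup.mem_centralizer_singleton_iff.1 (hLY hy).1
      have h2 : Commute y (K.ψ w) := Subgroup.mem_centralizer_singleton_iff.1 (hLY hy).2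
      exact (((h1.pow_right _).mul_right (h2.pow_right _)).mul_right ((show Commute y (K.ψ g) from hyg).pow_right _)).eq)
    exact hLinJ u hy
  have hkJ : T.σ k₀ ∉ h.J := fun hJ => by
    have e := T.σ_act k₀ g
    rw [h.J_comm _ hJ _ (K.ψ_mem g), mul_inv_cancel_right, h0.2.2.1] at e
    exact h0.2.2.2 ((show ∀ u : V3, u = -u → u = 0 by decide +kernel) g (K.ψ_inj e))
  -- the six elements
  let f : Fin 3 × Fin 2 → L := fun q => ⟨K.ψ g ^ (q.1 : ℕ) * T.σ k₀ ^ (q.2 : ℕ),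
    mul_mem (pow_mem hgL _) (pow_mem (hLs k₀ (by simp)) _)⟩
  have hf : Function.Injective f := by
    rintro ⟨p, a⟩ ⟨q, b⟩ e
    have e' : K.ψ g ^ (p : ℕ) * T.σ k₀ ^ (a : ℕ) = K.ψ g ^ (q : ℕ) * T.σ k₀ ^ (b : ℕ) := congrArg Subtype.val e
    have hab : a = b := by
      by_contra hne
      refine hkJ ?_
      have : T.σ k₀ = (K.ψ g ^ (q : ℕ))⁻¹ * K.ψ g ^ (p : ℕ) ∨
          T.σ k₀ = (K.ψ g ^ (p : ℕ))⁻¹ * K.ψ g ^ (q : ℕ) := by
        fin_cases a <;> fin_cases b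
        · exact absurd rfl hne
        · exact Or.inl (eq_inv_mul_iff_mul_eq.2 (by simpa using e'.symm))
        · exact Or.inr (eq_inv_mul_iff_mul_eq.2 (by simpa using e'))
        · exact absurd rfl hne
      rcases this with r | r <;> rw [r] <;>
        exact mul_mem (inv_mem (pow_mem (K.ψ_mem _) _)) (pow_mem (K.ψ_mem _) _)
    subst hab
    have h3 := pow_inj_mod.1 (mul_right_cancel e')
    rw [orderOf_eq_prime (h.J_exp _ (K.ψ_mem g)) hgne, Nat.mod_eq_of_lt p.2, Nat.mod_eq_of_lt q.2] at h3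
    exact Prod.ext (Fin.ext h3) rfl
  have h6 : Nat.card (Fin 3 × Fin 2) = 6 := by rw [Nat.card_eq_fintype_card]; rfl
  have hle := Nat.card_le_card_of_injective f hf
  obtain ⟨l, hl, u, rfl⟩ := hcov x ⟨Subgroup.mem_centralizer_singleton_iff.2 hxv,
    Subgroup.mem_centralizer_singleton_iff.2 hxw⟩
  obtain ⟨⟨n, b⟩, hb⟩ := ((Nat.bijective_iff_injective_and_card f).2 ⟨hf, by omega⟩).2 ⟨l, hl⟩
  have hb' : K.ψ g ^ (n : ℕ) * T.σ k₀ ^ (b : ℕ) = l := congrArg Subtype.val hb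
  rw [← K.toBase.ψ_nsmul] at hb'
  fin_cases b
  · refine ⟨(n : ℕ) • g + u, Or.inl ?_⟩
    rw [← hb', K.ψ_add]
    simp
  · refine ⟨(n : ℕ) • g + act (k₀ : ℕ) u, Or.inr ?_⟩
    rw [← hb', K.ψ_add, ← T.σ_act k₀ u]
    simp only [pow_one]
    group

end Eight

end Cfsg.Agent.Recog.ThreeCentSp
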