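import Cfsg.Agent.Lib.Recog.ThreeCentSp.EightRel

/-!
The group generated by the six involutions controls the centralisers of elements of order three and of
the swap.
-/

set_option autoImplicit false
set_option linter.unusedSectionVars false
set_option linter.style.haveILetI false
set_option maxRecDepth 20000

namespace Cfsg.Agent.Recog.ThreeCentSp

open Cfsg.Agent.Invol.PSp43Am (V3 act act_add aV xV yV zV fV gV mem_normalizer_of_conj_mem)
open SymNine (S6 pA pB pF pG pT pR)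
open Cert (Controls)

/-- one step of the closure of the codes under three generators -/
def growK (l : List (Fin 48)) : List (Fin 48) :=
  (l ++ l.flatMap fun k => [cm 25 k, cm 4 k, cm 20 k]).dedup

/-- one step of the closure of the matrices under four generators -/
def growM (l : List M4) : List M4 :=
  (l ++ l.flatMap fun k => [mm4 (2, 0, 0, 2) k, mm4 (1, 0, 0, 2) k, mm4 (1, 0, 1, 1) k, mm4 (1, 1, 0, 2) k]).dedup

set_option synthInstance.maxSize 1000 in
theorem closure_facts :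
    (∀ k : Fin 48, k ∈ growK^[9] [0]) ∧
    (∀ M : M4, det4 M ≠ 0 → M ∈ growM^[8] [(1, 0, 0, 1)]) ∧
    (∀ w γ : SL3, w ^ 3 = 1 → w ≠ 1 → ∃ γ' : SL3, γ' ^ 4 = 1 ∧ ∃ n : Fin 3, γ = γ' * w ^ (n : ℕ)) ∧
    (∀ p : P3, ∃ M : M4, det4 M = 1 ∧ (tw M p).1 = 0) ∧
    (∀ v : V3, v ≠ 0 → ∃ k : Fin 48, act (k : ℕ) v = xV ∨ act (k : ℕ) v = fV ∨ act (k : ℕ) v = aV) ∧
    (∀ M N : M4, det4 M ≠ 0 → det4 N ≠ 0 → det4 (mm4 M N) ≠ 0) ∧
    (act 4 xV = yV ∧ act 20 yV = zV) ∧ (∀ u : V3, wt u = 0 → ∃ p : P3, elM p = (u, 0)) :=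
  ⟨by decide +kernel, by decide +kernel, by decide +kernel, by decide +kernel, by decide +kernel,
    by decide +kernel, by decide +kernel, by decide +kernel⟩

theorem smul_aV_eq : ∀ j : ZMod 3, j.val • aV = 0 → j = 0 := by decide +kernel

namespace Eight

variable {G : Type*} [Group G] [Finite G] {h : Hyp G} {K : Coords h} (T : Eight K)

/-- the subgroup generated by the first `n` generators -/
def genH (r : G) (n : ℕ) : Subgroup G := Subgroup.closure (T.gen r '' Set.Iio n)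

section
variable {r : G} {n : ℕ} (hn : 5 ≤ n)

include hn

theorem gen_mem {i : ℕ} (hi : i < 5) : T.gen r i ∈ T.genH r n :=
  Subgroup.subset_closure ⟨i, Set.mem_Iio.2 (by omega), rfl⟩

theorem σ_mem (k : Fin 48) : T.σ k ∈ T.genH r n := by
  have h25 : T.σ 25 ∈ T.genH r n := by
    have h := T.gen_mem hn (r := r) (i := 0) (by norm_num)
    change K.ψ 0 * T.σ 25 ∈ _ at h
    rwa [K.toBase.ψ_zero, one_mul] at h
  have h4 : T.σ 4 ∈ T.genH r n := by
    have h := T.gen_mem hn (r := r) (i := 2) (by norm_num)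
    change K.ψ 0 * T.σ 4 ∈ _ at h
    rwa [K.toBase.ψ_zero, one_mul] at h
  have h20 : T.σ 20 ∈ T.genH r n := by
    have h := T.gen_mem hn (r := r) (i := 3) (by norm_num)
    change K.ψ 0 * T.σ 20 ∈ _ at h
    rwa [K.toBase.ψ_zero, one_mul] at h
  have key : ∀ m, ∀ j ∈ growK^[m] [0], T.σ j ∈ T.genH r n := by
    intro m
    induction m with
    | zero =>
      intro j hj
      simp only [Function.iterate_zero, id_eq, List.mem_cons, List.not_mem_nil, or_false] at hj
      rw [hj, T.σ_zero]; exact one_mem _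
    | succ m ih =>
      intro j hj
      rw [Function.iterate_succ_apply'] at hj
      simp only [growK, List.mem_dedup, List.mem_append, List.mem_flatMap, List.mem_cons, List.not_mem_nil,
        or_false] at hj
      rcases hj with hj | ⟨l, hl, rfl | rfl | rfl⟩
      · exact ih j hj
      · rw [T.σ_mul]; exact mul_mem h25 (ih l hl)
      · rw [T.σ_mul]; exact mul_mem h4 (ih l hl)
      · rw [T.σ_mul]; exact mul_mem h20 (ih l hl)
  exact key 9 k (closure_facts.1 k)

theorem ψ_mem (u : V3) : K.ψ u ∈ T.genH r n := by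
  have hx : K.ψ xV ∈ T.genH r n := by
    have h1 : K.ψ (-xV) * T.σ 25 ∈ T.genH r n := T.gen_mem hn (r := r) (i := 1) (by norm_num)
    have := inv_mem (mul_mem h1 (inv_mem (T.σ_mem hn (r := r) 25)))
    rwa [mul_inv_cancel_right, K.toBase.ψ_neg, inv_inv] at this
  have hy : K.ψ yV ∈ T.genH r n := by
    have := mul_mem (mul_mem (T.σ_mem hn (r := r) 4) hx) (inv_mem (T.σ_mem hn (r := r) 4))
    rwa [T.σ_act, show act ((4 : Fin 48) : ℕ) xV = yV from closure_facts.2.2.2.2.2.2.1.1] at this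
  have hz : K.ψ zV ∈ T.genH r n := by
    have := mul_mem (mul_mem (T.σ_mem hn (r := r) 20) hy) (inv_mem (T.σ_mem hn (r := r) 20))
    rwa [T.σ_act, show act ((20 : Fin 48) : ℕ) yV = zV from closure_facts.2.2.2.2.2.2.1.2] at this
  rw [Invol.PSp43Am.basis_decomp u, K.ψ_add, K.ψ_add, K.toBase.ψ_nsmul, K.toBase.ψ_nsmul, K.toBase.ψ_nsmul]
  exact mul_mem (mul_mem (pow_mem hx _) (pow_mem hy _)) (pow_mem hz _)

theorem NJ_le : Subgroup.normalizer (h.J : Set G) ≤ T.genH r n := fun x hx => by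
  obtain ⟨u, k, rfl, -⟩ := T.decomp hx
  exact mul_mem (T.ψ_mem hn u) (T.σ_mem hn k)

theorem μ_mem {M : M4} (hM : det4 M ≠ 0) : T.μ M ∈ T.genH r n := by
  have hq : T.μ (1, 1, 0, 2) ∈ T.genH r n := T.gen_mem hn (r := r) (i := 4) (by norm_num)
  have ht : T.μ (2, 0, 0, 2) ∈ T.genH r n := by rw [T.μ_t, ← T.σ_four]; exact T.σ_mem hn 4
  have hw : T.μ (1, 0, 0, 2) ∈ T.genH r n := by rw [T.μ_w]; exact T.σ_mem hn 24
  have hz : T.μ (1, 0, 1, 1) ∈ T.genH r n := by rw [T.μ_z]; exact T.ψ_mem hn zV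
  have key : ∀ m, ∀ N ∈ growM^[m] [(1, 0, 0, 1)], det4 N ≠ 0 ∧ T.μ N ∈ T.genH r n := by
    intro m
    induction m with
    | zero =>
      intro j hj
      simp only [Function.iterate_zero, id_eq, List.mem_cons, List.not_mem_nil, or_false] at hj
      rw [hj, T.μ_one]; exact ⟨by decide, one_mem _⟩
    | succ m ih =>
      intro j hj
      rw [Function.iterate_succ_apply'] at hj
      simp only [growM, List.mem_dedup, List.mem_append, List.mem_flatMap, List.mem_cons, List.not_mem_nil,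
        or_false] at hj
      rcases hj with hj | ⟨l, hl, rfl | rfl | rfl | rfl⟩
      · exact ih j hj
      all_goals
        obtain ⟨hd, hl'⟩ := ih l hl
        refine ⟨closure_facts.2.2.2.2.2.1 _ _ (by decide) hd, ?_⟩
        rw [T.μ_mul (by decide) hd]
      exacts [mul_mem ht hl', mul_mem hw hl', mul_mem hz hl', mul_mem hq hl']
  exact (key 8 M (closure_facts.2.1 M hM)).2

theorem M_le : T.M ≤ T.genH r n := fun m hm => by
  obtain ⟨M, hM⟩ := T.exists_tr (T.M_t hm) (Or.inl (mul_inv_eq_iff_eq_mul.2 (h.mem_C.1 (T.M_C hm))))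
  rw [← T.μ_eq (Subgroup.mem_sup_left hm) hM]
  exact T.μ_mem hn hM.2.2.2

theorem R_le : h.R ≤ T.genH r n := fun x hx => by
  obtain ⟨p, rfl⟩ := T.exists_el hx
  exact mul_mem (T.ψ_mem hn _) (T.σ_mem hn _)

theorem C_le : h.C ≤ T.genH r n := by
  intro x hx
  have hzC := K.toBase.ψ_C zV
  set ww := h.π ⟨K.ψ zV, hzC⟩
  have hw3 : ww ^ 3 = 1 := by
    rw [← map_pow, show (⟨K.ψ zV, hzC⟩ : h.C) ^ 3 = 1 from Subtype.ext (h.J_exp _ (K.ψ_mem _)), map_one]
  obtain ⟨γ, hγ, j, e⟩ := closure_facts.2.2.1 ww (h.π ⟨x, hx⟩) hw3 (Two.ψ_z_π (K := K))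
  obtain ⟨m, hm, hmπ⟩ := T.M_surj hγ
  set y : h.C := (⟨m, T.M_C hm⟩ : h.C) * (⟨K.ψ zV, hzC⟩ : h.C) ^ (j : ℕ)
  have hy : (y : G) ∈ T.genH r n :=
    mul_mem (T.M_le hn hm) (pow_mem (T.ψ_mem hn zV) _)
  have hR : ((y⁻¹ * ⟨x, hx⟩ : h.C) : G) ∈ h.R := (h.mem_R_iff _).2 (by
    rw [map_mul, map_inv, show h.π y = γ * ww ^ (j : ℕ) by rw [map_mul, hmπ, map_pow], e, inv_mul_cancel])
  have := mul_mem hy (T.R_le hn hR)
  rwa [← Subgroup.coe_mul, mul_inv_cancel_left] at this

/-- What is needed of the centraliser of the first axis. -/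
theorem controls (hX : ∀ y : G, y * K.ψ xV = K.ψ xV * y → y ∈ T.genH r n) :
    Controls (T.genH r n) (T.gen r) := by
  haveI := Fact.mk Nat.prime_three
  obtain ⟨k⟩ := T.exists_kers
  have hσ := T.σ_invol act16_x.2.2.1
  have hCz : ∀ x ∈ T.D, x * K.ψ zV = K.ψ zV * x → x ∈ T.genH r n := fun x _ hx => by
    have h1 : T.σ 16 * x * T.σ 16 ∈ T.genH r n := hX _ (by
      have e : K.ψ xV = T.σ 16 * K.ψ zV * T.σ 16 :=
        ((T.σ_conj act16_x.2.2.1 zV).trans (congrArg K.ψ act16_x.2.1)).symm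
      rw [e]
      calc T.σ 16 * x * T.σ 16 * (T.σ 16 * K.ψ zV * T.σ 16)
          = T.σ 16 * (x * (T.σ 16 * T.σ 16) * K.ψ zV) * T.σ 16 := by group
        _ = T.σ 16 * (K.ψ zV * (T.σ 16 * T.σ 16) * x) * T.σ 16 := by rw [hσ, mul_one, mul_one, hx]
        _ = _ := by group)
    have h2 := mul_mem (mul_mem (T.σ_mem hn (r := r) 16) h1) (T.σ_mem hn (r := r) 16)
    rwa [show T.σ 16 * (T.σ 16 * x * T.σ 16) * T.σ 16 = (T.σ 16 * T.σ 16) * x * (T.σ 16 * T.σ 16) by group,
      hσ, one_mul, mul_one] at h2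
  have hcent : ∀ v : V3, v ≠ 0 → ∀ y : G, y * K.ψ v = K.ψ v * y → y ∈ T.genH r n := by
    intro v hv y hy
    obtain ⟨j, hj⟩ := closure_facts.2.2.2.2.1 v hv
    set y' := T.σ j * y * (T.σ j)⁻¹
    have hy' : y' * K.ψ (act (j : ℕ) v) = K.ψ (act (j : ℕ) v) * y' := by
      rw [← T.σ_act, conj_mul, conj_mul, hy]
    have hH : y' ∈ T.genH r n := by
      rcases hj with e | e | e <;> rw [e] at hy'
      · exact hX _ hy'
      · exact T.NJ_le hn (T.cent_b hy')
      · exact T.C_le hn (h.mem_C.2 (by rwa [K.ψ_a] at hy'))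
    have := mul_mem (mul_mem (inv_mem (T.σ_mem hn (r := r) j)) hH) (T.σ_mem hn (r := r) j)
    rwa [show (T.σ j)⁻¹ * y' * T.σ j = y by simp only [y']; group] at this
  refine ⟨?_, fun y hy => ?_⟩
  · have hP : h.P ≤ T.genH r n := fun p hp => by
      obtain ⟨v, i, rfl⟩ := K.toBase.P_decomp hp
      exact mul_mem (T.ψ_mem hn v) (pow_mem (T.R_le hn K.c_R) _)
    have key : ∀ w ∈ T.genH r n, orderOf w = 3 → ∃ u ∈ T.genH r n, ∃ v : V3, v ≠ 0 ∧
        u * w * u⁻¹ = K.ψ v := by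
      intro w hw ho
      have hw3 : w ^ 3 = 1 := ho ▸ pow_orderOf_eq_one w
      have hPp : IsPGroup 3 h.P := IsPGroup.of_card (n := 4) (by rw [h.card_P]; norm_num)
      obtain ⟨S, hS⟩ := (hPp.of_equiv (Subgroup.subgroupOfEquivOfLe hP).symm).exists_le_sylow
      have hSP : (S : Subgroup (T.genH r n)) = h.P.subgroupOf (T.genH r n) := by
        refine (Subgroup.eq_of_le_of_card_ge hS ?_).symm
        rw [Nat.card_congr (Subgroup.subgroupOfEquivOfLe hP).toEquiv, h.card_P,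
          ← Nat.card_congr ((S : Subgroup (T.genH r n)).equivMapOfInjective _ (T.genH r n).subtype_injective).symm.toEquiv]
        obtain ⟨x, hx⟩ := h.exists_conj_le (S.isPGroup'.map (T.genH r n).subtype)
        refine le_trans (le_of_eq ?_) (le_trans (Subgroup.card_le_of_le (K := h.P)
          (show ((S : Subgroup (T.genH r n)).map (T.genH r n).subtype).map (MulAut.conj x).toMonoidHom ≤ h.P from
            fun _ ⟨s, hs, e⟩ => e ▸ hx s hs)) (le_of_eq h.card_P))
        exact (Subgroup.card_map_of_injective (MulEquiv.injective _)).symm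
      have hwp : IsPGroup 3 (Subgroup.zpowers (⟨w, hw⟩ : T.genH r n)) :=
        IsPGroup.of_card (n := 1) (by rw [Nat.card_zpowers, Subgroup.orderOf_mk, ho, pow_one])
      obtain ⟨Q, hQ⟩ := hwp.exists_le_sylow
      obtain ⟨u, hu⟩ := MulAction.exists_smul_eq (T.genH r n) Q S
      have hp : (u : G) * w * (u : G)⁻¹ ∈ h.P := by
        have h1 : u * ⟨w, hw⟩ * u⁻¹ ∈ (S : Subgroup (T.genH r n)) := by
          rw [← hu, Sylow.coe_subgroup_smul]
          exact Subgroup.smul_mem_pointwise_smul _ (MulAut.conj u) _ (hQ (Subgroup.mem_zpowers _))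
        exact hSP.le h1
      set p := (u : G) * w * (u : G)⁻¹
      have hp3 : p ^ 3 = 1 := by rw [conj_pow, hw3, mul_one, mul_inv_cancel]
      have hne : p ≠ 1 := fun e => by
        rw [conj_eq_one_iff.1 e, orderOf_one] at ho
        exact absurd ho (by norm_num)
      obtain ⟨v, i, ep⟩ := K.toBase.P_decomp hp
      by_cases hi : i = 0
      · rw [hi, Fin.val_zero, pow_zero, mul_one] at ep
        exact ⟨u, u.2, v, fun e => hne (by rw [ep, e]; exact K.toBase.ψ_zero), ep⟩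
      have hwt : wt v = 0 := by
        have h1 := (K.toBase.cube_eq ep hi).symm.trans hp3
        exact smul_aV_eq _
          (K.ψ_inj (h1.trans K.toBase.ψ_zero.symm))
      obtain ⟨q, hq⟩ := T.exists_el (show p ∈ h.R from ep ▸ mul_mem (K.toBase.R_of_wt hwt) (pow_mem K.c_R _))
      obtain ⟨M, hM, hM0⟩ := closure_facts.2.2.2.1 q
      have hd : det4 M ≠ 0 := by rw [hM]; exact one_ne_zero
      set m := T.μ M
      have hm : m * p * m⁻¹ = T.el (tw M q) := by rw [← hq]; exact T.tr_el (T.μ_spec hd).2 q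
      have hel : T.el (tw M q) = K.ψ (elM (tw M q)).1 := by
        show K.ψ (elM (tw M q)).1 * T.σ (elM (tw M q)).2 = _
        rw [show (elM (tw M q)).2 = 0 from by
          show cI (tw M q).1 = 0
          rw [hM0]; rfl, T.σ_zero, mul_one]
      refine ⟨m * u, mul_mem (T.μ_mem hn hd) u.2, (elM (tw M q)).1, fun e => hne ?_, ?_⟩
      · refine (conj_eq_one_iff (a := m)).1 ?_
        rw [hm, hel, e]; exact K.toBase.ψ_zero
      · rw [← hel, ← hm]; simp only [p]; group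
    intro w hw ho y hyw
    obtain ⟨u₁, hu₁, v, hv, e₁⟩ := key w hw ho
    obtain ⟨u₂, hu₂, v', -, e₂⟩ := key _ hyw (by
      rw [← ho]; exact orderOf_injective (MulAut.conj y).toMonoidHom (MulAut.conj y).injective w)
    set y' := u₂ * y * u₁⁻¹
    have e : y' * K.ψ v * y'⁻¹ = K.ψ v' := by rw [← e₁, ← e₂]; simp only [y']; group
    obtain ⟨m, hm, em⟩ := h.fusion_J (K.ψ_mem v) (K.ψ_mem v') e
    have hH : m⁻¹ * y' ∈ T.genH r n := hcent v hv _ (mul_inv_eq_iff_eq_mul.1 (by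
      rw [show m⁻¹ * y' * K.ψ v * (m⁻¹ * y')⁻¹ = m⁻¹ * (y' * K.ψ v * y'⁻¹) * m by group, e, ← em]; group))
    have := mul_mem (mul_mem (inv_mem hu₂) (mul_mem (T.NJ_le hn (r := r) hm) hH)) hu₁
    rwa [mul_inv_cancel_left, show u₂⁻¹ * y' * u₁ = y by simp only [y']; group] at this
  · refine k.D_le (T.NJ_le hn) (T.M_le hn) hCz (T.mem_D.2 ?_)
    have e : T.gen r 2 = K.t := by
      show K.ψ 0 * T.σ 4 = _
      rw [K.toBase.ψ_zero, one_mul, T.σ_four]
    rwa [e] at hy

end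

include T in
theorem controls_small (hs : T.SmallCase) (r : G) : Controls (T.genH r 5) (T.gen r) := by
  refine T.controls le_rfl fun y hy => ?_
  have hσ := T.σ_invol act16_x.2.2.1
  have h1 : T.σ 16 * y * T.σ 16 ∈ Subgroup.normalizer (h.J : Set G) := hs _ (by
    have e : K.ψ zV = T.σ 16 * K.ψ xV * T.σ 16 :=
      ((T.σ_conj act16_x.2.2.1 xV).trans (congrArg K.ψ act16_x.1)).symm
    rw [e]
    calc T.σ 16 * y * T.σ 16 * (T.σ 16 * K.ψ xV * T.σ 16)
        = T.σ 16 * (y * (T.σ 16 * T.σ 16) * K.ψ xV) * T.σ 16 := by group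
      _ = T.σ 16 * (K.ψ xV * (T.σ 16 * T.σ 16) * y) * T.σ 16 := by rw [hσ, mul_one, mul_one, hy]
      _ = _ := by group)
  have h2 := mul_mem (mul_mem (T.σ_mem (r := r) le_rfl 16) (T.NJ_le (r := r) le_rfl h1)) (T.σ_mem (r := r) le_rfl 16)
  rwa [show T.σ 16 * (T.σ 16 * y * T.σ 16) * T.σ 16 = (T.σ 16 * T.σ 16) * y * (T.σ 16 * T.σ 16) by group,
    hσ, one_mul, mul_one] at h2

theorem XModel.controls_full {T : Eight K} (X : XModel T) : Controls (T.genH X.r 6) (T.gen X.r) := by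
  have h5 : 5 ≤ 6 := by norm_num
  refine T.controls h5 fun y hy => ?_
  obtain ⟨s, i, rfl⟩ := X.cover y hy
  refine mul_mem ?_ (T.ψ_mem h5 _)
  have hle : Subgroup.closure ({pA, pB, pF, pG, pR} : Set S6) ≤ (T.genH X.r 6).comap X.e := by
    rw [Subgroup.closure_le]
    intro p hp
    simp only [Set.mem_insert_iff, Set.mem_singleton_iff] at hp
    show X.e p ∈ T.genH X.r 6
    rcases hp with rfl | rfl | rfl | rfl | rfl
    · rw [X.eA]; exact T.ψ_mem h5 _
    · rw [X.eB]; exact T.ψ_mem h5 _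
    · rw [X.eF]; exact T.σ_mem h5 _
    · rw [X.eG]; exact T.σ_mem h5 _
    · exact Subgroup.subset_closure ⟨5, Set.mem_Iio.2 (by norm_num), rfl⟩
  rw [SymNine.six_closure] at hle
  exact hle (Subgroup.mem_top s)

end Eight

end Cfsg.Agent.Recog.ThreeCentSp
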