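import Cfsg.Agent.Lib.Recog.ThreeCentSp.EightSections
import Cfsg.Agent.Lib.Grp.CoprimeAbelian
import Cfsg.Agent.Lib.Grp.FpfPrime

/-!
The intersection of the two kernels: the signalizer of `C_J(t)` in `C(t)`, the generation of `C(t)` and
the commutation relations in it.
-/

set_option autoImplicit false
set_option linter.unusedSectionVars false
set_option linter.style.haveILetI false
set_option maxRecDepth 20000

namespace Cfsg.Agent.Recog.ThreeCentSp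

open Cfsg.Agent.Invol.PSp43Am (V3 act act_add aV xV yV zV fV gV mem_normalizer_of_conj_mem)
open SymNine (S6 pA pB pF pG pT pR)

set_option synthInstance.maxSize 1000 in
theorem core_lines :
    (∀ u : V3, act 4 u = u → u ≠ 0 → u = fV ∨ u = -fV ∨ u = zV ∨ u = -zV ∨ u = aV ∨ u = -aV ∨
      u = act 27 aV ∨ u = -act 27 aV) ∧
    (∀ u : V3, act 4 u = u → act 4 (act 27 u) = act 27 u ∧ act 27 (act 27 u) = u) ∧
    (aV - zV = fV ∧ act 4 (act 27 aV) = act 27 aV ∧ -(aV + act 27 aV) = fV ∧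
      aV - act 27 aV = -zV) ∧
    (act 27 zV = -zV ∧ act 7 fV = -fV ∧ act 27 fV = fV ∧ cm 27 4 = cm 4 27 ∧ cm 7 4 = cm 4 7 ∧ cm 27 27 = 0 ∧
      cm 7 7 = 0) ∧
    (∀ u : V3, u + u = -u) :=
  ⟨by decide +kernel, by decide +kernel, by decide +kernel, by decide +kernel, by decide +kernel⟩

theorem sl_orbit : ∀ γ : SL3, γ ^ 4 = 1 → γ = 1 ∨ γ = -1 ∨ γ * γ = -1 := sl_two_facts.2.2.2

namespace Eight

variable {G : Type*} [Group G] [Finite G] {h : Hyp G} {K : Coords h} (T : Eight K)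

/-- An element of `C(t)` fixing an element of order three up to `t` fixes it. -/
theorem exact_comm {x e : G} (he : e ^ 3 = 1) (het : e * K.t = K.t * e)
    (hx : x * e * x⁻¹ = e ∨ x * e * x⁻¹ = e * K.t) : x * e = e * x := by
  refine mul_inv_eq_iff_eq_mul.1 (hx.resolve_right fun r => ?_)
  have h1 : (x * e * x⁻¹) ^ 3 = 1 := by rw [conj_pow, he, mul_one, mul_inv_cancel]
  rw [r, (show Commute e K.t from het).mul_pow, he, one_mul, pow_succ, pow_two, K.t_sq, one_mul] at h1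
  exact h.neg_ne_one K.t_π (h1 ▸ Subgroup.one_mem _)

include T in
theorem t_ne : K.t ≠ 1 := fun e => h.neg_ne_one K.t_π (e ▸ Subgroup.one_mem _)

include T in
theorem σ27_D : T.σ 27 ∈ T.D := T.σ_D core_lines.2.2.2.1.2.2.2.1

include T in
theorem σ7_D : T.σ 7 ∈ T.D := T.σ_D core_lines.2.2.2.1.2.2.2.2.1

include T in
theorem σ27_inv : (T.σ 27)⁻¹ = T.σ 27 :=
  inv_eq_of_mul_eq_one_left (T.σ_invol core_lines.2.2.2.1.2.2.2.2.2.1)

namespace Kers

variable {T} (k : Kers T)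

/-- the intersection of the kernels -/
def O : Subgroup G := (k.N₁ ⊓ k.N₂).map T.D.subtype

theorem mem_O {x : G} : x ∈ k.O ↔ ∃ hx : x ∈ T.D, (⟨x, hx⟩ : T.D) ∈ k.N₁ ∧ (⟨x, hx⟩ : T.D) ∈ k.N₂ := by
  constructor
  · rintro ⟨y, hy, rfl⟩
    exact ⟨y.2, hy.1, hy.2⟩
  · rintro ⟨hx, h1, h2⟩
    exact ⟨⟨x, hx⟩, ⟨h1, h2⟩, rfl⟩

theorem O_le : k.O ≤ T.D := Subgroup.map_subtype_le _

theorem O_t {x : G} (hx : x ∈ k.O) : x * K.t = K.t * x := T.mem_D.1 (k.O_le hx)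

theorem conj_O {x d : G} (hd : d ∈ T.D) (hx : x ∈ k.O) : d * x * d⁻¹ ∈ k.O := by
  obtain ⟨hxD, h1, h2⟩ := k.mem_O.1 hx
  exact k.mem_O.2 ⟨mul_mem (mul_mem hd hxD) (inv_mem hd), k.normal₁.conj_mem _ h1 ⟨d, hd⟩,
    k.normal₂.conj_mem _ h2 ⟨d, hd⟩⟩

theorem t_O : K.t ∈ k.O := k.mem_O.2 ⟨T.t_D, k.t₁, k.t₂⟩

theorem M_O : T.M ≤ k.O := fun m hm => by
  have hγ : h.π ⟨m, T.M_C hm⟩ ^ 4 = 1 := by
    rw [← map_pow, show (⟨m, T.M_C hm⟩ : h.C) ^ 4 = 1 from Subtype.ext (T.M_four hm), map_one]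
  rcases sl_orbit _ hγ with r | r | r
  · rw [T.M_inj hm (one_mem _) (r.trans (map_one h.π).symm)]; exact one_mem _
  · rw [T.M_inj hm T.t_M (r.trans K.t_π.symm)]; exact k.t_O
  · have e : m * m = K.t := T.M_inj (mul_mem hm hm) T.t_M (by
      rw [Two.π_mul (T.M_C hm) (T.M_C hm), r]; exact K.t_π.symm)
    exact k.mem_O.2 ⟨T.mem_D.2 (T.M_t hm), k.sq₁ _ e, k.sq₂ _ e⟩

theorem z_N₁ : (⟨K.ψ zV, T.ψ_D fixed_types.2.2.1.2.1⟩ : T.D) ∈ k.N₁ := by
  have hs : (⟨T.σ 27, T.σ27_D⟩ : T.D) ∈ k.N₁ := by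
    refine k.invol₁ _ (T.σ_invol core_lines.2.2.2.1.2.2.2.2.2.1) T.nine_27 fun hc => T.not_conj_t ?_
    exact T.conj_27_25.trans hc.symm
  have h2 := mul_mem (k.normal₁.conj_mem _ hs ⟨K.ψ zV, T.ψ_D fixed_types.2.2.1.2.1⟩) (inv_mem hs)
  have h3 := inv_mem h2
  convert h3 using 1
  refine Subtype.ext ?_
  show K.ψ zV = (K.ψ zV * T.σ 27 * (K.ψ zV)⁻¹ * (T.σ 27)⁻¹)⁻¹
  rw [show K.ψ zV * T.σ 27 * (K.ψ zV)⁻¹ * (T.σ 27)⁻¹ = K.ψ zV * (T.σ 27 * (K.ψ zV)⁻¹ * (T.σ 27)⁻¹) by group,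
    ← K.toBase.ψ_neg, T.σ_act, ← K.ψ_add, ← K.toBase.ψ_neg]
  exact congrArg K.ψ (by decide +kernel)

theorem b_N₂ : (⟨K.ψ fV, T.ψ_D fixed_types.2.2.1.1⟩ : T.D) ∈ k.N₂ := by
  obtain ⟨-, -, -, -, -, -, ⟨-, e7, -, -⟩⟩ := inverter_codes
  have h25 := inv_eq_of_mul_eq_one_left (T.σ_invol xModel_codes.1.2.2)
  have hct : IsConj K.t (T.σ 7) := isConj_iff.2 ⟨T.σ 25, by
    rw [← T.σ_four, h25, ← T.σ_mul, ← T.σ_mul, e7]⟩
  have hs : (⟨T.σ 7, T.σ7_D⟩ : T.D) ∈ k.N₂ := by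
    obtain ⟨g, hg⟩ := isConj_iff.1 hct
    refine k.invol₂ _ (T.σ_invol core_lines.2.2.2.1.2.2.2.2.2.2) (by show Nine (T.σ 7); rw [← hg]; exact T.nine_t.conj g) fun d _ e => T.not_conj_t ?_
    exact (hct.trans ((isConj_iff.2 ⟨d, e⟩).trans T.conj_27_25.symm)).symm
  have h2 := mul_mem (k.normal₂.conj_mem _ hs ⟨K.ψ fV, T.ψ_D fixed_types.2.2.1.1⟩) (inv_mem hs)
  have h3 := inv_mem h2
  convert h3 using 1
  refine Subtype.ext ?_
  show K.ψ fV = (K.ψ fV * T.σ 7 * (K.ψ fV)⁻¹ * (T.σ 7)⁻¹)⁻¹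
  rw [show K.ψ fV * T.σ 7 * (K.ψ fV)⁻¹ * (T.σ 7)⁻¹ = K.ψ fV * (T.σ 7 * (K.ψ fV)⁻¹ * (T.σ 7)⁻¹) by group,
    ← K.toBase.ψ_neg, T.σ_act, ← K.ψ_add, ← K.toBase.ψ_neg]
  exact congrArg K.ψ (by decide +kernel)

theorem not_line₁ {x : T.D} {v : V3} (hv : v = fV ∨ v = aV ∨ v = act 27 aV) (hx : (x : G) = K.ψ v ∨ (x : G) = K.ψ (-v)) :
    x ∉ k.N₁ := by
  intro hm
  obtain ⟨y, hy, hym⟩ : ∃ y : T.D, (y : G) = K.ψ v ∧ y ∈ k.N₁ := by
    rcases hx with r | r
    · exact ⟨x, r, hm⟩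
    · refine ⟨x⁻¹, ?_, inv_mem hm⟩
      show (x : G)⁻¹ = _
      rw [r, K.toBase.ψ_neg, inv_inv]
  rcases hv with rfl | rfl | rfl
  · exact k.b_not y hy hym
  · refine k.a_not₁ ?_
    convert hym using 1
    exact Subtype.ext (by rw [hy, K.ψ_a])
  · refine k.a_not₁ ?_
    have := k.normal₁.conj_mem _ hym ⟨T.σ 27, T.σ27_D⟩
    convert this using 1
    refine Subtype.ext ?_
    show h.a = T.σ 27 * (y : G) * (T.σ 27)⁻¹
    rw [hy, T.σ_act, ← K.ψ_a]
    exact congrArg K.ψ (by decide +kernel)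

theorem O_E {u : V3} (hu : act 4 u = u) (hx : K.ψ u ∈ k.O) : u = 0 := by
  by_contra hne
  obtain ⟨hD, h1, h2⟩ := k.mem_O.1 hx
  rcases core_lines.1 u hu hne with r | r | r | r | r | r | r | r
  · exact k.not_line₁ (Or.inl rfl) (Or.inl (congrArg K.ψ r)) h1
  · exact k.not_line₁ (Or.inl rfl) (Or.inr (congrArg K.ψ r)) h1
  · exact k.z_not _ (congrArg K.ψ r) h2
  · refine k.z_not _ ?_ (inv_mem h2)
    show (K.ψ u)⁻¹ = _
    rw [r, K.toBase.ψ_neg, inv_inv]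
  · exact k.not_line₁ (Or.inr (Or.inl rfl)) (Or.inl (congrArg K.ψ r)) h1
  · exact k.not_line₁ (Or.inr (Or.inl rfl)) (Or.inr (congrArg K.ψ r)) h1
  · exact k.not_line₁ (Or.inr (Or.inr rfl)) (Or.inl (congrArg K.ψ r)) h1
  · exact k.not_line₁ (Or.inr (Or.inr rfl)) (Or.inr (congrArg K.ψ r)) h1

theorem O_no_three {x : G} (hx : x ∈ k.O) (h3 : x ^ 3 = 1) : x = 1 := by
  haveI := Fact.mk Nat.prime_three
  obtain ⟨S, hS⟩ := T.exists_sylow_E (show T.E ≤ T.D from inf_le_right) le_rfl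
  have hp : IsPGroup 3 (Subgroup.zpowers (⟨x, k.O_le hx⟩ : T.D)) := by
    rcases (Nat.dvd_prime Nat.prime_three).1 (orderOf_dvd_of_pow_eq_one
      (show (⟨x, k.O_le hx⟩ : T.D) ^ 3 = 1 from Subtype.ext h3)) with r | r
    · exact IsPGroup.of_card (n := 0) (by rw [Nat.card_zpowers, r, pow_zero])
    · exact IsPGroup.of_card (n := 1) (by rw [Nat.card_zpowers, r, pow_one])
  obtain ⟨Q, hQ⟩ := hp.exists_le_sylow
  obtain ⟨d, hd⟩ := MulAction.exists_smul_eq T.D Q S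
  have h1 : d * ⟨x, k.O_le hx⟩ * d⁻¹ ∈ (S : Subgroup T.D) := by
    rw [← hd, Sylow.coe_subgroup_smul]
    exact Subgroup.smul_mem_pointwise_smul _ (MulAut.conj d) _ (hQ (Subgroup.mem_zpowers _))
  obtain ⟨u, hu, e⟩ := T.exists_of_mem_E (hS.le h1)
  have e' : (d : G) * x * (d : G)⁻¹ = K.ψ u := e
  have h0 := k.O_E hu (e' ▸ k.conj_O d.2 hx)
  rw [h0, K.toBase.ψ_zero] at e'
  exact conj_eq_one_iff.1 e'

theorem O_coprime : ¬ 3 ∣ Nat.card k.O := fun hd => by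
  haveI := Fact.mk Nat.prime_three
  obtain ⟨x, hx⟩ := exists_prime_orderOf_dvd_card' 3 hd
  have h1 : (x : G) = 1 := k.O_no_three x.2 (by rw [← hx, ← Subgroup.orderOf_coe]; exact pow_orderOf_eq_one _)
  rw [← Subgroup.orderOf_coe, h1, orderOf_one] at hx
  exact absurd hx (by norm_num)

/-- `O` meets `N(J)` in `⟨t⟩`. -/
theorem O_NJ {x : G} (hx : x ∈ k.O) (hN : x ∈ Subgroup.normalizer (h.J : Set G)) : x = 1 ∨ x = K.t := by
  obtain ⟨u, j, e, hj⟩ := T.decomp hN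
  obtain ⟨hu, hj4⟩ := T.code_D (u := u) (k := j) (e ▸ k.O_le hx)
  have hfix : ∀ w, act 4 w = w → act (j : ℕ) w = w := fun w hw => by
    have hmem : K.ψ (act (j : ℕ) w - w) ∈ k.O := by
      have h1 := mul_mem hx (k.conj_O (T.ψ_D hw) (inv_mem hx))
      rwa [show x * (K.ψ w * x⁻¹ * (K.ψ w)⁻¹) = x * K.ψ w * x⁻¹ * (K.ψ w)⁻¹ by group, hj, ← K.toBase.ψ_sub] at h1
    have hf : act 4 (act (j : ℕ) w - w) = act (j : ℕ) w - w := by
      have hcomm := cm_comm_act j hj4 w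
      rw [hw] at hcomm
      have hsub : ∀ p q : V3, act 4 p = p → act 4 q = q → act 4 (p - q) = p - q := fun p q hp hq => by
        rw [sub_eq_add_neg, (show ∀ p q : V3, act 4 (p + q) = act 4 p + act 4 q from act_add 4), act_four_neg q hq, hp]
      exact hsub _ _ hcomm.symm hw
    exact sub_eq_zero.1 (k.O_E hf hmem)
  rcases bz_facts.1 j (hfix fV fixed_types.2.2.1.1) (hfix zV fixed_types.2.2.1.2.1) with r | r
  · rw [r, T.σ_zero, mul_one] at e
    left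
    rw [e, k.O_E hu (e ▸ hx), K.toBase.ψ_zero]
  · rw [r, T.σ_four] at e
    right
    have h1 : K.ψ u ∈ k.O := by
      have := mul_mem hx k.t_O
      rwa [e, mul_assoc, K.t_sq, mul_one] at this
    rw [e, k.O_E hu h1, K.toBase.ψ_zero, one_mul]

theorem C_b {x : G} (hx : x ∈ k.O) (hxb : x * K.ψ fV = K.ψ fV * x) : x = 1 ∨ x = K.t :=
  k.O_NJ hx (T.cent_b hxb)

theorem C_a {x : G} (hx : x ∈ k.O) (hxa : x * h.a = h.a * x) : x ∈ T.M := by
  obtain ⟨m, hm, e, he, hxe⟩ := T.X0_decomp (h.mem_C.2 hxa) (k.O_t hx)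
  obtain ⟨u, hu, rfl⟩ := T.exists_of_mem_E he
  have h1 : K.ψ u ∈ k.O := by
    have := mul_mem (inv_mem (k.M_O hm)) hx
    rwa [hxe, inv_mul_cancel_left] at this
  rw [hxe, k.O_E hu h1, K.toBase.ψ_zero, mul_one]
  exact hm

theorem C_a' {x : G} (hx : x ∈ k.O) (hxa : x * K.ψ (act 27 aV) = K.ψ (act 27 aV) * x) :
    T.σ 27 * x * (T.σ 27)⁻¹ ∈ T.M := by
  refine k.C_a (k.conj_O T.σ27_D hx) ?_
  have e : h.a = T.σ 27 * K.ψ (act 27 aV) * (T.σ 27)⁻¹ := by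
    rw [T.σ_act, ← K.ψ_a]
    exact congrArg K.ψ (core_lines.2.1 aV fixed_types.2.2.1.2.2).2.symm
  rw [e, conj_mul, conj_mul, hxa]

theorem C_line {x : G} {w : V3} (hw : w = act 27 aV ∨ w = zV) (hxa : x * h.a = h.a * x)
    (hxw : x * K.ψ w = K.ψ w * x) : x * K.ψ fV = K.ψ fV * x := by
  have ha : Commute x (K.ψ aV) := by rw [K.ψ_a]; exact hxa
  have hb : Commute x (K.ψ w) := hxw
  rcases hw with rfl | rfl
  · rw [← core_lines.2.2.1.2.2.1, K.toBase.ψ_neg, K.ψ_add]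
    exact (ha.mul_right hb).inv_right.eq
  · rw [← core_lines.2.2.1.1, K.toBase.ψ_sub]
    exact (ha.mul_right hb.inv_right).eq

/-- Generation of the signalizer. -/
theorem O_le_of {H : Subgroup G} (hM : T.M ≤ H) (h27 : T.σ 27 ∈ H) (ht : K.t ∈ H)
    (hz : ∀ x ∈ k.O, x * K.ψ zV = K.ψ zV * x → x ∈ H) : k.O ≤ H := by
  haveI : IsMulCommutative T.E := ⟨⟨fun p q => Subtype.ext (h.J_comm _ p.2.1 _ q.2.1)⟩⟩
  have hcyc : ¬ IsCyclic T.E := fun hc => by
    obtain ⟨g, hg⟩ := hc.exists_generator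
    have := orderOf_eq_card_of_forall_mem_zpowers hg
    rw [T.E_card] at this
    have h3 : orderOf g ∣ 3 := orderOf_dvd_of_pow_eq_one (Subtype.ext (h.J_exp _ g.2.1))
    rw [this] at h3
    exact absurd (Nat.le_of_dvd (by norm_num) h3) (by norm_num)
  have hEN : T.E ≤ Subgroup.normalizer (k.O : Set G) := fun e he =>
    mem_normalizer_of_conj_mem fun y hy => k.conj_O (show e ∈ T.D from he.2) hy
  have hcop : (Nat.card T.E).Coprime (Nat.card k.O) := by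
    rw [T.E_card]
    exact ((Nat.Prime.coprime_iff_not_dvd Nat.prime_three).2 k.O_coprime).pow_left 2
  rw [← Grp.generated_by_centralizers T.E k.O hcyc hEN hcop]
  refine iSup₂_le fun e he => ?_
  rintro x ⟨hx, hxe⟩
  obtain ⟨u, hu, rfl⟩ := T.exists_of_mem_E he.1
  have hu0 : u ≠ 0 := fun r => he.2 (by rw [r, K.toBase.ψ_zero])
  have hc : Commute x (K.ψ u) := Subgroup.mem_centralizer_singleton_iff.1 hxe
  have hneg : ∀ v, u = -v → Commute x (K.ψ v) := fun v r => by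
    have := hc.inv_right
    rwa [r, K.toBase.ψ_neg, inv_inv] at this
  have hb : Commute x (K.ψ fV) → x ∈ H := fun hh => by
    rcases k.C_b hx hh.eq with r | r <;> rw [r]
    exacts [one_mem _, ht]
  have ha : Commute x (K.ψ aV) → x ∈ H := fun hh => hM (k.C_a hx (by rw [← K.ψ_a]; exact hh.eq))
  have ha' : Commute x (K.ψ (act 27 aV)) → x ∈ H := fun hh => by
    have := mul_mem (mul_mem (inv_mem h27) (hM (k.C_a' hx hh.eq))) h27
    rwa [show (T.σ 27)⁻¹ * (T.σ 27 * x * (T.σ 27)⁻¹) * T.σ 27 = x by group] at this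
  rcases core_lines.1 u hu hu0 with r | r | r | r | r | r | r | r
  · exact hb (r ▸ hc)
  · exact hb (hneg _ r)
  · exact hz x hx (r ▸ hc).eq
  · exact hz x hx (hneg _ r).eq
  · exact ha (r ▸ hc)
  · exact ha (hneg _ r)
  · exact ha' (r ▸ hc)
  · exact ha' (hneg _ r)

/-- Conjugate elements of order three of the same coset of `O` are conjugate by an element of `O`. -/
theorem coset_conj {y : G} (hy : y ∈ T.D) {v w : V3} (hv : act 4 v = v) (hw : act 4 w = w) (hw0 : w ≠ 0)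
    (hmem : y * K.ψ v * y⁻¹ * (K.ψ w)⁻¹ ∈ k.O) :
    ∃ u ∈ k.O, y * K.ψ v * y⁻¹ = u * K.ψ w * u⁻¹ := by
  haveI := Fact.mk Nat.prime_three
  set c := y * K.ψ v * y⁻¹
  set P := Subgroup.zpowers (K.ψ w)
  have hPN : P ≤ Subgroup.normalizer (k.O : Set G) := fun e he =>
    mem_normalizer_of_conj_mem fun z hz => k.conj_O (Subgroup.zpowers_le.2 (T.ψ_D hw) he) hz
  set X := k.O ⊔ P
  have hX : ∀ x ∈ X, ∃ o ∈ k.O, ∃ i : ℤ, x = o * K.ψ w ^ i := fun x hx => by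
    rw [← SetLike.mem_coe, Subgroup.coe_mul_of_right_le_normalizer_left _ _ hPN, Set.mem_mul] at hx
    obtain ⟨o, ho, p, hp, e⟩ := hx
    obtain ⟨i, rfl⟩ := Subgroup.mem_zpowers_iff.1 hp
    exact ⟨o, ho, i, e.symm⟩
  have hoP : orderOf (K.ψ w) = 3 := orderOf_eq_prime (h.J_exp _ (K.ψ_mem w)) (ψ_ne_one hw0)
  have hc3 : c ^ 3 = 1 := by rw [conj_pow, h.J_exp _ (K.ψ_mem v), mul_one, mul_inv_cancel]
  have hc1 : c ≠ 1 := fun e => hw0 (k.O_E hw (by
    have := inv_mem hmem; rwa [e, one_mul, inv_inv] at this))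
  have hcX : c ∈ X := by
    have := mul_mem (Subgroup.mem_sup_left (T := P) hmem) (Subgroup.mem_sup_right (S := k.O) (Subgroup.mem_zpowers (K.ψ w)))
    rwa [inv_mul_cancel_right] at this
  -- Sylow subgroups of `X`
  have hwX : K.ψ w ∈ X := Subgroup.mem_sup_right (Subgroup.mem_zpowers _)
  have hcard : ∀ U : Subgroup X, IsPGroup 3 U → Nat.card U ≤ 3 := fun U hU => by
    let f : U → Fin 3 := fun x => ⟨((hX _ (x : X).2).choose_spec.2.choose % 3).toNat, by omega⟩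
    have hf : Function.Injective f := by
      intro p q e
      obtain ⟨hp1, hp2⟩ := (hX _ (p : X).2).choose_spec
      obtain ⟨hq1, hq2⟩ := (hX _ (q : X).2).choose_spec
      set op := (hX _ (p : X).2).choose
      set oq := (hX _ (q : X).2).choose
      have ep := hp2.choose_spec
      have eq' := hq2.choose_spec
      set ip := hp2.choose
      set iq := hq2.choose
      have hmod : ip % 3 = iq % 3 := by
        have h0 : (ip % 3).toNat = (iq % 3).toNat := congrArg Fin.val e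
        omega
      have hpw : K.ψ w ^ ip = K.ψ w ^ iq := by
        rw [zpow_eq_zpow_emod ip (n := 3) (by exact_mod_cast h.J_exp _ (K.ψ_mem w)),
          zpow_eq_zpow_emod iq (n := 3) (by exact_mod_cast h.J_exp _ (K.ψ_mem w))]
        exact congrArg _ hmod
      have hd : ((p * q⁻¹ : U) : G) ∈ k.O := by
        show ((p : X) : G) * ((q : X) : G)⁻¹ ∈ k.O
        rw [ep, eq', hpw, mul_inv_rev, mul_assoc, mul_inv_cancel_left]
        exact mul_mem hp1 (inv_mem hq1)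
      obtain ⟨n, hn⟩ := hU (p * q⁻¹)
      have hone : ((p * q⁻¹ : U) : G) = 1 := by
        refine orderOf_eq_one_iff.1 (Nat.eq_one_of_dvd_coprimes
          (((Nat.Prime.coprime_iff_not_dvd Nat.prime_three).2 k.O_coprime).pow_left n)
          ?_ (Subgroup.orderOf_dvd_natCard _ hd))
        exact orderOf_dvd_of_pow_eq_one (congrArg (fun z : U => ((z : X) : G)) hn)
      exact mul_inv_eq_one.1 (Subtype.ext (Subtype.ext hone))
    simpa using Nat.card_le_card_of_injective f hf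
  have hzp : ∀ (z : X), (z : G) ^ 3 = 1 → z ≠ 1 → IsPGroup 3 (Subgroup.zpowers z) ∧ Nat.card (Subgroup.zpowers z) = 3 := by
    intro z hz hz1
    have ho : orderOf z = 3 := orderOf_eq_prime (Subtype.ext hz) hz1
    exact ⟨IsPGroup.of_card (n := 1) (by rw [Nat.card_zpowers, ho, pow_one]), by rw [Nat.card_zpowers, ho]⟩
  obtain ⟨hp1, hn1⟩ := hzp ⟨c, hcX⟩ hc3 (fun e => hc1 (congrArg Subtype.val e))
  obtain ⟨hp2, hn2⟩ := hzp ⟨_, hwX⟩ (h.J_exp _ (K.ψ_mem w)) (fun e => ψ_ne_one hw0 (congrArg Subtype.val e))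
  obtain ⟨S₁, hS₁⟩ := hp1.exists_le_sylow
  obtain ⟨S₂, hS₂⟩ := hp2.exists_le_sylow
  have e2 := Subgroup.eq_of_le_of_card_ge hS₂ (by rw [hn2]; exact hcard _ S₂.isPGroup')
  obtain ⟨g, hg⟩ := MulAction.exists_smul_eq X S₁ S₂
  have hgc : g * ⟨c, hcX⟩ * g⁻¹ ∈ (S₂ : Subgroup X) := by
    rw [← hg, Sylow.coe_subgroup_smul]
    exact Subgroup.smul_mem_pointwise_smul _ (MulAut.conj g) _ (hS₁ (Subgroup.mem_zpowers _))
  rw [← e2] at hgc
  obtain ⟨i, hi⟩ := Subgroup.mem_zpowers_iff.1 hgc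
  have hi' : K.ψ w ^ i = (g : G) * c * (g : G)⁻¹ := congrArg Subtype.val hi
  obtain ⟨o, ho, j, eg⟩ := hX _ (inv_mem g.2)
  refine ⟨o, ho, ?_⟩
  have hc' : c = o * K.ψ w ^ i * o⁻¹ := by
    have h1 : c = (g : G)⁻¹ * K.ψ w ^ i * ((g : G)⁻¹)⁻¹ := by rw [hi']; group
    rw [h1, eg]
    group
  suffices hone : K.ψ w ^ i = K.ψ w by rw [hc', hone]
  have hoc : K.ψ w ^ i * (K.ψ w)⁻¹ ∈ k.O := by
    have h2 : K.ψ w ^ i * o⁻¹ * (K.ψ w ^ i)⁻¹ ∈ k.O := k.conj_O (zpow_mem (T.ψ_D hw) i) (inv_mem ho)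
    have h3 := mul_mem (inv_mem (mul_mem ho h2)) hmem
    rwa [hc', show (o * (K.ψ w ^ i * o⁻¹ * (K.ψ w ^ i)⁻¹))⁻¹ * (o * K.ψ w ^ i * o⁻¹ * (K.ψ w)⁻¹) =
      K.ψ w ^ i * (K.ψ w)⁻¹ by group] at h3
  refine mul_inv_eq_one.1 (k.O_no_three hoc ?_)
  rw [((Commute.refl (K.ψ w)).zpow_left i).inv_right.mul_pow, inv_pow, h.J_exp _ (K.ψ_mem w), inv_one, mul_one,
    ← zpow_natCast, ← zpow_mul, mul_comm, zpow_mul, zpow_natCast, h.J_exp _ (K.ψ_mem w), one_zpow]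

include k in
/-- `C(t)` is generated by the signalizer and the centraliser of the third axis. -/
theorem D_le {H : Subgroup G} (hNJ : Subgroup.normalizer (h.J : Set G) ≤ H) (hM : T.M ≤ H)
    (hz : ∀ x ∈ T.D, x * K.ψ zV = K.ψ zV * x → x ∈ H) : T.D ≤ H := by
  have hO : k.O ≤ H := k.O_le_of hM (hNJ (T.σ_N 27)) (T.σ_four ▸ hNJ (T.σ_N 4))
    fun x hx hxz => hz x (k.O_le hx) hxz
  have hzf := fixed_types.2.2.1.2.1
  have hN1 : ∀ y : T.D, y ∈ k.N₁ → ∃ u ∈ k.O, (u⁻¹ * (y : G)) * K.ψ fV = K.ψ fV * (u⁻¹ * (y : G)) := by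
    intro y hy
    have h1 : y * ⟨K.ψ fV, T.ψ_D fixed_types.2.2.1.1⟩ * y⁻¹ * (⟨K.ψ fV, T.ψ_D fixed_types.2.2.1.1⟩ : T.D)⁻¹ ∈ k.N₁ := by
      rw [mul_assoc, mul_assoc y]
      refine mul_mem hy ?_
      rw [← mul_assoc]
      exact k.normal₁.conj_mem _ (inv_mem hy) _
    have h2 := mul_mem (k.normal₂.conj_mem _ k.b_N₂ y) (inv_mem k.b_N₂)
    obtain ⟨u, hu, e⟩ := k.coset_conj y.2 fixed_types.2.2.1.1 fixed_types.2.2.1.1 (by decide +kernel)
      (k.mem_O.2 ⟨_, h1, h2⟩)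
    refine ⟨u, hu, mul_inv_eq_iff_eq_mul.1 ?_⟩
    rw [show u⁻¹ * (y : G) * K.ψ fV * (u⁻¹ * (y : G))⁻¹ = u⁻¹ * ((y : G) * K.ψ fV * (y : G)⁻¹) * u by group, e]
    group
  intro d hd
  obtain ⟨u, hu, hc⟩ := hN1 _ (k.normal₁.conj_mem _ k.z_N₁ ⟨d, hd⟩)
  set p := u⁻¹ * (d * K.ψ zV * d⁻¹) with hp
  have hpD : p ∈ T.D := mul_mem (inv_mem (k.O_le hu)) (mul_mem (mul_mem hd (T.ψ_D hzf)) (inv_mem hd))
  obtain ⟨w, j, e0, -⟩ := T.decomp (T.cent_b hc)
  have e : p = K.ψ w * T.σ j := e0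
  have hjb : act (j : ℕ) fV = fV := T.code_of_comm (u := w) (e ▸ hc)
  obtain ⟨hw, hj4⟩ := T.code_D (u := w) (k := j) (e ▸ hpD)
  obtain ⟨hjks, hkB, -⟩ := coef_b.1
  have hjm := hjks j hjb hj4
  have hj2 := (hkB j hjm).2.1
  have hp3 : p ^ 3 ∈ k.O := by
    have h1 := k.conj_O (inv_mem (k.O_le hu)) hu
    set c := d * K.ψ zV * d⁻¹
    have hc3 : c ^ 3 = 1 := by rw [conj_pow, h.J_exp _ (K.ψ_mem _), mul_one, mul_inv_cancel]
    have hcD : c ∈ T.D := mul_mem (mul_mem hd (T.ψ_D hzf)) (inv_mem hd)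
    have h2 := k.conj_O hcD (inv_mem hu)
    have h3 := k.conj_O (pow_mem hcD 2) (inv_mem hu)
    have h4 := mul_mem (mul_mem (inv_mem hu) h2) h3
    have : p ^ 3 = u⁻¹ * (c * u⁻¹ * c⁻¹) * (c ^ 2 * u⁻¹ * (c ^ 2)⁻¹) * c ^ 3 := by
      rw [hp]; simp only [pow_succ, pow_zero, one_mul]; group
    rw [this, hc3, mul_one]; exact h4
  -- the code of `p` fixes the third axis
  have hp2 : p ^ 2 = K.ψ (w + act (j : ℕ) w) := by
    rw [e, pow_two, K.ψ_add, ← T.σ_conj hj2]; group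
  have hpw : p ^ 3 = K.ψ (w + act (j : ℕ) w + w) * T.σ j := by
    rw [pow_succ, hp2, e, ← mul_assoc, ← K.ψ_add]
  have hj04 : j = 0 ∨ j = 4 := by
    rcases k.O_NJ hp3 (hpw ▸ T.ψσ_N _ j) with r | r <;> rw [hpw] at r
    · exact Or.inl (congrArg Prod.snd (T.φ_inj (p := (w + act (j : ℕ) w + w, j)) (q := (0, 0)) (r.trans T.φ_one.symm)))
    · refine Or.inr (congrArg Prod.snd (T.φ_inj (p := (w + act (j : ℕ) w + w, j)) (q := (0, 4)) (r.trans ?_)))
      show K.t = K.ψ 0 * T.σ 4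
      rw [K.toBase.ψ_zero, one_mul, T.σ_four]
  obtain ⟨o, ho, hdz⟩ : ∃ o ∈ k.O, d * K.ψ zV * d⁻¹ = o * K.ψ w := by
    have he : d * K.ψ zV * d⁻¹ = u * p := by rw [hp, mul_inv_cancel_left]
    rcases hj04 with r | r <;> rw [r] at e
    · exact ⟨u, hu, by rw [he, e, T.σ_zero, mul_one]⟩
    · refine ⟨u * K.t, mul_mem hu k.t_O, ?_⟩
      rw [he, e, T.σ_four, T.mem_D.1 (T.ψ_D hw), ← mul_assoc]
  have hwN : (⟨K.ψ w, T.ψ_D hw⟩ : T.D) ∈ k.N₁ := by
    obtain ⟨hoD, ho1, -⟩ := k.mem_O.1 ho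
    convert mul_mem (inv_mem ho1) (k.normal₁.conj_mem _ k.z_N₁ ⟨d, hd⟩) using 1
    exact Subtype.ext (by show K.ψ w = o⁻¹ * (d * K.ψ zV * d⁻¹); rw [hdz, inv_mul_cancel_left])
  have hw0 : w ≠ 0 := fun r => by
    rw [r, K.toBase.ψ_zero, mul_one] at hdz
    have h1 : d * K.ψ zV * d⁻¹ = 1 := k.O_no_three (hdz ▸ ho) (by
      rw [conj_pow, h.J_exp _ (K.ψ_mem _), mul_one, mul_inv_cancel])
    exact ψ_ne_one (show zV ≠ 0 by decide +kernel) (conj_eq_one_iff.1 h1)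
  have hwz : w = zV ∨ w = -zV := by
    rcases core_lines.1 w hw hw0 with r | r | r | r | r | r | r | r
    · exact absurd hwN (k.not_line₁ (Or.inl rfl) (Or.inl (congrArg K.ψ r)))
    · exact absurd hwN (k.not_line₁ (Or.inl rfl) (Or.inr (congrArg K.ψ r)))
    · exact Or.inl r
    · exact Or.inr r
    · exact absurd hwN (k.not_line₁ (Or.inr (Or.inl rfl)) (Or.inl (congrArg K.ψ r)))
    · exact absurd hwN (k.not_line₁ (Or.inr (Or.inl rfl)) (Or.inr (congrArg K.ψ r)))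
    · exact absurd hwN (k.not_line₁ (Or.inr (Or.inr rfl)) (Or.inl (congrArg K.ψ r)))
    · exact absurd hwN (k.not_line₁ (Or.inr (Or.inr rfl)) (Or.inr (congrArg K.ψ r)))
  obtain ⟨o', ho', hdz'⟩ := k.coset_conj hd hzf hw hw0 (by rw [hdz, mul_inv_cancel_right]; exact ho)
  have hm : o'⁻¹ * d * K.ψ zV * (o'⁻¹ * d)⁻¹ = K.ψ w := by
    rw [show o'⁻¹ * d * K.ψ zV * (o'⁻¹ * d)⁻¹ = o'⁻¹ * (d * K.ψ zV * d⁻¹) * o' by group, hdz']; group
  have hmD : o'⁻¹ * d ∈ T.D := mul_mem (inv_mem (k.O_le ho')) hd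
  have hmH : o'⁻¹ * d ∈ H := by
    rcases hwz with r | r <;> rw [r] at hm
    · exact hz _ hmD (mul_inv_eq_iff_eq_mul.1 hm)
    · have h1 := hz _ (mul_mem T.σ27_D hmD) (mul_inv_eq_iff_eq_mul.1 (by
        rw [show T.σ 27 * (o'⁻¹ * d) * K.ψ zV * (T.σ 27 * (o'⁻¹ * d))⁻¹ =
          T.σ 27 * (o'⁻¹ * d * K.ψ zV * (o'⁻¹ * d)⁻¹) * (T.σ 27)⁻¹ by group, hm, T.σ_act]
        exact congrArg K.ψ (by decide +kernel)))
      have := mul_mem (inv_mem (hNJ (T.σ_N 27))) h1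
      rwa [inv_mul_cancel_left] at this
  have := mul_mem (hO ho') hmH
  rwa [mul_inv_cancel_left] at this

/-- `x` is central in `O` up to `t`. -/
def Central (x : G) : Prop := x ∈ k.O ∧ ∀ y ∈ k.O, x * y = y * x ∨ x * y = y * x * K.t

theorem Central.conj {x d : G} (hx : k.Central x) (hd : d ∈ T.D) : k.Central (d * x * d⁻¹) := by
  refine ⟨k.conj_O hd hx.1, fun y hy => ?_⟩
  have hy' := k.conj_O (inv_mem hd) hy
  rw [inv_inv] at hy'
  rcases hx.2 _ hy' with r | r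
  · left
    calc d * x * d⁻¹ * y = d * (x * (d⁻¹ * y * d)) * d⁻¹ := by group
      _ = _ := by rw [r]; group
  · right
    calc d * x * d⁻¹ * y = d * (x * (d⁻¹ * y * d)) * d⁻¹ := by group
      _ = d * (d⁻¹ * y * d * x) * (K.t * d⁻¹) := by rw [r]; group
      _ = d * (d⁻¹ * y * d * x) * (d⁻¹ * K.t) := by rw [T.mem_D.1 (inv_mem hd)]
      _ = _ := by group

theorem Central.mul_t {x : G} (hx : k.Central x) : k.Central (x * K.t) := by
  refine ⟨mul_mem hx.1 k.t_O, fun y hy => ?_⟩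
  have ht := k.O_t hy
  rcases hx.2 y hy with r | r
  · left; rw [mul_assoc, ← ht, ← mul_assoc, r, mul_assoc]
  · right; rw [mul_assoc, ← ht, ← mul_assoc, r, mul_assoc y x K.t]

theorem central_t : k.Central K.t :=
  ⟨k.t_O, fun y hy => Or.inl (k.O_t hy).symm⟩

theorem central_one : k.Central 1 := ⟨one_mem _, fun y _ => Or.inl (by rw [one_mul, mul_one])⟩

theorem exists_central : ∃ x, k.Central x ∧ x ≠ 1 ∧ x ≠ K.t ∧ ∃ u : V3, act 4 u = u ∧ u ≠ 0 ∧
    x * K.ψ u = K.ψ u * x := by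
  classical
  haveI := Fact.mk Nat.prime_three
  haveI : IsMulCommutative T.E := ⟨⟨fun p q => Subtype.ext (h.J_comm _ p.2.1 _ q.2.1)⟩⟩
  set tD : T.D := ⟨K.t, T.t_D⟩
  have hcen : ∀ d : T.D, d * tD = tD * d := fun d => Subtype.ext (T.mem_D.1 d.2)
  haveI : (Subgroup.zpowers tD).Normal := ⟨fun y hy d => by
    obtain ⟨i, rfl⟩ := Subgroup.mem_zpowers_iff.1 hy
    rw [(Commute.zpow_right (hcen d) i).eq, mul_inv_cancel_right]
    exact Subgroup.zpow_mem _ (Subgroup.mem_zpowers _) i⟩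
  set f := QuotientGroup.mk' (Subgroup.zpowers tD)
  have hfk : ∀ x y : T.D, f x = f y → (y : G) = x ∨ (y : G) = x * K.t := by
    intro x y e
    have hm : x⁻¹ * y ∈ Subgroup.zpowers tD := QuotientGroup.eq.1 e
    have ho : orderOf tD = 2 := by
      rw [← Subgroup.orderOf_coe]
      exact orderOf_eq_prime (by rw [pow_two]; exact K.t_sq) T.t_ne
    rw [mem_zpowers_iff_mem_range_orderOf, ho] at hm
    simp only [Finset.mem_image, Finset.mem_range] at hm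
    obtain ⟨i, hi, e'⟩ := hm
    have hy : y = x * tD ^ i := by rw [e', mul_inv_cancel_left]
    interval_cases i
    · exact Or.inl (by rw [hy, pow_zero, mul_one])
    · exact Or.inr (by rw [hy, pow_one]; rfl)
  set N := k.N₁ ⊓ k.N₂
  haveI : N.Normal := by
    haveI := k.normal₁
    haveI := k.normal₂
    infer_instance
  set Q := N.map f with hQ
  haveI hQn : Q.Normal := Subgroup.Normal.map inferInstance f (QuotientGroup.mk'_surjective _)
  have hNO : ∀ y : T.D, y ∈ N ↔ (y : G) ∈ k.O := fun y =>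
    ⟨fun hy => ⟨y, hy, rfl⟩, fun hy => by obtain ⟨y', hy', e⟩ := hy; rwa [← Subtype.ext e (a1 := y')]⟩
  -- nilpotency from the fixed-point-free action of `(1, 1, 0)`
  set bD : T.D := ⟨K.ψ fV, T.ψ_D fixed_types.2.2.1.1⟩
  let φ : MulAut Q := MulAut.conjNormal (f bD)
  have hφ : φ ^ 3 = 1 := by
    show MulAut.conjNormal (f bD) ^ 3 = 1
    rw [← map_pow, ← map_pow, show bD ^ 3 = 1 from Subtype.ext (h.J_exp _ (K.ψ_mem _)), map_one, map_one]
  have hfix : ∀ g : Q, φ g = g → g = 1 := by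
    rintro ⟨_, x, hx, rfl⟩ e
    have e' : f (bD * x * bD⁻¹) = f x := by
      rw [map_mul, map_mul, map_inv]; exact congrArg Subtype.val e
    have hxO := (hNO x).1 hx
    have h1 : (x : G) * K.ψ fV = K.ψ fV * x := by
      refine exact_comm (h.J_exp _ (K.ψ_mem _)) (T.mem_D.1 bD.2) ?_
      rcases hfk _ _ e' with r | r
      · have r' : (x : G) = K.ψ fV * x * (K.ψ fV)⁻¹ := r
        left
        rw [eq_mul_inv_iff_mul_eq] at r'
        rw [r', mul_inv_cancel_right]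
      · have r' : (x : G) = K.ψ fV * x * (K.ψ fV)⁻¹ * K.t := r
        right
        have r2 : K.ψ fV * x * (K.ψ fV)⁻¹ = x * K.t := by
          conv_rhs => rw [r', mul_assoc _ K.t K.t, K.t_sq, mul_one]
        have r3 : K.ψ fV * x = x * K.t * K.ψ fV := mul_inv_eq_iff_eq_mul.1 r2
        have hbt : K.ψ fV * K.t = K.t * K.ψ fV := T.mem_D.1 bD.2
        refine mul_inv_eq_iff_eq_mul.2 ?_
        calc (x : G) * K.ψ fV = (x : G) * (K.t * K.t) * K.ψ fV := by rw [K.t_sq, mul_one]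
          _ = (x : G) * K.t * (K.t * K.ψ fV) := by group
          _ = (x : G) * K.t * K.ψ fV * K.t := by rw [← hbt, mul_assoc ((x : G) * K.t) (K.ψ fV) K.t]
          _ = K.ψ fV * ((x : G) * K.t) := by rw [← r3, mul_assoc]
          _ = _ := by rw [k.O_t hxO, ← mul_assoc]
    refine Subtype.ext ?_
    show f x = 1
    refine (QuotientGroup.eq_one_iff _).2 ?_
    rcases k.C_b hxO h1 with r | r
    · rw [show x = 1 from Subtype.ext r]; exact one_mem _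
    · rw [show x = tD from Subtype.ext r]; exact Subgroup.mem_zpowers _
  haveI : Group.IsNilpotent Q := Grp.isNilpotent_of_fpf_aut φ hφ hfix
  obtain ⟨q₀, hq₀, hq₀π⟩ : ∃ q, ∃ hq : q ∈ T.M, h.π ⟨q, T.M_C hq⟩ * h.π ⟨q, T.M_C hq⟩ = -1 := by
    obtain ⟨γ, hγ⟩ := (by decide +kernel : ∃ γ : SL3, γ * γ = -1)
    obtain ⟨q, hq, e⟩ := T.M_surj (γ := γ) (by
      rw [show 4 = 2 * 2 from rfl, pow_mul, pow_two γ, hγ, neg_one_sq])
    exact ⟨q, hq, by rw [e]; exact hγ⟩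
  haveI : Nontrivial Q := by
    have hqN : (⟨q₀, T.mem_D.2 (T.M_t hq₀)⟩ : T.D) ∈ N := (hNO _).2 (k.M_O hq₀)
    refine ⟨⟨⟨_, _, hqN, rfl⟩, 1, fun e => ?_⟩⟩
    have e' : f ⟨q₀, T.mem_D.2 (T.M_t hq₀)⟩ = f 1 := (congrArg Subtype.val e).trans (map_one f).symm
    rcases hfk _ _ e'.symm with r | r
    · rw [Two.π_congr (show q₀ = 1 from r), show h.π ⟨(1 : G), _⟩ = 1 from map_one h.π] at hq₀π
      exact absurd hq₀π (by decide +kernel)
    · rw [Two.π_congr (show q₀ = K.t from r.trans (one_mul _)), K.t_π] at hq₀π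
      exact absurd hq₀π (by decide +kernel)
  -- centre
  set Z := Q ⊓ Subgroup.centralizer (Q : Set (T.D ⧸ Subgroup.zpowers tD)) with hZ
  have hZne : Z ≠ ⊥ := fun e => Group.IsNilpotent.center_ne_bot (G := Q) (eq_bot_iff.2 fun z hz => by
    have : (z : T.D ⧸ Subgroup.zpowers tD) ∈ Z := ⟨z.2, Subgroup.mem_centralizer_iff.2 fun y hy =>
      congrArg Subtype.val (Subgroup.mem_center_iff.1 hz ⟨y, hy⟩)⟩
    rw [e, Subgroup.mem_bot] at this
    exact Subgroup.mem_bot.2 (Subtype.ext this))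
  set A := (T.E.subgroupOf T.D).map f with hA
  have hAN : A ≤ Subgroup.normalizer (Z : Set (T.D ⧸ Subgroup.zpowers tD)) := fun g _ =>
    mem_normalizer_of_conj_mem fun y hy => ⟨hQn.conj_mem _ hy.1 g, Subgroup.mem_centralizer_iff.2 fun w hw => by
      have hw' := hQn.conj_mem _ hw g⁻¹
      have := Subgroup.mem_centralizer_iff.1 hy.2 _ hw'
      calc w * (g * y * g⁻¹) = g * (g⁻¹ * w * g⁻¹⁻¹ * y) * g⁻¹ := by group
        _ = _ := by rw [this]; group⟩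
  haveI : IsMulCommutative A := ⟨⟨fun p q => by
    obtain ⟨p, x, hx, rfl⟩ := p
    obtain ⟨q, y, hy, rfl⟩ := q
    exact Subtype.ext (by
      show f x * f y = f y * f x
      rw [← map_mul, ← map_mul]
      exact congrArg f (Subtype.ext (h.J_comm _ (show (x : G) ∈ T.E from hx).1 _ (show (y : G) ∈ T.E from hy).1)))⟩⟩
  have hAcard : Nat.card A = 9 := by
    rw [← T.E_card, ← Nat.card_congr (Subgroup.subgroupOfEquivOfLe (show T.E ≤ T.D from inf_le_right)).toEquiv]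
    symm
    refine Nat.card_eq_of_bijective (f.subgroupMap (T.E.subgroupOf T.D)) ⟨?_, f.subgroupMap_surjective _⟩
    refine (injective_iff_map_eq_one _).2 fun x hx => ?_
    have e' : f (1 : T.D) = f (x : T.D) := (map_one f).trans (congrArg Subtype.val hx).symm
    have h3 : ((x : T.D) : G) ^ 3 = 1 := h.J_exp _ (show ((x : T.D) : G) ∈ T.E from x.2).1
    rcases hfk _ _ e' with r | r
    · exact Subtype.ext (Subtype.ext r)
    · rw [show ((x : T.D) : G) = K.t from r.trans (one_mul _), pow_succ, pow_two, K.t_sq, one_mul] at h3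
      exact absurd h3 T.t_ne
  have hcyc : ¬ IsCyclic A := fun hc => by
    obtain ⟨g, hg⟩ := hc.exists_generator
    have := orderOf_eq_card_of_forall_mem_zpowers hg
    rw [hAcard] at this
    obtain ⟨g, x, hx, rfl⟩ := g
    have h3 : orderOf (⟨f x, ⟨x, hx, rfl⟩⟩ : A) ∣ 3 := orderOf_dvd_of_pow_eq_one (Subtype.ext (by
      show f x ^ 3 = 1
      rw [← map_pow, show x ^ 3 = 1 from Subtype.ext (h.J_exp _ (show (x : G) ∈ T.E from hx).1), map_one]))
    rw [this] at h3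
    exact absurd (Nat.le_of_dvd (by norm_num) h3) (by norm_num)
  have hcop : (Nat.card A).Coprime (Nat.card Z) := by
    rw [hAcard]
    refine ((Nat.Prime.coprime_iff_not_dvd Nat.prime_three).2 fun hd => k.O_coprime ?_).pow_left 2
    have h1 : Nat.card Q ∣ Nat.card N := Subgroup.card_map_dvd _ _
    refine (hd.trans (Subgroup.card_dvd_of_le inf_le_left)).trans (h1.trans ?_)
    exact (Nat.card_congr (N.equivMapOfInjective _ T.D.subtype_injective).toEquiv).dvd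
  have hgen := Grp.generated_by_centralizers A Z hcyc hAN hcop
  by_contra hnone
  refine hZne (eq_bot_iff.2 (hgen ▸ iSup₂_le fun e he => ?_))
  rintro y ⟨⟨hyQ, hyc⟩, hye⟩
  obtain ⟨x, hx, rfl⟩ := hyQ
  obtain ⟨⟨E', hE', rfl⟩, he1⟩ := he
  obtain ⟨u, hu, eu⟩ := T.exists_of_mem_E (show (E' : G) ∈ T.E from hE')
  have hxO := (hNO x).1 hx
  rw [Subgroup.mem_bot]
  by_contra hne
  refine hnone ⟨x, ⟨hxO, fun w hw => ?_⟩, fun r => hne ?_, fun r => hne ?_, u, hu, fun r => he1 ?_, ?_⟩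
  · have hwN : (⟨w, k.O_le hw⟩ : T.D) ∈ N := (hNO _).2 hw
    have h1 := Subgroup.mem_centralizer_iff.1 hyc _ ⟨_, hwN, rfl⟩
    rw [← map_mul, ← map_mul] at h1
    exact hfk _ _ h1
  · rw [show x = 1 from Subtype.ext r, map_one]
  · rw [show x = tD from Subtype.ext r]; exact (QuotientGroup.eq_one_iff _).2 (Subgroup.mem_zpowers _)
  · rw [show E' = 1 from Subtype.ext (by rw [eu, r, K.toBase.ψ_zero]; rfl), map_one]
  · refine exact_comm (h.J_exp _ (K.ψ_mem _)) ((Two.comm_iff (K := K) u).2 hu) ?_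
    have h1 := Subgroup.mem_centralizer_singleton_iff.1 hye
    have h2 : f (x * E' * x⁻¹) = f E' := by rw [map_mul, map_mul, map_inv, h1, mul_inv_cancel_right]
    rw [← eu]
    exact hfk _ _ h2.symm

theorem central_orbit {x : G} (hx : x ∈ T.M) (hc : k.Central x) (h1 : x ≠ 1) (ht : x ≠ K.t) {m : G}
    (hm : m ∈ T.M) : k.Central m := by
  have hπ : ∀ {n : G} (hn : n ∈ T.M), h.π ⟨n, T.M_C hn⟩ ^ 4 = 1 := fun {n} hn => by
    rw [← map_pow, show (⟨n, T.M_C hn⟩ : h.C) ^ 4 = 1 from Subtype.ext (T.M_four hn), map_one]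
  have hγ : h.π ⟨x, T.M_C hx⟩ * h.π ⟨x, T.M_C hx⟩ = -1 := by
    rcases sl_orbit _ (hπ hx) with r | r | r
    · exact absurd (T.M_inj hx (one_mem _) (r.trans (map_one h.π).symm)) h1
    · exact absurd (T.M_inj hx T.t_M (r.trans K.t_π.symm)) ht
    · exact r
  set ww := h.π ⟨K.ψ zV, K.toBase.ψ_C zV⟩ with hww
  have hw3 : ww ^ 3 = 1 := by
    rw [← map_pow, show (⟨K.ψ zV, K.toBase.ψ_C zV⟩ : h.C) ^ 3 = 1 from Subtype.ext (h.J_exp _ (K.ψ_mem _)), map_one]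
  have hzD : (K.ψ zV)⁻¹ ∈ T.D := inv_mem (T.ψ_D fixed_types.2.2.1.2.1)
  have hz : ∀ {n : G} (hn : n ∈ T.M), (K.ψ zV)⁻¹ * n * K.ψ zV ∈ T.M := fun {n} hn => by
    have := T.M_conj hn (T.mem_D.1 hzD)
      (Or.inl (by rw [← K.ψ_a, ← K.toBase.ψ_neg, K.toBase.ψ_comm, mul_inv_cancel_right]))
    rwa [inv_inv] at this
  have hπz : ∀ {n : G} (hn : n ∈ T.M), h.π ⟨_, T.M_C (hz hn)⟩ = ww⁻¹ * h.π ⟨n, T.M_C hn⟩ * ww := fun {n} hn => by
    rw [hww, ← map_inv, ← map_mul, ← map_mul]; rfl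
  have c1 : k.Central ((K.ψ zV)⁻¹ * x * K.ψ zV) := by simpa using Central.conj k hc hzD
  have c2 : k.Central ((K.ψ zV)⁻¹ * ((K.ψ zV)⁻¹ * x * K.ψ zV) * K.ψ zV) := by simpa using Central.conj k c1 hzD
  have fin : ∀ {n : G} (hn : n ∈ T.M), k.Central n →
      (h.π ⟨m, T.M_C hm⟩ = h.π ⟨n, T.M_C hn⟩ ∨ h.π ⟨m, T.M_C hm⟩ = -h.π ⟨n, T.M_C hn⟩) → k.Central m := by
    intro n hn hcn hcase
    rcases hcase with r | r
    · exact T.M_inj hm hn r ▸ hcn
    · rw [T.M_inj hm (mul_mem hn T.t_M) (by rw [r, Two.π_mul (T.M_C hn) K.t_C, K.t_π, mul_neg_one])]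
      exact Central.mul_t k hcn
  rcases orbit_facts.1 ww _ _ hw3 (Two.ψ_z_π (K := K)) hγ (hπ hm) with c | c | c | c | c | c | c | c
  · rw [T.M_inj hm (one_mem _) (c.trans (map_one h.π).symm)]; exact k.central_one
  · rw [T.M_inj hm T.t_M (c.trans K.t_π.symm)]; exact k.central_t
  · exact fin hx hc (Or.inl c)
  · exact fin hx hc (Or.inr c)
  · exact fin (hz hx) c1 (Or.inl (c.trans (hπz hx).symm))
  · exact fin (hz hx) c1 (Or.inr (c.trans (congrArg Neg.neg (hπz hx).symm)))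
  · exact fin (hz (hz hx)) c2 (Or.inl (c.trans (((hπz (hz hx)).trans (by rw [hπz hx]))).symm))
  · exact fin (hz (hz hx)) c2 (Or.inr (c.trans (congrArg Neg.neg ((hπz (hz hx)).trans (by rw [hπz hx])).symm)))

/-- The case division by the centre. -/
theorem central_cases : (∀ m ∈ T.M, k.Central m) ∨
    ∃ x, k.Central x ∧ x ≠ 1 ∧ x ≠ K.t ∧ x * K.ψ zV = K.ψ zV * x := by
  obtain ⟨x, hc, h1, ht, u, hu, hu0, hxu⟩ := k.exists_central
  have hneg : ∀ v, u = -v → x * K.ψ v = K.ψ v * x := fun v r => by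
    have := (show Commute x (K.ψ u) from hxu).inv_right
    rw [r, K.toBase.ψ_neg, inv_inv] at this
    exact this.eq
  have hb : x * K.ψ fV = K.ψ fV * x → False := fun hh => (k.C_b hc.1 hh).elim h1 ht
  have ha : x * K.ψ aV = K.ψ aV * x → ∀ m ∈ T.M, k.Central m := fun hh m hm =>
    k.central_orbit (k.C_a hc.1 (by rw [← K.ψ_a]; exact hh)) hc h1 ht hm
  have ha' : x * K.ψ (act 27 aV) = K.ψ (act 27 aV) * x → ∀ m ∈ T.M, k.Central m := fun hh m hm => by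
    refine k.central_orbit (k.C_a' hc.1 hh) (Central.conj k hc T.σ27_D) (fun r => h1 (conj_eq_one_iff.1 r)) (fun r => ht ?_) hm
    have e : T.σ 27 * x = T.σ 27 * K.t := by
      rw [T.mem_D.1 T.σ27_D]; exact mul_inv_eq_iff_eq_mul.1 r
    exact mul_left_cancel e
  rcases core_lines.1 u hu hu0 with r | r | r | r | r | r | r | r
  · exact (hb (r ▸ hxu)).elim
  · exact (hb (hneg _ r)).elim
  · exact Or.inr ⟨x, hc, h1, ht, r ▸ hxu⟩
  · exact Or.inr ⟨x, hc, h1, ht, hneg _ r⟩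
  · exact Or.inl (ha (r ▸ hxu))
  · exact Or.inl (ha (hneg _ r))
  · exact Or.inl (ha' (r ▸ hxu))
  · exact Or.inl (ha' (hneg _ r))

/-- An element centralised by `a` that commutes with such a subgroup up to `t` commutes with it. -/
theorem comm_exact {m : G} (hm : m ∈ T.M) {w : V3} (hw : w = act 27 aV ∨ w = zV)
    (hmod : ∀ p ∈ k.O, p * K.ψ w = K.ψ w * p → m * p = p * m ∨ m * p = p * m * K.t)
    {p : G} (hp : p ∈ k.O) (hpw : p * K.ψ w = K.ψ w * p) : m * p = p * m := by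
  classical
  set P : Subgroup G := k.O ⊓ Subgroup.centralizer ({K.ψ w} : Set G)
  have hP : ∀ {q}, q ∈ P ↔ q ∈ k.O ∧ q * K.ψ w = K.ψ w * q := fun {q} =>
    and_congr_right fun _ => Subgroup.mem_centralizer_singleton_iff
  have hw4 : act 4 w = w := by
    rcases hw with rfl | rfl
    exacts [core_lines.2.2.1.2.1, fixed_types.2.2.1.2.1]
  have htP : K.t ∈ P := hP.2 ⟨k.t_O, ((Two.comm_iff (K := K) w).2 hw4).symm⟩
  have ham : h.a * m = m * h.a := (h.mem_C.1 (T.M_C hm)).symm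
  have haP : ∀ q ∈ P, h.a * q * h.a⁻¹ ∈ P := fun q hq => by
    obtain ⟨hqO, hqw⟩ := hP.1 hq
    refine hP.2 ⟨k.conj_O T.a_D hqO, ?_⟩
    have hc : Commute h.a (K.ψ w) := h.J_comm _ h.a_mem_J _ (K.ψ_mem w)
    exact ((hc.mul_left (show Commute q (K.ψ w) from hqw)).mul_left hc.inv_left).eq
  let g : G → G := fun q => q⁻¹ * (h.a * q * h.a⁻¹)
  have hgW : ∀ q ∈ P, m * g q = g q * m := fun q hq => by
    have hq' := haP q hq
    rcases hmod q (hP.1 hq).1 (hP.1 hq).2 with r | r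
    · have r' : m * (h.a * q * h.a⁻¹) = h.a * q * h.a⁻¹ * m := by
        calc m * (h.a * q * h.a⁻¹) = (m * h.a) * q * h.a⁻¹ := by group
          _ = h.a * (m * q) * h.a⁻¹ := by rw [← ham]; group
          _ = h.a * q * (m * h.a⁻¹) := by rw [r]; group
          _ = _ := by rw [((show Commute m h.a from ham.symm).inv_right).eq]; group
      exact ((show Commute m q from r).inv_right.mul_right (show Commute m _ from r')).eq
    · have r' : m * (h.a * q * h.a⁻¹) = h.a * q * h.a⁻¹ * m * K.t := by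
        calc m * (h.a * q * h.a⁻¹) = (m * h.a) * q * h.a⁻¹ := by group
          _ = h.a * (m * q) * h.a⁻¹ := by rw [← ham]; group
          _ = h.a * q * (m * (K.t * h.a⁻¹)) := by rw [r]; group
          _ = h.a * q * ((m * h.a⁻¹) * K.t) := by
              rw [← ((show Commute h.a K.t from T.mem_D.1 T.a_D).inv_left).eq]; group
          _ = _ := by rw [((show Commute m h.a from ham.symm).inv_right).eq]; group
      have hqt : q * K.t = K.t * q := k.O_t (hP.1 hq).1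
      have hmt : m * K.t = K.t * m := T.M_t hm
      have r1 : m * q⁻¹ = q⁻¹ * m * K.t := by
        rw [eq_comm, ← eq_mul_inv_iff_mul_eq] at r
        calc m * q⁻¹ = q⁻¹ * (q * m) * q⁻¹ := by group
          _ = q⁻¹ * (m * q * K.t⁻¹) * q⁻¹ := by rw [r]
          _ = q⁻¹ * m * (q * K.t * q⁻¹) := by rw [inv_eq_of_mul_eq_one_left K.t_sq]; group
          _ = _ := by rw [hqt, mul_inv_cancel_right]
      calc m * g q = (m * q⁻¹) * (h.a * q * h.a⁻¹) := by simp only [g]; group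
        _ = q⁻¹ * ((m * (h.a * q * h.a⁻¹)) * K.t) := by
            rw [r1, mul_assoc (q⁻¹ * m), ← k.O_t (hP.1 hq').1]; group
        _ = g q * m := by rw [r', mul_assoc _ K.t K.t, K.t_sq, mul_one]; simp only [g]; group
  set Zt := Subgroup.zpowers K.t
  have hZ : ∀ {q}, q ∈ Zt ↔ q = 1 ∨ q = K.t := fun {q} => by
    constructor
    · intro hq
      obtain ⟨i, rfl⟩ := Subgroup.mem_zpowers_iff.1 hq
      rw [zpow_eq_zpow_emod i (n := 2) (by rw [zpow_ofNat, pow_two]; exact K.t_sq)]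
      have : i % 2 = 0 ∨ i % 2 = 1 := by omega
      rcases this with e | e <;> rw [e]
      · exact Or.inl (zpow_zero _)
      · exact Or.inr (zpow_one _)
    · rintro (rfl | rfl)
      exacts [one_mem _, Subgroup.mem_zpowers _]
  have hgP : ∀ q : P, g q ∈ P := fun q => mul_mem (inv_mem q.2) (haP q q.2)
  let F : P ⧸ Zt.subgroupOf P → P ⧸ Zt.subgroupOf P := fun c => QuotientGroup.mk (⟨_, hgP c.out⟩ : P)
  have hinj : Function.Injective F := by
    intro c c' e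
    have e0 : (⟨_, hgP c.out⟩ : P)⁻¹ * ⟨_, hgP c'.out⟩ ∈ Zt.subgroupOf P := QuotientGroup.eq.1 e
    have e' : (g c.out)⁻¹ * g c'.out ∈ Zt := e0
    set q : G := ((c.out : P) : G)
    set q' : G := ((c'.out : P) : G)
    have hq : q ∈ k.O := (hP.1 (c.out : P).2).1
    have hq' : q' ∈ k.O := (hP.1 (c'.out : P).2).1
    have hcom : ∀ y ∈ k.O, ∀ z ∈ Zt, y * z = z * y := fun y hy z hz => by
      rcases hZ.1 hz with r | r <;> rw [r]
      · rw [one_mul, mul_one]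
      · exact k.O_t hy
    set z := (g q)⁻¹ * g q' with hz
    have hkey : h.a * (q' * q⁻¹) * h.a⁻¹ = q' * q⁻¹ * z := by
      have h1 : g q' = g q * z := by rw [hz, mul_inv_cancel_left]
      have h1' : q'⁻¹ * (h.a * q' * h.a⁻¹) = q⁻¹ * (h.a * q * h.a⁻¹) * z := h1
      have haq : h.a * q * h.a⁻¹ ∈ k.O := k.conj_O T.a_D hq
      calc h.a * (q' * q⁻¹) * h.a⁻¹ = q' * (q'⁻¹ * (h.a * q' * h.a⁻¹)) * (h.a * q * h.a⁻¹)⁻¹ := by group
        _ = q' * (q⁻¹ * ((h.a * q * h.a⁻¹) * z)) * (h.a * q * h.a⁻¹)⁻¹ := by rw [h1']; group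
        _ = _ := by rw [hcom _ haq _ e']; group
    have hqq : q' * q⁻¹ ∈ k.O := mul_mem hq' (inv_mem hq)
    have hz1 : z = 1 := by
      refine (hZ.1 e').resolve_right fun r => T.t_ne ?_
      have key : ∀ y, h.a * y * h.a⁻¹ = y * K.t → h.a ^ 3 * y * (h.a ^ 3)⁻¹ = y * K.t ^ 3 := fun y hy => by
        have hat : Commute h.a K.t := T.mem_D.1 T.a_D
        have c : h.a * K.t * h.a⁻¹ = K.t := by rw [hat.eq, mul_inv_cancel_right]
        calc h.a ^ 3 * y * (h.a ^ 3)⁻¹ = h.a * (h.a * (h.a * y * h.a⁻¹) * h.a⁻¹) * h.a⁻¹ := by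
              simp only [pow_succ, pow_zero, one_mul]; group
          _ = h.a * (h.a * (y * K.t) * h.a⁻¹) * h.a⁻¹ := by rw [hy]
          _ = h.a * ((h.a * y * h.a⁻¹) * (h.a * K.t * h.a⁻¹)) * h.a⁻¹ := by group
          _ = h.a * (y * K.t * K.t) * h.a⁻¹ := by rw [c, hy]
          _ = (h.a * y * h.a⁻¹) * (h.a * K.t * h.a⁻¹) * (h.a * K.t * h.a⁻¹) := by group
          _ = _ := by rw [c, hy]; simp only [pow_succ, pow_zero, one_mul]; group
      have := key _ (r ▸ hkey)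
      rw [h.a_cube, one_mul, inv_one, mul_one, left_eq_mul, pow_succ, pow_two, K.t_sq, one_mul] at this
      exact this
    rw [hz1, mul_one] at hkey
    have hfa : (q' * q⁻¹) * h.a = h.a * (q' * q⁻¹) := (mul_inv_eq_iff_eq_mul.1 hkey).symm
    have hmem : q' * q⁻¹ ∈ Zt := by
      refine hZ.2 (k.C_b hqq (C_line hw hfa ?_))
      exact ((show Commute q' (K.ψ w) from (hP.1 (c'.out : P).2).2).mul_left
        (show Commute q (K.ψ w) from (hP.1 (c.out : P).2).2).inv_left).eq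
    rw [← QuotientGroup.out_eq' c, ← QuotientGroup.out_eq' c', QuotientGroup.eq]
    show q⁻¹ * q' ∈ Zt
    have h5 : q⁻¹ * q' = q' * q⁻¹ := by
      have := hcom q hq _ hmem
      calc q⁻¹ * q' = q⁻¹ * ((q' * q⁻¹) * q) := by group
        _ = q⁻¹ * (q * (q' * q⁻¹)) := by rw [this]
        _ = _ := by group
    rw [h5]; exact hmem
  obtain ⟨c, hc⟩ := (Finite.injective_iff_surjective.1 hinj) (QuotientGroup.mk (⟨p, hP.2 ⟨hp, hpw⟩⟩ : P))
  have hm0 : (⟨_, hgP c.out⟩ : P)⁻¹ * ⟨p, hP.2 ⟨hp, hpw⟩⟩ ∈ Zt.subgroupOf P := QuotientGroup.eq.1 hc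
  have hmem : (g c.out)⁻¹ * p ∈ Zt := hm0
  have e1 := hgW _ (c.out : P).2
  set q : G := ((c.out : P) : G)
  rcases hZ.1 hmem with r | r
  · rw [← (inv_mul_eq_one.1 r)]; exact e1
  · rw [show p = g q * K.t by rw [← r, mul_inv_cancel_left]]
    exact ((show Commute m (g q) from e1).mul_right (show Commute m K.t from T.M_t hm)).eq

end Kers

end Eight

end Cfsg.Agent.Recog.ThreeCentSp
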