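import Cfsg.Agent.Lib.Recog.ThreeCentSp.Signal
import Cfsg.Agent.Lib.Recog.ThreeCentSp.Cert.Interface

/-!
Eight conjugates of `a` under `N(J)`: a complement of `J` in `N(J)` centralising the involution that
inverts `J`, and the monomial model of `N(J)`.
-/

set_option autoImplicit false
set_option linter.unusedSectionVars false
set_option linter.style.haveILetI false
set_option maxRecDepth 20000

namespace Cfsg.Agent.Recog.ThreeCentSp

open Cfsg.Agent.Invol.PSp43Am (V3 act act_add aV xV yV zV)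
open Cert (ev)

/-- product of two codes -/
def cm (j k : Fin 48) : Fin 48 :=
  Fin.ofNat 48
    (((List.range 48).find? fun i => cols (act i) == cp (cols (act (j : ℕ))) (cols (act (k : ℕ)))).getD 0)

set_option synthInstance.maxSize 1000 in
theorem cm_facts : (∀ j k : Fin 48, cols (act (cm j k)) = cp (cols (act j)) (cols (act k))) ∧
    (∀ j k : Fin 48, cols (act j) = cols (act k) → j = k) :=
  ⟨by decide +kernel, by decide +kernel⟩

theorem act_cm (j k : Fin 48) (v : V3) : act (cm j k) v = act j (act k v) :=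
  eq_of_cols (L := actH (cm j k)) (M := (actH j).comp (actH k)) (by rw [cols_comp]; exact cm_facts.1 j k) v

theorem neg_facts : (∀ k : Fin 48, ∀ v : V3, act k (-v) = -act k v) ∧ (∀ v : V3, act 24 v = -v) ∧
    (∀ v : V3, v + v = -v) ∧ (∀ v : V3, -v = v → v = 0) ∧ cm 4 8 = cm (cm 8 8) 4 := by decide +kernel

theorem gen_facts : ∀ k : Fin 48, ∃ j : Fin 4, ∃ i : Fin 6,
    cols (act k) = cp (cols (act j)) (cols (act (4 * (i : ℕ)))) ∨
      cols (act k) = cp (cols (act 24)) (cp (cols (act j)) (cols (act (4 * (i : ℕ))))) := by decide +kernel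

theorem perm_six : ∀ i : Fin 6, cols (act (4 * (i : ℕ))) ∈ sixM := by decide +kernel

/-- The data in the case of eight conjugates. -/
structure Eight {G : Type*} [Group G] {h : Hyp G} (K : Coords h) where
  σ : Fin 48 → G
  σ_mul : ∀ j k, σ (cm j k) = σ j * σ k
  σ_act : ∀ k v, σ k * K.ψ v * (σ k)⁻¹ = K.ψ (act (k : Fin 48) v)
  σ_four : σ 4 = K.t
  σ_eight : σ 8 = K.c
  w_sq : σ 24 * σ 24 = 1

namespace Coords

variable {G : Type*} [Group G] [Finite G] {h : Hyp G} (K : Coords h)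

theorem real_all (h24 : K.toBase.Real (cols (act 24))) (h1 : K.toBase.Real (cols (act 1))) (k : Fin 48) :
    K.toBase.Real (cols (act k)) := by
  have hc := K.toBase.real_c
  have hj : ∀ j : Fin 4, K.toBase.Real (cols (act (j : ℕ))) := by
    obtain ⟨q0, q1, q2, q3, -⟩ := evens_gen
    intro j
    fin_cases j
    · exact q0 ▸ K.toBase.real_id
    · exact h1
    · exact q2 ▸ K.toBase.real_cp hc (K.toBase.real_cp (q1 ▸ h1) (K.toBase.real_cp hc hc))
    · exact q3 ▸ K.toBase.real_cp (K.toBase.real_cp hc hc) (K.toBase.real_cp (q1 ▸ h1) hc)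
  obtain ⟨j, i, e | e⟩ := gen_facts k
  · exact e ▸ K.toBase.real_cp (hj j) (K.real_six (perm_six i))
  · exact e ▸ K.toBase.real_cp h24 (K.toBase.real_cp (hj j) (K.real_six (perm_six i)))

theorem exists_eight (h24 : K.toBase.Real (cols (act 24))) (h1 : K.toBase.Real (cols (act 1))) :
    ∃ K' : Coords h, Nonempty (Eight K') := by
  classical
  obtain ⟨w₀, -, hw₀⟩ := K.exists_of_real (k := 24) h24
  -- an element acting as `-1` that commutes with `t`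
  have hneg : ∀ {x : G}, (∀ v, x * K.ψ v * x⁻¹ = K.ψ (-v)) → x * x = 1 := fun {x} hx => by
    have hmem : x * x ∈ h.J := h.cent_J fun j hj => by
      obtain ⟨v, rfl⟩ := K.ψ_surj j hj
      refine mul_inv_eq_iff_eq_mul.1 ?_
      calc x * x * K.ψ v * (x * x)⁻¹ = x * (x * K.ψ v * x⁻¹) * x⁻¹ := by group
        _ = K.ψ v := by rw [hx, hx, neg_neg]
    obtain ⟨v, hv⟩ := K.ψ_surj _ hmem
    have h1 := hx v
    rw [hv, show x * (x * x) * x⁻¹ = x * x by group, ← hv] at h1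
    rw [← hv, neg_facts.2.2.2.1 v (K.ψ_inj h1).symm, K.toBase.ψ_zero]
  have hcent : ∀ {x : G}, (∀ v, x * K.ψ v * x⁻¹ = K.ψ v) → x ∈ h.J := fun {x} hx => h.cent_J fun j hj => by
    obtain ⟨v, rfl⟩ := K.ψ_surj j hj
    exact mul_inv_eq_iff_eq_mul.1 (hx v)
  have hw₀' : ∀ v, w₀ * K.ψ v * w₀⁻¹ = K.ψ (-v) := fun v => by rw [hw₀, ← neg_facts.2.1 v]; rfl
  have hwinv : w₀⁻¹ = w₀ := inv_eq_of_mul_eq_one_left (hneg hw₀')
  have htinv : K.t⁻¹ = K.t := inv_eq_of_mul_eq_one_left K.t_sq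
  obtain ⟨w, hw, hwt⟩ : ∃ w : G, (∀ v, w * K.ψ v * w⁻¹ = K.ψ (-v)) ∧ K.t * w = w * K.t := by
    obtain ⟨u, hu⟩ := K.ψ_surj _ (hcent (x := w₀ * (K.t * w₀ * K.t⁻¹)) fun v => by
      have e4 : ∀ v : V3, -act 4 (-act 4 v) = v := by decide +kernel
      calc w₀ * (K.t * w₀ * K.t⁻¹) * K.ψ v * (w₀ * (K.t * w₀ * K.t⁻¹))⁻¹
          = w₀ * (K.t * (w₀ * (K.t⁻¹ * K.ψ v * K.t⁻¹⁻¹) * w₀⁻¹) * K.t⁻¹) * w₀⁻¹ := by group
        _ = K.ψ v := by
          rw [show K.t⁻¹ * K.ψ v * K.t⁻¹⁻¹ = K.ψ (act 4 v) by rw [htinv, K.t_act], hw₀', K.t_act, hw₀', e4])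
    have htw : K.t * w₀ * K.t⁻¹ = w₀ * K.ψ u := by rw [hu, ← mul_assoc, hneg hw₀', one_mul]
    set x := w₀ * K.ψ (-u)
    have hx : ∀ v, x * K.ψ v * x⁻¹ = K.ψ (-v) := fun v => by
      calc x * K.ψ v * x⁻¹ = w₀ * (K.ψ (-u) * K.ψ v * (K.ψ (-u))⁻¹) * w₀⁻¹ := by simp only [x]; group
        _ = w₀ * K.ψ v * w₀⁻¹ := by rw [K.toBase.ψ_comm, mul_inv_cancel_right]
        _ = _ := hw₀' v
    -- conjugation by `t` has square one
    have h4 : act 4 u = -u := by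
      refine K.ψ_inj ?_
      have h2 : K.t * (K.t * w₀ * K.t⁻¹) * K.t⁻¹ = w₀ := by
        rw [show K.t * (K.t * w₀ * K.t⁻¹) * K.t⁻¹ = (K.t * K.t) * w₀ * (K.t * K.t)⁻¹ by group, K.t_sq]
        simp
      rw [htw, show K.t * (w₀ * K.ψ u) * K.t⁻¹ = (K.t * w₀ * K.t⁻¹) * (K.t * K.ψ u * K.t⁻¹) by group, htw,
        K.t_act, mul_assoc, mul_eq_left] at h2
      rw [K.toBase.ψ_neg]
      exact (inv_eq_of_mul_eq_one_right h2).symm
    refine ⟨x, hx, ?_⟩
    refine mul_inv_eq_iff_eq_mul.1 ?_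
    calc K.t * x * K.t⁻¹ = (K.t * w₀ * K.t⁻¹) * (K.t * K.ψ (-u) * K.t⁻¹) := by simp only [x]; group
      _ = x := by
        rw [htw, K.t_act, (show ∀ v : V3, act 4 (-v) = -act 4 v by decide +kernel) u, h4, neg_neg,
          mul_assoc, ← K.ψ_add, neg_facts.2.2.1]
  have hw2 := hneg hw
  -- lifts commuting with `w`
  have huniq : ∀ {x y : G} {k : Fin 48}, (∀ v, x * K.ψ v * x⁻¹ = K.ψ (act k v)) →
      (∀ v, y * K.ψ v * y⁻¹ = K.ψ (act k v)) → x * w = w * x → y * w = w * y → x = y := by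
    intro x y k hx hy hxw hyw
    have hm : y⁻¹ * x ∈ h.J := hcent fun v => by
      calc y⁻¹ * x * K.ψ v * (y⁻¹ * x)⁻¹ = y⁻¹ * (x * K.ψ v * x⁻¹) * y := by group
        _ = y⁻¹ * (y * K.ψ v * y⁻¹) * y := by rw [hx, hy]
        _ = K.ψ v := by group
    obtain ⟨u, hu⟩ := K.ψ_surj _ hm
    have h1 : w * (y⁻¹ * x) * w⁻¹ = y⁻¹ * x := by
      refine mul_inv_eq_iff_eq_mul.2 ?_
      exact (((show Commute w y from hyw.symm).inv_right).mul_right (show Commute w x from hxw.symm)).eq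
    rw [← hu, hw] at h1
    have h0 : u = 0 := neg_facts.2.2.2.1 u (K.ψ_inj h1)
    rw [h0, K.toBase.ψ_zero] at hu
    exact (inv_mul_eq_one.1 hu.symm).symm
  have hex : ∀ k : Fin 48, ∃ g : G, (∀ v, g * K.ψ v * g⁻¹ = K.ψ (act k v)) ∧ g * w = w * g := by
    intro k
    obtain ⟨g, -, hg⟩ := K.exists_of_real (K.real_all h24 h1 k)
    obtain ⟨u, hu⟩ := K.ψ_surj _ (hcent (x := w⁻¹ * (g * w * g⁻¹)) fun v => by
      have hgi : g⁻¹ * K.ψ v * g⁻¹⁻¹ ∈ h.J := by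
        have hgN : g ∈ Subgroup.normalizer (h.J : Set G) :=
          Cfsg.Agent.Invol.PSp43Am.mem_normalizer_of_conj_mem fun y hy => by
            obtain ⟨q, rfl⟩ := K.ψ_surj y hy
            rw [hg]; exact K.ψ_mem _
        exact (Subgroup.mem_normalizer_iff.1 (inv_mem hgN) _).1 (K.ψ_mem v)
      obtain ⟨q, hq⟩ := K.ψ_surj _ hgi
      have hv : act k q = v := K.ψ_inj (by rw [← hg, hq]; group)
      calc w⁻¹ * (g * w * g⁻¹) * K.ψ v * (w⁻¹ * (g * w * g⁻¹))⁻¹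
          = w⁻¹ * (g * (w * (g⁻¹ * K.ψ v * g⁻¹⁻¹) * w⁻¹) * g⁻¹) * w := by group
        _ = w⁻¹ * K.ψ (-v) * w := by rw [← hq, hw, hg, neg_facts.1, hv]
        _ = K.ψ v := by rw [← hw v]; group)
    refine ⟨K.ψ (u + u) * g, fun v => ?_, ?_⟩
    · rw [show K.ψ (u + u) * g * K.ψ v * (K.ψ (u + u) * g)⁻¹ =
        K.ψ (u + u) * (g * K.ψ v * g⁻¹) * (K.ψ (u + u))⁻¹ by group, hg, K.toBase.ψ_comm, mul_inv_cancel_right]
    · have hgw : g * w = w * K.ψ u * g := by rw [hu]; group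
      calc K.ψ (u + u) * g * w = K.ψ (u + u) * (w * K.ψ u) * g := by rw [mul_assoc, hgw]; group
        _ = w * (w⁻¹ * K.ψ (u + u) * w * K.ψ u) * g := by group
        _ = w * K.ψ (u + u) * g := by
          rw [show w⁻¹ * K.ψ (u + u) * w = K.ψ (-(u + u)) by
            rw [← hw, inv_eq_of_mul_eq_one_left hw2], ← K.ψ_add,
            (show ∀ u : V3, -(u + u) + u = u + u by decide +kernel) u]
        _ = w * (K.ψ (u + u) * g) := mul_assoc _ _ _
  choose σ hσ hσw using hex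
  have hmul : ∀ j k, σ (cm j k) = σ j * σ k := fun j k =>
    huniq (k := cm j k) (hσ _) (fun v => by
      rw [show σ j * σ k * K.ψ v * (σ j * σ k)⁻¹ = σ j * (σ k * K.ψ v * (σ k)⁻¹) * (σ j)⁻¹ by group, hσ, hσ,
        act_cm])
      (hσw _) ((show Commute (σ j) w from hσw j).mul_left (show Commute (σ k) w from hσw k)).eq
  have h4 : σ 4 = K.t := huniq (k := 4) (hσ 4) (fun v => K.t_act v) (hσw 4) hwt
  have hσ24 : σ 24 = w := huniq (k := 24) (hσ 24) (fun v => by rw [hw, ← neg_facts.2.1 v]; rfl) (hσw 24) rfl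
  -- the new cycle
  have hc8 : ∀ v, σ 8 * K.ψ v * (σ 8)⁻¹ = K.ψ (act 8 v) := fun v => hσ 8 v
  obtain ⟨u, hu⟩ := K.ψ_surj _ (hcent (x := σ 8 * K.c⁻¹) fun v => by
    have hci : K.c⁻¹ * K.ψ v * K.c⁻¹⁻¹ = K.ψ (act 8 (act 8 v)) := by
      have e : K.c⁻¹ = K.c * K.c := inv_eq_of_mul_eq_one_left (by rw [← h.R_exp _ K.c_R]; simp [pow_succ])
      rw [e, ← K.c_act, ← K.c_act]; group
    calc σ 8 * K.c⁻¹ * K.ψ v * (σ 8 * K.c⁻¹)⁻¹
        = σ 8 * (K.c⁻¹ * K.ψ v * K.c⁻¹⁻¹) * (σ 8)⁻¹ := by group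
      _ = K.ψ v := by rw [hci, hc8, (show ∀ v : V3, act 8 (act 8 (act 8 v)) = v by decide +kernel) v])
  have hσc : σ 8 = K.ψ u * K.c := by rw [hu, inv_mul_cancel_right]
  have hwt0 : wt u = 0 := by
    have h3 := K.toBase.cube_eq (i := 1) (p := σ 8) (v := u) (by rw [hσc, Fin.val_one, pow_one]) (by decide)
    have h8 : σ 8 ^ 3 * w = w * σ 8 ^ 3 := ((show Commute (σ 8) w from hσw 8).pow_left 3).eq
    rw [h3] at h8
    have h9 := hw ((wt u).val • aV)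
    rw [← h8, mul_inv_cancel_right] at h9
    exact (show ∀ i : ZMod 3, i.val • aV = -(i.val • aV) → i = 0 by decide +kernel) _ (K.ψ_inj h9)
  have hc8R : σ 8 ∈ h.R := hσc ▸ mul_mem (K.toBase.R_of_wt hwt0) K.c_R
  have hc8J : σ 8 ∉ h.J := fun hJ => K.c_not_J (by
    have := mul_mem (inv_mem (K.ψ_mem u)) hJ
    rwa [hσc, inv_mul_cancel_left] at this)
  have h3 : σ 8 ^ 3 = 1 := h.R_exp _ hc8R
  have htc : K.t * σ 8 * K.t⁻¹ = (σ 8)⁻¹ := by
    rw [← h4, ← hmul, neg_facts.2.2.2.2, hmul, hmul, mul_inv_cancel_right]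
    exact (inv_eq_of_mul_eq_one_left (by rw [← h3]; simp [pow_succ, mul_assoc])).symm
  refine ⟨{ K with c := σ 8, c_R := hc8R, c_not_J := hc8J, t_c := htc, c_act := hc8 }, ⟨{
    σ := σ, σ_mul := hmul, σ_act := hσ, σ_four := h4, σ_eight := rfl, w_sq := ?_ }⟩⟩
  rw [hσ24]; exact hw2

end Coords

/-- the monomial model -/
abbrev Mon := V3 × Fin 48

/-- product in the model -/
def monMul (p q : Mon) : Mon := (p.1 + act (p.2 : ℕ) q.1, cm p.2 q.2)

/-- the monomial generators -/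
def monGen : ℕ → Mon
  | 0 => (0, 25)
  | 1 => (-xV, 25)
  | 2 => (0, 4)
  | _ => (0, 20)

/-- value of a word in the model -/
def monEv : List ℕ → Mon
  | [] => (0, 0)
  | i :: w => monMul (monGen i) (monEv w)

namespace Eight

variable {G : Type*} [Group G] [Finite G] {h : Hyp G} {K : Coords h} (T : Eight K)

/-- the model in `G` -/
def φ (p : Mon) : G := K.ψ p.1 * T.σ p.2

theorem σ_zero : T.σ 0 = 1 := by
  have := T.σ_mul 0 0
  rw [show cm 0 0 = 0 by decide +kernel] at this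
  exact (mul_eq_left.1 this.symm)

theorem φ_mul (p q : Mon) : T.φ (monMul p q) = T.φ p * T.φ q := by
  show K.ψ (p.1 + act (p.2 : ℕ) q.1) * T.σ (cm p.2 q.2) = K.ψ p.1 * T.σ p.2 * (K.ψ q.1 * T.σ q.2)
  rw [K.ψ_add, T.σ_mul, ← T.σ_act p.2 q.1]
  group

theorem φ_one : T.φ (0, 0) = 1 := by
  show K.ψ 0 * T.σ 0 = 1
  rw [K.toBase.ψ_zero, T.σ_zero, one_mul]

theorem ev_mon (g : ℕ → G) (hg : ∀ i < 4, g i = T.φ (monGen i)) :
    ∀ w : List ℕ, (∀ i ∈ w, i < 4) → ev g w = T.φ (monEv w)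
  | [], _ => T.φ_one.symm
  | i :: w, hw => by
    show g i * ev g w = T.φ (monMul (monGen i) (monEv w))
    rw [T.φ_mul, hg i (hw i (List.mem_cons_self)),
      ev_mon g hg w fun j hj => hw j (List.mem_cons_of_mem _ hj)]

end Eight

end Cfsg.Agent.Recog.ThreeCentSp
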