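import Cfsg.Agent.Lib.Fus.NineFour.KernelTrick

/-!
Generalised characters of norm three that are three on some 3-sections and zero elsewhere, and the
normal subgroup they cut out.
-/

set_option autoImplicit false
set_option linter.style.haveILetI false
set_option linter.unusedSectionVars false

namespace Cfsg.Agent.Recog.ThreeCentSp.Kernel

open Cfsg Cfsg.Agent.Char Cfsg.Agent.Block
open scoped ComplexConjugate Classical

universe u

variable {G : Type u} [Group G] [Fintype G]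

theorem two_term {cP cQ dP dQ mP mQ : ℂ} (hP : dP ≠ 0) (hQ : dQ ≠ 0) (hc : cP ≠ 0)
    (e0 : 1 + (cP * dP + cQ * dQ) = 0) (e1 : 1 + (cP * mP + cQ * mQ) = 0)
    (e2 : 1 + (cP * (mP * mP / dP) + cQ * (mQ * mQ / dQ)) = 0) : mP = dP := by
  have e2' : dP * dQ + cP * (mP * mP) * dQ + cQ * (mQ * mQ) * dP = 0 := by
    field_simp at e2
    linear_combination e2
  have hsq : (cP * dP - cP * mP) ^ 2 = 0 := by
    linear_combination (-(cP * cQ)) * e2' + (cP * dP + cP * cP * mP ^ 2) * e0 +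
      cP * dP * (cQ * mQ - 1 - cP * mP) * e1
  have h2 : cP * (dP - mP) = 0 := by linear_combination pow_eq_zero_iff two_ne_zero |>.mp hsq
  exact (sub_eq_zero.mp ((mul_eq_zero.mp h2).resolve_left hc)).symm

/-- A norm three generalised character containing the trivial character cuts out a normal
subgroup on which it vanishes, containing every element at which it vanishes together with all
products with the conjugates. -/
theorem exists_kernel {Ψ : G → ℂ} (hgen : IsGeneralizedCharacter G Ψ)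
    (hnorm : classInner Ψ Ψ = 3) (htriv : classInner Ψ (fun _ => (1 : ℂ)) = 1) (h1 : Ψ 1 = 0)
    {S : Set G} (hS : ∀ v ∈ S, Ψ v = 0) (hprod : ∀ v ∈ S, ∀ g : G, Ψ (v * (g * v * g⁻¹)) = 0) :
    ∃ K : Subgroup G, K.Normal ∧ S ⊆ K ∧ ∀ x ∈ K, Ψ x = 0 := by
  classical
  obtain ⟨c, hc, hΨ⟩ := IsGenChar.exists_decomp hgen
  have h0 : c (trivialIrr G) = 1 := by
    have h := hc (trivialIrr G)
    rw [show ((trivialIrr G : IrrCharacter G) : G → ℂ) = fun _ => (1 : ℂ) from rfl, htriv] at h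
    exact_mod_cast h.symm
  have hs : ∑ φ : IrrCharacter G, c φ ^ 2 = 3 := by
    rw [hΨ, IsGenChar.classInner_self_int] at hnorm
    exact_mod_cast hnorm
  rw [← Finset.add_sum_erase _ _ (Finset.mem_univ (trivialIrr G)), h0] at hs
  set T := Finset.univ.erase (trivialIrr G) with hT
  have hle : ∀ φ ∈ T, c φ = 0 ∨ c φ = 1 ∨ c φ = -1 := by
    intro φ hφ
    have := Finset.single_le_sum (f := fun x => c x ^ 2) (fun x _ => sq_nonneg _) hφ
    have h5 : -1 ≤ c φ ∧ c φ ≤ 1 := ⟨by nlinarith, by nlinarith⟩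
    omega
  have hcard : (T.filter fun φ => c φ ≠ 0).card = 2 := by
    have h2 : ∑ φ ∈ T, c φ ^ 2 = ∑ φ ∈ T, (if c φ ≠ 0 then (1 : ℤ) else 0) :=
      Finset.sum_congr rfl fun φ hφ => by rcases hle φ hφ with e | e | e <;> simp [e]
    rw [h2, Finset.sum_boole] at hs
    have : (((T.filter fun φ => c φ ≠ 0).card : ℕ) : ℤ) = 2 := by linarith
    exact_mod_cast this
  obtain ⟨P, Q, hPQ, hPQe⟩ := Finset.card_eq_two.mp hcard
  have hP : P ∈ T ∧ c P ≠ 0 := Finset.mem_filter.mp (hPQe ▸ Finset.mem_insert_self P {Q})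
  have hQ : Q ∈ T ∧ c Q ≠ 0 :=
    Finset.mem_filter.mp (hPQe ▸ Finset.mem_insert_of_mem (Finset.mem_singleton_self Q))
  have hsum : ∀ f : IrrCharacter G → ℂ, ∑ φ : IrrCharacter G, (c φ : ℂ) * f φ =
      f (trivialIrr G) + ((c P : ℂ) * f P + (c Q : ℂ) * f Q) := by
    intro f
    rw [← Finset.add_sum_erase _ _ (Finset.mem_univ (trivialIrr G)), h0, Int.cast_one, one_mul, ← hT,
      ← Finset.sum_subset (Finset.filter_subset (fun φ => c φ ≠ 0) T) fun φ hφ hn => by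
        simp only [Finset.mem_filter, hφ, true_and, not_not] at hn
        rw [hn, Int.cast_zero, zero_mul], hPQe, Finset.sum_pair hPQ]
  have hval : ∀ x : G, Ψ x = 1 + ((c P : ℂ) * (P : G → ℂ) x + (c Q : ℂ) * (Q : G → ℂ) x) := by
    intro x
    have h := congrFun hΨ x
    rw [Finset.sum_apply, Finset.sum_congr rfl fun φ _ =>
      show ((c φ : ℂ) • (φ : G → ℂ)) x = (c φ : ℂ) * (φ : G → ℂ) x from rfl, hsum] at h
    exact h
  have hdP : (P : G → ℂ) 1 ≠ 0 := IsIrr.one_ne_zero P.2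
  have hdQ : (Q : G → ℂ) 1 ≠ 0 := IsIrr.one_ne_zero Q.2
  have hcP : (c P : ℂ) ≠ 0 := Int.cast_ne_zero.mpr hP.2
  have hcQ : (c Q : ℂ) ≠ 0 := Int.cast_ne_zero.mpr hQ.2
  have e0 := (hval 1).symm.trans h1
  refine ⟨charKer (IsIrr.isCharacter P.2) ⊓ charKer (IsIrr.isCharacter Q.2), ?_, fun v hv => ?_, fun x hx => ?_⟩
  · haveI := charKer_normal (IsIrr.isCharacter P.2)
    haveI := charKer_normal (IsIrr.isCharacter Q.2)
    infer_instance
  · have e2 := Block.sum_classFun_mul_conj (IsGenChar.classFun hgen) v v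
    rw [Finset.sum_eq_zero fun g _ => hprod v hv g, mul_zero,
      Finset.sum_congr rfl (g := fun χ : IrrCharacter G => (c χ : ℂ) *
        ((χ : G → ℂ) v * (χ : G → ℂ) v / (χ : G → ℂ) 1)) fun χ _ => by rw [hc]; ring, hsum,
      show ((trivialIrr G : IrrCharacter G) : G → ℂ) v = 1 from rfl,
      show ((trivialIrr G : IrrCharacter G) : G → ℂ) 1 = 1 from rfl, mul_one, div_one] at e2
    have e1 := (hval v).symm.trans (hS v hv)
    refine ⟨(mem_charKer _).mpr (two_term hdP hdQ hcP e0 e1 e2.symm),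
      (mem_charKer _).mpr (two_term (cQ := (c P : ℂ)) (dQ := (P : G → ℂ) 1) (mQ := (P : G → ℂ) v)
        hdQ hdP hcQ ?_ ?_ ?_)⟩
    · linear_combination e0
    · linear_combination e1
    · linear_combination e2.symm
  · rw [hval, (mem_charKer (IsIrr.isCharacter P.2)).mp hx.1, (mem_charKer (IsIrr.isCharacter Q.2)).mp hx.2]
    exact e0

theorem sum_ite_subgroup (M : Subgroup G) (b : G) (z : ℂ) :
    ∑ x : G, (if b⁻¹ * x ∈ M then z else 0) = (Nat.card M : ℂ) * z := by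
  classical
  rw [← Finset.sum_filter, Finset.sum_const, nsmul_eq_mul]
  congr 2
  rw [Nat.card_eq_fintype_card, Fintype.card_subtype]
  exact Finset.card_equiv (Equiv.mulLeft b⁻¹) fun x => by simp

theorem cube_root_sum {w : ℂ} (h3 : w ^ 3 = 1) (h1 : w ≠ 1) : (1 - w) + (1 - w⁻¹) = 3 := by
  have hq : w ^ 2 + w + 1 = 0 := by
    have h2 : (w - 1) * (w ^ 2 + w + 1) = 0 := by linear_combination h3
    exact (mul_eq_zero.mp h2).resolve_left (sub_ne_zero.mpr h1)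
  have hi : w⁻¹ = w ^ 2 := inv_eq_of_mul_eq_one_right (by linear_combination h3)
  rw [hi]
  linear_combination -hq

/-- The induced function of `1 - l`, at an element all whose relevant conjugates are reached from
`M ∪ bM`. -/
theorem indFun_one_sub (M : Subgroup G) (l : M →* ℂˣ) (hl3 : ∀ m : M, l m ^ 3 = 1) {b : G}
    (hb : b ∉ M) (hbM : ∀ m : M, b⁻¹ * (m : G) * b ∈ M) (hbl : ∀ m : M, l ⟨_, hbM m⟩ = (l m)⁻¹)
    (m : M) (hm : l m ≠ 1)
    (hTI : ∀ (x : G) (h : x⁻¹ * (m : G) * x ∈ M), l ⟨_, h⟩ ≠ 1 → x ∈ M ∨ b⁻¹ * x ∈ M) :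
    indFun M (fun y : M => 1 - (l y : ℂ)) m = 3 := by
  classical
  set w : ℂ := (l m : ℂ) with hwdef
  have hw3 : w ^ 3 = 1 := by rw [hwdef, ← Units.val_pow_eq_pow_val, hl3, Units.val_one]
  have hw1 : w ≠ 1 := fun e => hm (Units.ext e)
  have hterm : ∀ x : G, extendByZero M (fun y : M => 1 - (l y : ℂ)) (x⁻¹ * m * x) =
      (if 1⁻¹ * x ∈ M then 1 - w else 0) + (if b⁻¹ * x ∈ M then 1 - w⁻¹ else 0) := by
    intro x
    rw [inv_one, one_mul]
    have hex : x ∈ M → b⁻¹ * x ∉ M := fun h h' => hb (by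
      have h4 := mul_mem h (inv_mem h')
      rwa [mul_inv_rev, inv_inv, ← mul_assoc, mul_inv_cancel, one_mul] at h4)
    by_cases hx : x ∈ M
    · rw [if_pos hx, if_neg (hex hx), add_zero]
      have he : x⁻¹ * (m : G) * x ∈ M := mul_mem (mul_mem (inv_mem hx) m.2) hx
      rw [extendByZero_of_mem _ he]
      have e : l ⟨_, he⟩ = l m := by
        rw [show (⟨_, he⟩ : M) = ⟨x, hx⟩⁻¹ * m * ⟨x, hx⟩ from rfl, map_mul, map_mul, map_inv,
          mul_right_comm, inv_mul_cancel, one_mul]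
      simp [e, hwdef]
    · by_cases hx' : b⁻¹ * x ∈ M
      · rw [if_neg hx, if_pos hx', zero_add]
        have e' : x⁻¹ * (m : G) * x = (b⁻¹ * x)⁻¹ * (b⁻¹ * (m : G) * b) * (b⁻¹ * x) := by group
        have he : x⁻¹ * (m : G) * x ∈ M := by
          rw [e']; exact mul_mem (mul_mem (inv_mem hx') (hbM m)) hx'
        rw [extendByZero_of_mem _ he]
        have e : l ⟨_, he⟩ = (l m)⁻¹ := by
          rw [show (⟨_, he⟩ : M) = ⟨_, hx'⟩⁻¹ * ⟨_, hbM m⟩ * ⟨_, hx'⟩ from Subtype.ext e', map_mul,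
            map_mul, map_inv, mul_right_comm, inv_mul_cancel, one_mul, hbl]
        simp [e, hwdef]
      · rw [if_neg hx, if_neg hx', add_zero]
        by_cases he : x⁻¹ * (m : G) * x ∈ M
        · rw [extendByZero_of_mem _ he]
          by_contra hne
          exact (hTI x he fun e => hne (by simp [e])).elim hx hx'
        · exact extendByZero_not_mem _ he
  have hM : (Nat.card M : ℂ) ≠ 0 := Nat.cast_ne_zero.mpr Nat.card_pos.ne'
  show (Nat.card M : ℂ)⁻¹ * ∑ x : G, extendByZero M _ (x⁻¹ * m * x) = 3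
  rw [Finset.sum_congr rfl fun x _ => hterm x, Finset.sum_add_distrib, sum_ite_subgroup,
    sum_ite_subgroup, ← mul_add, ← mul_assoc, inv_mul_cancel₀ hM, one_mul, cube_root_sum hw3 hw1]

theorem norm_of_values {Ψ : G → ℂ} (hval : ∀ x, Ψ x = 0 ∨ Ψ x = 3)
    (htriv : classInner Ψ (fun _ => (1 : ℂ)) = 1) : classInner Ψ Ψ = 3 := by
  have e : classInner Ψ Ψ = 3 * classInner Ψ (fun _ => (1 : ℂ)) := by
    simp only [classInner, map_one, mul_one]
    rw [← mul_assoc, mul_comm (3 : ℂ), mul_assoc, Finset.mul_sum _ _ (3 : ℂ)]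
    congr 1
    refine Finset.sum_congr rfl fun g _ => ?_
    rcases hval g with h | h <;> simp [h, map_ofNat]
  rw [e, htriv, mul_one]

theorem one_sub_triv (M : Subgroup G) (l : M →* ℂˣ) (hl : l ≠ 1) :
    classInner (fun y : M => 1 - (l y : ℂ)) (fun _ : M => (1 : ℂ)) = 1 := by
  simp only [classInner, map_one, mul_one, Finset.sum_sub_distrib, Char.linear_sum l hl, sub_zero,
    Finset.sum_const, Finset.card_univ, nsmul_eq_mul, ← Nat.card_eq_fintype_card]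
  exact inv_mul_cancel₀ (Nat.cast_ne_zero.mpr Nat.card_pos.ne')

theorem one_sub_gen (M : Subgroup G) (l : M →* ℂˣ) :
    IsGeneralizedCharacter G (indFun M fun y : M => 1 - (l y : ℂ)) :=
  IsGenChar.ind M (IsGenChar.sub (IsGenChar.of_isCharacter IsChar.one)
    (IsGenChar.of_isCharacter (IsIrr.isCharacter (isIrr_linear l))))

/-- The normal subgroup cut out by one linear character of order three. -/
theorem exists_kernel_linear (M : Subgroup G) (l : M →* ℂˣ) (hl : l ≠ 1) (hl3 : ∀ m : M, l m ^ 3 = 1)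
    {b : G} (hb : b ∉ M) (hbM : ∀ m : M, b⁻¹ * (m : G) * b ∈ M) (hbl : ∀ m : M, l ⟨_, hbM m⟩ = (l m)⁻¹)
    (hTI : ∀ (x : G) (m : M), l m ≠ 1 → ∀ h : x⁻¹ * (m : G) * x ∈ M, l ⟨_, h⟩ ≠ 1 →
      x ∈ M ∨ b⁻¹ * x ∈ M)
    {S : Set G} (hS : ∀ v ∈ S, ∀ (x : G) (h : x⁻¹ * v * x ∈ M), l ⟨_, h⟩ = 1)
    (hprod : ∀ v ∈ S, ∀ (g x : G) (h : x⁻¹ * (v * (g * v * g⁻¹)) * x ∈ M), l ⟨_, h⟩ = 1) :
    ∃ K : Subgroup G, K.Normal ∧ S ⊆ K ∧ ∀ m : M, l m ≠ 1 → (m : G) ∉ K := by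
  classical
  set φ : M → ℂ := fun y => 1 - (l y : ℂ) with hφ
  have hzero : ∀ y : G, (∀ (x : G) (h : x⁻¹ * y * x ∈ M), l ⟨_, h⟩ = 1) → indFun M φ y = 0 :=
    fun y hy => indFun_eq_zero_of_not_conj M φ fun x hx => by simp [hφ, hy x hx]
  have hval : ∀ x, indFun M φ x = 0 ∨ indFun M φ x = 3 := by
    intro y
    by_cases hy : ∀ (x : G) (h : x⁻¹ * y * x ∈ M), l ⟨_, h⟩ = 1
    · exact Or.inl (hzero y hy)
    push Not at hy
    obtain ⟨x, hx, hne⟩ := hy
    refine Or.inr ?_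
    rw [← indFun_classFun M φ y x⁻¹, inv_inv]
    exact indFun_one_sub M l hl3 hb hbM hbl ⟨_, hx⟩ hne fun x' => hTI x' ⟨_, hx⟩ hne
  have htriv : classInner (indFun M φ) (fun _ => (1 : ℂ)) = 1 := by
    rw [classInner_indFun M φ (IsIrr.classFun isIrr_one), one_sub_triv M l hl]
  obtain ⟨K, hK, hSK, hKz⟩ := exists_kernel (one_sub_gen M l) (norm_of_values hval htriv) htriv
    (by rw [indFun_one_eq]; simp [hφ]) (S := S) (fun v hv => hzero v (hS v hv))
    (fun v hv g => hzero _ fun x h => hprod v hv g x h)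
  refine ⟨K, hK, hSK, fun m hm hmK => ?_⟩
  have h0 := hKz _ hmK
  rw [indFun_one_sub M l hl3 hb hbM hbl m hm fun x => hTI x m hm] at h0
  norm_num at h0

/-- The data of a difference of two induced functions: `M = C(w)` with a linear character `l` of
order three, and an abelian subgroup `A` of index three in `C(a)` with two linear characters. -/
structure Sect (G : Type u) [Group G] where
  w : G
  a : G
  i : G
  j : G
  c : G
  M : Subgroup G
  A : Subgroup G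
  l : M →* ℂˣ
  lam : A →* ℂˣ
  mu : A →* ℂˣ
  hM : ∀ x, x ∈ M ↔ x * w = w * x
  l3 : ∀ m, l m ^ 3 = 1
  wM : w ∈ M
  lw : l ⟨w, wM⟩ ≠ 1
  hiw : i⁻¹ * w * i = w⁻¹
  hja : j⁻¹ * a * j = a⁻¹
  iM : ∀ m : M, i⁻¹ * (m : G) * i ∈ M
  il : ∀ m : M, l ⟨_, iM m⟩ = (l m)⁻¹
  w3 : w ^ 3 = 1
  a3 : a ^ 3 = 1
  fusion : ∀ x : G, x⁻¹ * w * x ≠ a ∧ x⁻¹ * w * x ≠ a⁻¹
  support : ∀ m : M, l m ≠ 1 → (m : G) ^ 12 = 1 ∧ ((m : G) ^ 4 = w ∨ (m : G) ^ 4 = w⁻¹ ∨
    (m : G) ^ 4 = m ∧ ∃ x : G, x⁻¹ * a * x = m)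
  count : Nat.card {m : M // l m ≠ 1 ∧ ∃ x : G, x⁻¹ * a * x = m} *
    Nat.card ↥(Subgroup.centralizer ({a} : Set G)) = 8 * Nat.card M
  aA : a ∈ A
  A_le : ∀ y ∈ A, y * a = a * y
  A_comm : ∀ y ∈ A, ∀ z ∈ A, y * z = z * y
  A_six : ∀ y ∈ A, y ^ 6 = 1
  A_cube : ∀ y ∈ A, y ^ 3 = 1 → y = 1 ∨ y = a ∨ y = a⁻¹
  A_full : ∀ y : G, y * a = a * y → y ^ 4 = a → y ∈ A
  lam3 : ∀ y, lam y ^ 3 = 1
  lam_a : lam ⟨a, aA⟩ ≠ 1
  mu_a : mu ⟨a, aA⟩ = 1
  mu_ne : mu ≠ 1
  mu_lam : mu * lam ≠ 1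
  jA : ∀ y : A, j⁻¹ * (y : G) * j ∈ A
  cA : ∀ y : A, c⁻¹ * (y : G) * c ∈ A
  c_a : c * a = a * c
  c_out : c ∉ A ∧ c * c ∉ A
  cosets : ∀ x : G, x * a = a * x → x ∈ A ∨ x * c⁻¹ ∈ A ∨ x * (c * c)⁻¹ ∈ A
  mu_orbit : ∀ v : A, v * v = 1 → v ≠ 1 →
    (mu v : ℂ) + mu ⟨_, cA v⟩ + mu ⟨_, cA ⟨_, cA v⟩⟩ = -1

namespace Sect

variable (D : Sect G)

/-- the generalised character -/
noncomputable def psi : G → ℂ :=
  indFun D.M (fun y : D.M => 1 - (D.l y : ℂ)) -
    indFun D.A (fun y : D.A => (D.mu y : ℂ) - ((D.mu * D.lam) y : ℂ))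

/-- in the section of a conjugate of `w` -/
def InW (g : G) : Prop := g ^ 12 = 1 ∧ ∃ x : G, x⁻¹ * g ^ 4 * x = D.w

/-- in the section of a conjugate of `a` -/
def InA (g : G) : Prop := g ^ 12 = 1 ∧ ∃ x : G, x⁻¹ * g ^ 4 * x = D.a

theorem w_inv_conj : D.i⁻¹ * D.w⁻¹ * D.i = D.w := by
  calc D.i⁻¹ * D.w⁻¹ * D.i = (D.i⁻¹ * D.w * D.i)⁻¹ := by group
    _ = D.w := by rw [D.hiw, inv_inv]

theorem a_inv_conj : D.j⁻¹ * D.a⁻¹ * D.j = D.a := by
  calc D.j⁻¹ * D.a⁻¹ * D.j = (D.j⁻¹ * D.a * D.j)⁻¹ := by group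
    _ = D.a := by rw [D.hja, inv_inv]

theorem l_eq_pow (m : D.M) : D.l (m ^ 4) = D.l m := by
  rw [map_pow, pow_succ, D.l3, one_mul]

theorem zero_outside {g : G} (hW : ¬ D.InW g) (hA : ¬ D.InA g) : D.psi g = 0 := by
  have h12 : ∀ x : G, (x⁻¹ * g * x) ^ 12 = 1 → g ^ 12 = 1 := fun x e => by
    rw [show x⁻¹ * g * x = x⁻¹ * g * x⁻¹⁻¹ by group, conj_pow, conj_eq_one_iff] at e
    exact e
  have h4 : ∀ x : G, (x⁻¹ * g * x) ^ 4 = x⁻¹ * g ^ 4 * x := fun x => by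
    rw [show x⁻¹ * g * x = x⁻¹ * g * x⁻¹⁻¹ by group, conj_pow, inv_inv]
  show indFun D.M _ g - indFun D.A _ g = 0
  rw [indFun_eq_zero_of_not_conj D.M _ fun x hx => ?_, indFun_eq_zero_of_not_conj D.A _ fun x hx => ?_, sub_zero]
  swap
  · by_contra hne
    have hl : D.l ⟨x⁻¹ * g * x, hx⟩ ≠ 1 := fun e => hne (by simp [e])
    obtain ⟨e12, e | e | ⟨e, x', e'⟩⟩ := D.support ⟨_, hx⟩ hl
    · exact hW ⟨h12 x e12, x, (h4 x).symm.trans e⟩
    · refine hW ⟨h12 x e12, x * D.i, ?_⟩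
      calc (x * D.i)⁻¹ * g ^ 4 * (x * D.i) = D.i⁻¹ * (x⁻¹ * g ^ 4 * x) * D.i := by group
        _ = D.w := by rw [← h4, e, D.w_inv_conj]
    · refine hA ⟨h12 x e12, x * x'⁻¹, ?_⟩
      calc (x * x'⁻¹)⁻¹ * g ^ 4 * (x * x'⁻¹) = x' * (x⁻¹ * g ^ 4 * x) * x'⁻¹ := by group
        _ = D.a := by rw [← h4, e, ← e']; group
  · by_contra hne
    have hl : D.lam ⟨_, hx⟩ ≠ 1 := fun e => hne (by simp [e])
    have h6 := D.A_six _ hx
    have hy4 := D.A_cube _ (pow_mem hx 4) (by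
      rw [← pow_mul, show 4 * 3 = 6 * 2 from rfl, pow_mul, h6, one_pow])
    have e12 : (x⁻¹ * g * x) ^ 12 = 1 := by rw [show 12 = 6 * 2 from rfl, pow_mul, h6, one_pow]
    rcases hy4 with e | e | e
    · refine hl ?_
      have : D.lam ((⟨_, hx⟩ : D.A) ^ 4) = 1 := by
        rw [show (⟨_, hx⟩ : D.A) ^ 4 = 1 from Subtype.ext e, map_one]
      rwa [map_pow, pow_succ, D.lam3, one_mul] at this
    · exact hA ⟨h12 x e12, x, (h4 x).symm.trans e⟩
    · refine hA ⟨h12 x e12, x * D.j, ?_⟩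
      calc (x * D.j)⁻¹ * g ^ 4 * (x * D.j) = D.j⁻¹ * (x⁻¹ * g ^ 4 * x) * D.j := by group
        _ = D.a := by rw [← h4, e, D.a_inv_conj]

theorem mem_of_pow {g : G} (e : g ^ 4 = D.w) : g ∈ D.M := (D.hM g).2 (by
  rw [← e]; exact (Commute.self_pow g 4).eq)

theorem value_w {g : G} (e : g ^ 4 = D.w) : D.psi g = 3 := by
  have hgM := D.mem_of_pow e
  have hl : D.l ⟨g, hgM⟩ ≠ 1 := by
    rw [← D.l_eq_pow, show (⟨g, hgM⟩ : D.M) ^ 4 = ⟨D.w, D.wM⟩ from Subtype.ext e]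
    exact D.lw
  show indFun D.M _ g - indFun D.A _ g = 3
  have hb : D.i ∉ D.M := fun hi => by
    have h1 := (D.hM _).1 hi
    have h2 : D.w⁻¹ = D.w := by rw [← D.hiw, mul_assoc, ← h1, inv_mul_cancel_left]
    refine D.lw ?_
    have h4 : (⟨D.w, D.wM⟩ : D.M) ^ 2 = 1 := Subtype.ext (by
      show D.w ^ 2 = 1
      rw [pow_two]; nth_rewrite 1 [← h2]; exact inv_mul_cancel _)
    have h5 := congrArg D.l h4
    rw [map_pow, map_one] at h5
    have h6 := D.l3 ⟨D.w, D.wM⟩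
    rwa [pow_succ, h5, one_mul] at h6
  rw [indFun_one_sub D.M D.l D.l3 hb D.iM D.il ⟨g, hgM⟩ hl fun x hx hne => ?_,
    indFun_eq_zero_of_not_conj D.A _ fun x hx => ?_, sub_zero]
  · by_contra hne
    have hl : D.lam ⟨_, hx⟩ ≠ 1 := fun e => hne (by simp [e])
    have hy4 := D.A_cube _ (pow_mem hx 4) (by
      rw [← pow_mul, show 4 * 3 = 6 * 2 from rfl, pow_mul, D.A_six _ hx, one_pow])
    have h4 : (x⁻¹ * g * x) ^ 4 = x⁻¹ * D.w * x := by
      rw [show x⁻¹ * g * x = x⁻¹ * g * x⁻¹⁻¹ by group, conj_pow, inv_inv, e]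
    rw [h4] at hy4
    rcases hy4 with e' | e' | e'
    · refine hl ?_
      have : D.lam ((⟨_, hx⟩ : D.A) ^ 4) = 1 := by
        rw [show (⟨_, hx⟩ : D.A) ^ 4 = 1 from Subtype.ext (h4.trans e'), map_one]
      rwa [map_pow, pow_succ, D.lam3, one_mul] at this
    · exact (D.fusion x).1 e'
    · exact (D.fusion x).2 e'
  · have h4 : (x⁻¹ * g * x) ^ 4 = x⁻¹ * D.w * x := by
      rw [show x⁻¹ * g * x = x⁻¹ * g * x⁻¹⁻¹ by group, conj_pow, inv_inv, e]
    obtain ⟨-, e' | e' | ⟨e', y, ey⟩⟩ := D.support ⟨_, hx⟩ hne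
    · refine Or.inl ((D.hM x).2 ?_)
      have h5 := h4.symm.trans e'
      calc x * D.w = x * (x⁻¹ * D.w * x) := by rw [h5]
        _ = D.w * x := by group
    · refine Or.inr ((D.hM _).2 ?_)
      have h5 := h4.symm.trans e'
      calc D.i⁻¹ * x * D.w = D.i⁻¹ * x * (x⁻¹ * D.w * x)⁻¹ := by rw [h5, inv_inv]
        _ = (D.i⁻¹ * D.w⁻¹ * D.i) * (D.i⁻¹ * x) := by group
        _ = D.w * (D.i⁻¹ * x) := by rw [D.w_inv_conj]
    · exfalso
      refine (D.fusion (x * y⁻¹)).1 ?_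
      calc (x * y⁻¹)⁻¹ * D.w * (x * y⁻¹) = y * (x⁻¹ * D.w * x) * y⁻¹ := by group
        _ = D.a := by rw [← h4, e', ← ey]; group

/-- the value at an element of `a·A` of the function induced from `A`, one half -/
theorem half {α v : G} (hα : α = D.a ∨ α = D.a⁻¹) (hv : v ∈ D.A) (hvv : v * v = 1) :
    ∑ x : G, (if x * D.a = D.a * x then
      extendByZero D.A (fun y : D.A => (D.mu y : ℂ) - ((D.mu * D.lam) y : ℂ)) (x⁻¹ * (α * v) * x) else 0) =
      (Nat.card D.A : ℂ) * ((if v = 1 then 3 else -1) *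
        (1 - (if α = D.a then (D.lam ⟨D.a, D.aA⟩ : ℂ) else (D.lam ⟨D.a, D.aA⟩ : ℂ)⁻¹))) := by
  classical
  have hαA : α ∈ D.A := by rcases hα with rfl | rfl; exacts [D.aA, inv_mem D.aA]
  have hαc : ∀ x : G, x * D.a = D.a * x → x⁻¹ * α * x = α := by
    intro x hx
    have e : x⁻¹ * D.a * x = D.a := by rw [mul_assoc, ← hx, inv_mul_cancel_left]
    rcases hα with rfl | rfl
    · exact e
    · calc x⁻¹ * D.a⁻¹ * x = (x⁻¹ * D.a * x)⁻¹ := by group
        _ = _ := by rw [e]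
  set la : ℂ := if α = D.a then (D.lam ⟨D.a, D.aA⟩ : ℂ) else (D.lam ⟨D.a, D.aA⟩ : ℂ)⁻¹ with hla
  have hne : D.a⁻¹ ≠ D.a := fun e => D.lam_a (by
    have h2 : (⟨D.a, D.aA⟩ : D.A) ^ 2 = 1 := Subtype.ext (by
      show D.a ^ 2 = 1
      rw [pow_two]; nth_rewrite 1 [← e]; exact inv_mul_cancel _)
    have h5 := congrArg D.lam h2
    rw [map_pow, map_one] at h5
    have h6 := D.lam3 ⟨D.a, D.aA⟩
    rwa [pow_succ, h5, one_mul] at h6)
  have hmuα : D.mu ⟨α, hαA⟩ = 1 ∧ (D.lam ⟨α, hαA⟩ : ℂ) = la := by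
    rcases hα with rfl | rfl
    · exact ⟨D.mu_a, by rw [hla, if_pos rfl]⟩
    · refine ⟨?_, ?_⟩
      · rw [show (⟨D.a⁻¹, hαA⟩ : D.A) = ⟨D.a, D.aA⟩⁻¹ from rfl, map_inv, D.mu_a, inv_one]
      · rw [hla, if_neg hne, show (⟨D.a⁻¹, hαA⟩ : D.A) = ⟨D.a, D.aA⟩⁻¹ from rfl, map_inv,
          Units.val_inv_eq_inv_val]
  let F : D.A → ℂ := fun u => (D.mu u : ℂ) * (1 - la)
  have hF : ∀ (x : G) (u : D.A), x * D.a = D.a * x → x⁻¹ * v * x = u →
      extendByZero D.A (fun y : D.A => (D.mu y : ℂ) - ((D.mu * D.lam) y : ℂ)) (x⁻¹ * (α * v) * x) = F u := by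
    intro x u hx hu
    have e : x⁻¹ * (α * v) * x = ((⟨α, hαA⟩ * u : D.A) : G) := by
      calc x⁻¹ * (α * v) * x = (x⁻¹ * α * x) * (x⁻¹ * v * x) := by group
        _ = _ := by rw [hαc x hx, hu]; rfl
    rw [e, extendByZero_apply]
    have hlu : D.lam u = 1 := by
      have h2 : u ^ 2 = 1 := Subtype.ext (by
        show (u : G) ^ 2 = 1
        rw [pow_two, ← hu]
        calc x⁻¹ * v * x * (x⁻¹ * v * x) = x⁻¹ * (v * v) * x := by group
          _ = 1 := by rw [hvv]; group)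
      have h5 := congrArg D.lam h2
      rw [map_pow, map_one] at h5
      have h6 := D.lam3 u
      rwa [pow_succ, h5, one_mul] at h6
    simp only [F, MonoidHom.mul_apply, map_mul, hmuα.1, hlu, Units.val_mul, Units.val_one, one_mul, mul_one]
    rw [hmuα.2]
    ring
  set v₀ : D.A := ⟨v, hv⟩
  set v₁ : D.A := ⟨_, D.cA v₀⟩
  set v₂ : D.A := ⟨_, D.cA v₁⟩
  have hpt : ∀ x : G, (if x * D.a = D.a * x then
      extendByZero D.A (fun y : D.A => (D.mu y : ℂ) - ((D.mu * D.lam) y : ℂ)) (x⁻¹ * (α * v) * x) else 0) =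
      (if x ∈ D.A then F v₀ else 0) + (if x * D.c⁻¹ ∈ D.A then F v₁ else 0) +
        (if x * (D.c * D.c)⁻¹ ∈ D.A then F v₂ else 0) := by
    intro x
    by_cases hx : x * D.a = D.a * x
    · rw [if_pos hx]
      have hcomm : ∀ y ∈ D.A, y⁻¹ * v * y = v := fun y hy => by
        rw [mul_assoc, D.A_comm v hv y hy, inv_mul_cancel_left]
      rcases D.cosets x hx with h | h | h
      · have n1 : x * D.c⁻¹ ∉ D.A := fun h' => D.c_out.1 (by
          simpa using mul_mem (inv_mem h') h)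
        have n2 : x * (D.c * D.c)⁻¹ ∉ D.A := fun h' => D.c_out.2 (by
          simpa [mul_assoc] using mul_mem (inv_mem h') h)
        rw [if_pos h, if_neg n1, if_neg n2, add_zero, add_zero, hF x v₀ hx (hcomm x h)]
      · have n0 : x ∉ D.A := fun h' => D.c_out.1 (by simpa using mul_mem (inv_mem h) h')
        have n2 : x * (D.c * D.c)⁻¹ ∉ D.A := fun h' => D.c_out.1 (by
          simpa [mul_assoc] using mul_mem (inv_mem h') h)
        rw [if_neg n0, if_pos h, if_neg n2, zero_add, add_zero, hF x v₁ hx]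
        show x⁻¹ * v * x = D.c⁻¹ * v * D.c
        calc x⁻¹ * v * x = D.c⁻¹ * ((x * D.c⁻¹)⁻¹ * v * (x * D.c⁻¹)) * D.c := by group
          _ = _ := by rw [hcomm _ h]
      · have n0 : x ∉ D.A := fun h' => D.c_out.2 (by simpa [mul_assoc] using mul_mem (inv_mem h) h')
        have n1 : x * D.c⁻¹ ∉ D.A := fun h' => D.c_out.1 (by
          simpa [mul_assoc] using mul_mem (inv_mem h) h')
        rw [if_neg n0, if_neg n1, if_pos h, zero_add, zero_add, hF x v₂ hx]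
        show x⁻¹ * v * x = D.c⁻¹ * (D.c⁻¹ * v * D.c) * D.c
        calc x⁻¹ * v * x = D.c⁻¹ * (D.c⁻¹ * ((x * (D.c * D.c)⁻¹)⁻¹ * v * (x * (D.c * D.c)⁻¹)) * D.c) * D.c := by group
          _ = _ := by rw [hcomm _ h]
    · rw [if_neg hx]
      have hcc : Commute D.c D.a := D.c_a
      have n : ∀ k : G, Commute k D.a → x * k⁻¹ ∉ D.A := fun k hk h' => hx (by
        have := (show Commute (x * k⁻¹) D.a from D.A_le _ h').mul_left hk
        rwa [inv_mul_cancel_right] at this)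
      rw [if_neg (fun h' => hx (D.A_le x h')), if_neg (n _ hcc), if_neg (n _ (hcc.mul_left hcc))]
      simp
  have hcount : ∀ (k : G) (z : ℂ), ∑ x : G, (if x * k⁻¹ ∈ D.A then z else 0) = (Nat.card D.A : ℂ) * z := by
    intro k z
    rw [← Finset.sum_filter, Finset.sum_const, nsmul_eq_mul]
    congr 2
    rw [Nat.card_eq_fintype_card, Fintype.card_subtype]
    exact Finset.card_equiv (Equiv.mulRight k⁻¹) fun x => by simp
  have h0 := hcount 1 (F v₀)
  simp only [inv_one, mul_one] at h0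
  rw [Finset.sum_congr rfl fun x _ => hpt x, Finset.sum_add_distrib, Finset.sum_add_distrib, h0,
    hcount, hcount, ← mul_add, ← mul_add]
  congr 1
  simp only [F, ← add_mul]
  congr 1
  by_cases h1 : v = 1
  · rw [if_pos h1]
    have e0 : v₀ = 1 := Subtype.ext h1
    have e1 : v₁ = 1 := Subtype.ext (show D.c⁻¹ * v * D.c = 1 by rw [h1]; group)
    have e2 : v₂ = 1 := Subtype.ext (show D.c⁻¹ * (D.c⁻¹ * v * D.c) * D.c = 1 by rw [h1]; group)
    rw [e0, e1, e2, map_one, Units.val_one]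
    norm_num
  · rw [if_neg h1]
    exact D.mu_orbit v₀ (Subtype.ext hvv) fun e => h1 (congrArg Subtype.val e)

theorem value_a {g : G} (e : g ^ 4 = D.a) : D.psi g = 3 := by
  classical
  have hga : g * D.a = D.a * g := by rw [← e]; exact (Commute.self_pow g 4).eq
  have hgA := D.A_full g hga e
  set v := D.a⁻¹ * g with hvdef
  have hv : v ∈ D.A := mul_mem (inv_mem D.aA) hgA
  have hvv : v * v = 1 := by
    have hc : Commute D.a⁻¹ g := (show Commute D.a g from hga.symm).inv_left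
    have h6 := D.A_six g hgA
    have h2 : g ^ 2 = D.a ^ 2 := by
      have := D.a3
      calc g ^ 2 = (g ^ 4) ^ 2 * (g ^ 6)⁻¹ := by group
        _ = D.a ^ 2 := by rw [e, h6, inv_one, mul_one]
    rw [hvdef, ← pow_two, hc.mul_pow, h2]
    group
  have hgv : g = D.a * v := by rw [hvdef, mul_inv_cancel_left]
  set j' := D.j
  set v' := j'⁻¹ * v * j'
  have hv' : v' ∈ D.A := D.jA ⟨v, hv⟩
  have hv'v : v' * v' = 1 := by
    calc v' * v' = j'⁻¹ * (v * v) * j' := by simp only [v']; group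
      _ = 1 := by rw [hvv]; group
  have hv'1 : v' = 1 ↔ v = 1 := by
    refine ⟨fun h => ?_, fun h => by simp [v', h]⟩
    calc v = j' * v' * j'⁻¹ := by simp only [v']; group
      _ = 1 := by rw [h]; group
  set φ : D.A → ℂ := fun y => (D.mu y : ℂ) - ((D.mu * D.lam) y : ℂ) with hφ
  have hja : D.a⁻¹ ≠ D.a := fun e' => by
    refine D.lam_a ?_
    have h2 : (⟨D.a, D.aA⟩ : D.A) ^ 2 = 1 := Subtype.ext (by
      show D.a ^ 2 = 1
      rw [pow_two]; nth_rewrite 1 [← e']; exact inv_mul_cancel _)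
    have h5 := congrArg D.lam h2
    rw [map_pow, map_one] at h5
    have h6 := D.lam3 ⟨D.a, D.aA⟩
    rwa [pow_succ, h5, one_mul] at h6
  -- the function induced from `A`
  have hsplit : ∀ x : G, extendByZero D.A φ (x⁻¹ * g * x) =
      (if x * D.a = D.a * x then extendByZero D.A φ (x⁻¹ * (D.a * v) * x) else 0) +
      (if (j'⁻¹ * x) * D.a = D.a * (j'⁻¹ * x) then
        extendByZero D.A φ ((j'⁻¹ * x)⁻¹ * (D.a⁻¹ * v') * (j'⁻¹ * x)) else 0) := by
    intro x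
    have e' : (j'⁻¹ * x)⁻¹ * (D.a⁻¹ * v') * (j'⁻¹ * x) = x⁻¹ * g * x := by
      rw [hgv, ← D.hja]; simp only [j', v']; group
    rw [e', ← hgv]
    by_cases h1 : x * D.a = D.a * x
    · rw [if_pos h1, if_neg, add_zero]
      intro h2
      refine hja ?_
      have hj : Commute (x * (j'⁻¹ * x)⁻¹) D.a :=
        (show Commute x D.a from h1).mul_left (show Commute (j'⁻¹ * x) D.a from h2).inv_left
      rw [show x * (j'⁻¹ * x)⁻¹ = j' by group] at hj
      rw [← D.hja, mul_assoc, ← hj.eq, inv_mul_cancel_left]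
    by_cases h2 : (j'⁻¹ * x) * D.a = D.a * (j'⁻¹ * x)
    · rw [if_neg h1, if_pos h2, zero_add]
    rw [if_neg h1, if_neg h2, add_zero]
    by_cases hm : x⁻¹ * g * x ∈ D.A
    · exfalso
      have h4 : (x⁻¹ * g * x) ^ 4 = x⁻¹ * D.a * x := by
        rw [show x⁻¹ * g * x = x⁻¹ * g * x⁻¹⁻¹ by group, conj_pow, inv_inv, e]
      have h43 : ((x⁻¹ * g * x) ^ 4) ^ 3 = 1 := by
        rw [← pow_mul, show 4 * 3 = 6 * 2 from rfl, pow_mul, D.A_six _ hm, one_pow]
      rcases D.A_cube _ (pow_mem hm 4) h43 with e5 | e5 | e5 <;> rw [h4] at e5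
      · exact hja (by
          have : D.a = 1 := by
            calc D.a = x * (x⁻¹ * D.a * x) * x⁻¹ := by group
              _ = 1 := by rw [e5]; group
          rw [this, inv_one])
      · exact h1 (by calc x * D.a = x * (x⁻¹ * D.a * x) := by rw [e5]
          _ = D.a * x := by group)
      · refine h2 ?_
        calc j'⁻¹ * x * D.a = j'⁻¹ * x * (x⁻¹ * D.a * x)⁻¹ := by rw [e5, inv_inv]
          _ = (j'⁻¹ * D.a⁻¹ * j') * (j'⁻¹ * x) := by group
          _ = _ := by rw [D.a_inv_conj]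
    · exact extendByZero_not_mem _ hm
  have hA1 := D.half (α := D.a) (Or.inl rfl) hv hvv
  have hA2 := D.half (α := D.a⁻¹) (Or.inr rfl) hv' hv'v
  rw [if_pos rfl] at hA1
  rw [if_neg hja] at hA2
  have hA : indFun D.A φ g = (if v = 1 then 3 else -1) * 3 := by
    have hA0 : (Nat.card D.A : ℂ) ≠ 0 := Nat.cast_ne_zero.mpr Nat.card_pos.ne'
    have hlw : (D.lam ⟨D.a, D.aA⟩ : ℂ) ^ 3 = 1 := by rw [← Units.val_pow_eq_pow_val, D.lam3, Units.val_one]
    have hl1 : (D.lam ⟨D.a, D.aA⟩ : ℂ) ≠ 1 := fun h => D.lam_a (Units.ext h)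
    show (Nat.card D.A : ℂ)⁻¹ * ∑ x : G, extendByZero D.A φ (x⁻¹ * g * x) = _
    rw [Finset.sum_congr rfl fun x _ => hsplit x, Finset.sum_add_distrib, hA1,
      ← Equiv.sum_comp (Equiv.mulLeft j'),
      Finset.sum_congr rfl fun x _ => by rw [Equiv.coe_mulLeft, inv_mul_cancel_left], hA2,
      show (if v' = 1 then (3 : ℂ) else -1) = if v = 1 then 3 else -1 by simp [hv'1], ← mul_add, ← mul_add,
      ← mul_assoc, inv_mul_cancel₀ hA0, one_mul, cube_root_sum hlw hl1]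
  show indFun D.M _ g - indFun D.A _ g = 3
  rw [hA]
  by_cases h1 : v = 1
  swap
  · rw [if_neg h1, indFun_eq_zero_of_not_conj D.M _ fun x hx => ?_]
    · norm_num
    by_contra hne
    have hl : D.l ⟨_, hx⟩ ≠ 1 := fun e' => hne (by simp [e'])
    have h4 : (x⁻¹ * g * x) ^ 4 = x⁻¹ * D.a * x := by
      rw [show x⁻¹ * g * x = x⁻¹ * g * x⁻¹⁻¹ by group, conj_pow, inv_inv, e]
    obtain ⟨-, e' | e' | ⟨e', -⟩⟩ := D.support ⟨_, hx⟩ hl
    · refine (D.fusion x⁻¹).1 ?_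
      rw [← h4.symm.trans e']; group
    · refine (D.fusion x⁻¹).2 ?_
      have h5 := h4.symm.trans e'
      calc x⁻¹⁻¹ * D.w * x⁻¹ = x * (x⁻¹ * D.a * x)⁻¹ * x⁻¹ := by rw [h5, inv_inv, inv_inv]
        _ = D.a⁻¹ := by group
    · refine h1 ?_
      have h5 : D.a = g := by
        have h6 := h4.symm.trans e'
        calc D.a = x * (x⁻¹ * D.a * x) * x⁻¹ := by group
          _ = g := by rw [h6]; group
      rw [hvdef, h5, inv_mul_cancel]
  rw [if_pos h1]
  have hga' : g = D.a := by rw [hgv, h1, mul_one]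
  subst hga'
  -- the function induced from `M` at `a`
  letI : Fintype {m : D.M // D.l m ≠ 1 ∧ ∃ x : G, x⁻¹ * D.a * x = m} := Fintype.ofFinite _
  set T := {m : D.M // D.l m ≠ 1 ∧ ∃ x : G, x⁻¹ * D.a * x = m} with hT
  set χ : D.M → ℂ := fun y => 1 - (D.l y : ℂ) with hχ
  have hterm : ∀ x : G, extendByZero D.M χ (x⁻¹ * D.a * x) =
      ∑ m : T, if x⁻¹ * D.a * x = ((m : D.M) : G) then χ m else 0 := by
    intro x
    by_cases hm : x⁻¹ * D.a * x ∈ D.M
    · rw [extendByZero_of_mem _ hm]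
      by_cases hl : D.l ⟨_, hm⟩ = 1
      · rw [Finset.sum_eq_zero fun m _ => if_neg fun e' => m.2.1 (by
          rw [show (m : D.M) = ⟨_, hm⟩ from Subtype.ext e'.symm]; exact hl)]
        simp [hχ, hl]
      · rw [Finset.sum_eq_single (⟨⟨_, hm⟩, hl, x, rfl⟩ : T)
          (fun m _ hne => if_neg fun e' => hne (Subtype.ext (Subtype.ext e'.symm)))
          (fun h => absurd (Finset.mem_univ _) h), if_pos rfl]
    · rw [extendByZero_not_mem _ hm, Finset.sum_eq_zero fun m _ => if_neg fun e' => hm (by rw [e']; exact m.1.2)]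
  set N := Nat.card ↥(Subgroup.centralizer ({D.a} : Set G)) with hN
  have hfib : ∀ m : T, ∑ x : G, (if x⁻¹ * D.a * x = ((m : D.M) : G) then χ m else 0) = (N : ℂ) * χ m := by
    intro m
    obtain ⟨x₀, hx₀⟩ := m.2.2
    rw [← Finset.sum_filter, Finset.sum_const, nsmul_eq_mul]
    congr 2
    rw [hN, Nat.card_eq_fintype_card, Fintype.card_subtype]
    refine Finset.card_equiv (Equiv.mulRight x₀⁻¹) fun x => ?_
    simp only [Finset.mem_filter, Finset.mem_univ, true_and, Equiv.coe_mulRight,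
      Subgroup.mem_centralizer_singleton_iff]
    rw [← hx₀]
    constructor
    · intro h
      calc x * x₀⁻¹ * D.a = x * (x₀⁻¹ * D.a * x₀) * x₀⁻¹ := by group
        _ = D.a * (x * x₀⁻¹) := by rw [← h]; group
    · intro h
      calc x⁻¹ * D.a * x = x⁻¹ * (D.a * (x * x₀⁻¹)) * x₀ := by group
        _ = x₀⁻¹ * D.a * x₀ := by rw [← h]; group
  have hsym : (2 : ℂ) * ∑ m : T, χ m = 3 * (Nat.card T : ℂ) := by
    let inv : T → T := fun m => ⟨(m : D.M)⁻¹, by rw [map_inv]; exact inv_ne_one.2 m.2.1, by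
      obtain ⟨x, hx⟩ := m.2.2
      refine ⟨D.j * x, ?_⟩
      calc (D.j * x)⁻¹ * D.a * (D.j * x) = x⁻¹ * (D.j⁻¹ * D.a * D.j) * x := by group
        _ = (x⁻¹ * D.a * x)⁻¹ := by rw [D.hja]; group
        _ = _ := by rw [hx]; rfl⟩
    have hinv : Function.Involutive inv := fun m => Subtype.ext (inv_inv (m : D.M))
    have h2 : ∑ m : T, χ m = ∑ m : T, χ ((m : D.M)⁻¹) :=
      (Equiv.sum_comp hinv.toPerm fun m : T => χ m).symm
    rw [two_mul]
    nth_rewrite 2 [h2]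
    rw [← Finset.sum_add_distrib, Finset.sum_congr rfl fun m _ => ?_, Finset.sum_const, Finset.card_univ,
      nsmul_eq_mul, Nat.card_eq_fintype_card, mul_comm]
    simp only [hχ, map_inv, Units.val_inv_eq_inv_val]
    exact cube_root_sum (by rw [← Units.val_pow_eq_pow_val, D.l3, Units.val_one]) fun h => m.2.1 (Units.ext h)
  have hM : indFun D.M χ D.a = 12 := by
    show (Nat.card D.M : ℂ)⁻¹ * ∑ x : G, extendByZero D.M χ (x⁻¹ * D.a * x) = _
    rw [Finset.sum_congr rfl fun x _ => hterm x, Finset.sum_comm, Finset.sum_congr rfl fun m _ => hfib m,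
      ← Finset.mul_sum]
    have hcnt : (Nat.card T : ℂ) * (N : ℂ) = 8 * (Nat.card D.M : ℂ) := by exact_mod_cast D.count
    have hM0 : (Nat.card D.M : ℂ) ≠ 0 := Nat.cast_ne_zero.mpr Nat.card_pos.ne'
    rw [inv_mul_eq_iff_eq_mul₀ hM0]
    linear_combination (N : ℂ) / 2 * hsym + (3 : ℂ) / 2 * hcnt
  rw [hM]
  norm_num

theorem psi_values (g : G) : D.psi g = 0 ∨ D.psi g = 3 := by
  have hcl : ∀ x y : G, D.psi (x * y * x⁻¹) = D.psi y := fun x y => by
    show indFun _ _ _ - indFun _ _ _ = indFun _ _ _ - indFun _ _ _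
    rw [indFun_classFun D.M _ y x, indFun_classFun D.A _ y x]
  by_cases hW : D.InW g
  · obtain ⟨-, x, hx⟩ := hW
    refine Or.inr ?_
    rw [← hcl x⁻¹ g]
    exact D.value_w (by rw [conj_pow, inv_inv]; exact hx)
  by_cases hA : D.InA g
  · obtain ⟨-, x, hx⟩ := hA
    refine Or.inr ?_
    rw [← hcl x⁻¹ g]
    exact D.value_a (by rw [conj_pow, inv_inv]; exact hx)
  exact Or.inl (D.zero_outside hW hA)

/-- Involutions none of whose conjugates inverts `w` or `a` lie in a normal subgroup avoiding both. -/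
theorem exists_normal {S : Set G} (hS : ∀ v ∈ S, v * v = 1 ∧ ∀ x : G,
      (x * v * x⁻¹) * D.w * (x * v * x⁻¹) ≠ D.w⁻¹ ∧ (x * v * x⁻¹) * D.a * (x * v * x⁻¹) ≠ D.a⁻¹) :
    ∃ K : Subgroup G, K.Normal ∧ S ⊆ K ∧ D.w ∉ K ∧ D.a ∉ K := by
  have hl : D.l ≠ 1 := fun e => D.lw (by rw [e]; rfl)
  have htriv : classInner D.psi (fun _ => (1 : ℂ)) = 1 := by
    show classInner (indFun D.M _ - indFun D.A _) _ = 1
    rw [classInner_sub_left, classInner_indFun D.M _ (IsIrr.classFun isIrr_one),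
      classInner_indFun D.A _ (IsIrr.classFun isIrr_one), one_sub_triv D.M D.l hl]
    have e : classInner (fun y : D.A => (D.mu y : ℂ) - ((D.mu * D.lam) y : ℂ)) (fun _ : D.A => (1 : ℂ)) = 0 := by
      simp only [classInner, map_one, mul_one, Finset.sum_sub_distrib, Char.linear_sum _ D.mu_ne,
        Char.linear_sum _ D.mu_lam, sub_zero, mul_zero]
    rw [e, sub_zero]
  have hgen : IsGeneralizedCharacter G D.psi :=
    IsGenChar.sub (one_sub_gen D.M D.l) (IsGenChar.ind D.A (IsGenChar.sub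
      (IsGenChar.of_isCharacter (IsIrr.isCharacter (isIrr_linear D.mu)))
      (IsGenChar.of_isCharacter (IsIrr.isCharacter (isIrr_linear (D.mu * D.lam))))))
  have hzero : ∀ g : G, (∀ x : G, x⁻¹ * g ^ 4 * x ≠ D.w ∧ x⁻¹ * g ^ 4 * x ≠ D.a) → D.psi g = 0 :=
    fun g hg => D.zero_outside (fun ⟨_, x, hx⟩ => (hg x).1 hx) fun ⟨_, x, hx⟩ => (hg x).2 hx
  have hw1 : D.w ≠ 1 := fun e => D.lw (by
    rw [show (⟨D.w, D.wM⟩ : D.M) = 1 from Subtype.ext e, map_one])
  have ha1 : D.a ≠ 1 := fun e => D.lam_a (by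
    rw [show (⟨D.a, D.aA⟩ : D.A) = 1 from Subtype.ext e, map_one])
  have hone : ∀ g : G, g ^ 4 = 1 → D.psi g = 0 := fun g hg => hzero g fun x => by
    rw [hg, mul_one, inv_mul_cancel]
    exact ⟨fun e => hw1 e.symm, fun e => ha1 e.symm⟩
  obtain ⟨K, hK, hSK, hKz⟩ := exists_kernel hgen (norm_of_values D.psi_values htriv) htriv
    (hone 1 (one_pow 4)) (S := S) (fun v hv => hone v (by
      rw [show v ^ 4 = (v * v) * (v * v) by simp only [pow_succ, pow_zero, one_mul, mul_assoc], (hS v hv).1,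
        one_mul])) fun v hv g => hzero _ fun x => by
      have hvi : v⁻¹ = v := inv_eq_of_mul_eq_one_left (hS v hv).1
      set d := v * (g * v * g⁻¹) with hd
      have hinv : v * d * v = d⁻¹ := by
        calc v * d * v = (v * v) * (g * v * g⁻¹) * v := by rw [hd]; group
          _ = g * v⁻¹ * g⁻¹ * v⁻¹ := by rw [(hS v hv).1, hvi, one_mul]
          _ = d⁻¹ := by rw [hd]; group
      have hd4 : v * d ^ 4 * v = (d ^ 4)⁻¹ := by
        rw [← inv_pow, ← hinv]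
        nth_rewrite 2 4 [← hvi]
        rw [show v * d * v⁻¹ = v * d * v⁻¹ from rfl, conj_pow]
      have key : ∀ z : G, x⁻¹ * d ^ 4 * x = z → (x⁻¹ * v * x⁻¹⁻¹) * z * (x⁻¹ * v * x⁻¹⁻¹) = z⁻¹ := by
        intro z hz
        rw [← hz]
        calc _ = x⁻¹ * (v * d ^ 4 * v) * x := by group
          _ = _ := by rw [hd4]; group
      exact ⟨fun e => ((hS v hv).2 x⁻¹).1 (key _ e), fun e => ((hS v hv).2 x⁻¹).2 (key _ e)⟩
  have h4 : ∀ z : G, z ^ 3 = 1 → z ^ 4 = z := fun z hz => by rw [pow_succ, hz, one_mul]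
  exact ⟨K, hK, hSK, fun hw => by
    have := D.value_w (h4 _ D.w3); rw [hKz _ hw] at this; norm_num at this,
    fun ha => by have := D.value_a (h4 _ D.a3); rw [hKz _ ha] at this; norm_num at this⟩

end Sect

end Cfsg.Agent.Recog.ThreeCentSp.Kernel
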