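import Cfsg.Agent.Lib.Recog.ThreeCentSp.TwoBase
import Cfsg.Agent.Lib.Recog.ThreeCentSp.Kernel
import Cfsg.Agent.Lib.Grp.CoprimeAbelian
import Cfsg.Agent.Lib.Invol.Dihedral

/-!
Two conjugates of `a` under `N(J)`: the kernel of a generalised character of norm three shows that
`C(t)` normalises `⟨a⟩`.
-/

set_option autoImplicit false
set_option linter.unusedSectionVars false
set_option linter.style.haveILetI false
set_option maxRecDepth 20000

namespace Cfsg.Agent.Recog.ThreeCentSp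

open Cfsg.Agent.Invol.PSp43Am (V3 act aV xV yV zV)
open Kernel (exists_kernel_linear)

set_option synthInstance.maxSize 1000 in
theorem sl_two_facts :
    (∀ w γ : SL3, w ^ 3 = 1 → w ≠ 1 → (w⁻¹ * γ * w⁻¹ * γ⁻¹) ^ 4 ≠ 1) ∧
    (∀ w : SL3, (∀ γ : SL3, γ * γ = -1 → w * γ = γ * w) → w ^ 4 = 1) ∧
    (∀ w : SL3, w ^ 12 = 1) ∧
    (∀ w : SL3, w ^ 4 = 1 → w = 1 ∨ w = -1 ∨ w * w = -1) :=
  ⟨by decide +kernel, by decide +kernel, by decide +kernel, by decide +kernel⟩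

theorem e2_facts : (∀ p : ZMod 3 × ZMod 3, act 4 ((p.1, p.1, p.2) : V3) = (p.1, p.1, p.2)) ∧
    (∀ v : V3, act 4 v = v → v = (v.1, v.1, v.2.2)) := by decide +kernel

theorem e2_pow : ∀ q : Multiplicative (ZMod 3 × ZMod 3), q ^ 3 = 1 := by decide +kernel

theorem z3_cases : ∀ i : Multiplicative (ZMod 3),
    i = 1 ∨ i = Multiplicative.ofAdd 1 ∨ i * Multiplicative.ofAdd 1 = 1 := by decide +kernel

namespace Two

variable {G : Type*} [Group G] [Finite G] {h : Hyp G} {K : Coords h} (T : Two K)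

theorem π_mul {x y : G} (hx : x ∈ h.C) (hy : y ∈ h.C) :
    h.π ⟨x * y, mul_mem hx hy⟩ = h.π ⟨x, hx⟩ * h.π ⟨y, hy⟩ := map_mul h.π ⟨x, hx⟩ ⟨y, hy⟩

theorem π_pow {x : G} (hx : x ∈ h.C) (n : ℕ) :
    h.π ⟨x ^ n, pow_mem hx n⟩ = h.π ⟨x, hx⟩ ^ n := map_pow h.π ⟨x, hx⟩ n

theorem π_congr {x y : G} (e : x = y) (hx : x ∈ h.C) : h.π ⟨x, hx⟩ = h.π ⟨y, e ▸ hx⟩ := by subst e; rfl

/-- The kernel of `π` in `C(t)` is `⟨a⟩`. -/
theorem ker_t {x : G} (hx : x ∈ h.C) (hπ : h.π ⟨x, hx⟩ = 1) (hxt : x * K.t = K.t * x) :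
    x ∈ Subgroup.zpowers h.a := by
  have hR : x ∈ h.R := (h.mem_R_iff ⟨x, hx⟩).2 hπ
  have h2 := h.inverts K.t_sq K.t_π hR
  rw [← hxt, mul_inv_cancel_right] at h2
  have h3 : (x * x) * (x * x) = x := by
    calc (x * x) * (x * x) = x ^ 3 * x := by simp only [pow_succ, pow_zero, one_mul, mul_assoc]
      _ = x := by rw [h.R_exp _ hR, one_mul]
  exact h3 ▸ mul_mem h2 h2

/-- Lifts to `C(t)`. -/
theorem lift_t (γ : SL3) : ∃ c : G, ∃ hc : c ∈ h.C, c * K.t = K.t * c ∧ h.π ⟨c, hc⟩ = γ := by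
  obtain ⟨⟨c, hc⟩, rfl⟩ := h.π_surj γ
  set s := c⁻¹ * (K.t * c * K.t) with hs
  have htC := K.t_C
  have hsC : s ∈ h.C := mul_mem (inv_mem hc) (mul_mem (mul_mem htC hc) htC)
  have hsR : s ∈ h.R := (h.mem_R_iff ⟨s, hsC⟩).2 (by
    show h.π ((⟨c, hc⟩ : h.C)⁻¹ * (⟨K.t, htC⟩ * ⟨c, hc⟩ * ⟨K.t, htC⟩)) = 1
    rw [map_mul, map_inv, map_mul, map_mul, K.t_π]
    generalize h.π ⟨c, hc⟩ = w
    revert w
    decide +kernel)
  have hts : K.t * s * K.t = s⁻¹ := by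
    refine eq_inv_of_mul_eq_one_left ?_
    have h1 : K.t * s * K.t = K.t * c⁻¹ * K.t * c := by
      rw [hs, show K.t * (c⁻¹ * (K.t * c * K.t)) * K.t = K.t * c⁻¹ * K.t * c * (K.t * K.t) by group, K.t_sq,
        mul_one]
    rw [h1, hs, show K.t * c⁻¹ * K.t * c * (c⁻¹ * (K.t * c * K.t)) = K.t * c⁻¹ * (K.t * K.t) * c * K.t by group,
      K.t_sq, mul_one, inv_mul_cancel_right, K.t_sq]
  refine ⟨c * s ^ 2, mul_mem hc (pow_mem hsC 2), ?_, ?_⟩
  · have h3 : s ^ 3 = 1 := h.R_exp s hsR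
    have e1 : K.t * (c * s ^ 2) * K.t = c * s ^ 2 := by
      calc K.t * (c * s ^ 2) * K.t = (K.t * c * K.t) * ((K.t * s * K.t) * (K.t * s * K.t)) := by
            rw [pow_two]
            calc K.t * (c * (s * s)) * K.t
                = (K.t * c) * (K.t * K.t) * (s * (K.t * K.t) * s) * K.t := by rw [K.t_sq]; group
              _ = _ := by group
        _ = c * (s * (s⁻¹ * s⁻¹)) := by rw [hts, hs]; group
        _ = c * s ^ 2 := by
          rw [mul_inv_cancel_left, show s⁻¹ = s ^ 2 from inv_eq_of_mul_eq_one_left (by rw [← pow_succ, h3])]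
    calc c * s ^ 2 * K.t = (K.t * (c * s ^ 2) * K.t) * K.t := by rw [e1]
      _ = K.t * (c * s ^ 2) := by rw [mul_assoc, K.t_sq, mul_one]
  · rw [π_mul hc (pow_mem hsC 2), π_pow hsC, (h.mem_R_iff ⟨s, hsC⟩).1 hsR, one_pow, mul_one]

/-- Lifts of elements of order four square to `t`. -/
theorem lift_four {γ : SL3} (hγ : γ * γ = -1) :
    ∃ q : G, ∃ hq : q ∈ h.C, q * K.t = K.t * q ∧ q * q = K.t ∧ h.π ⟨q, hq⟩ = γ := by
  obtain ⟨c, hc, hct, hcπ⟩ := lift_t (K := K) γ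
  have hπ : h.π ⟨c * c * K.t, mul_mem (mul_mem hc hc) K.t_C⟩ = 1 := by
    rw [π_mul (mul_mem hc hc) K.t_C, π_mul hc hc, hcπ, hγ, K.t_π]
    decide +kernel
  have hcom : c * c * K.t * K.t = K.t * (c * c * K.t) :=
    ((show Commute c K.t from hct).mul_left hct |>.mul_left (Commute.refl _)).eq
  have hz := ker_t (K := K) _ hπ hcom
  have hzc : c * c * K.t * c = c * (c * c * K.t) := by
    rw [mul_assoc (c * c), ← hct]; group
  have hz3 : (c * c * K.t) ^ 3 = 1 := h.J_exp _ (Subgroup.zpowers_le.2 h.a_mem_J hz)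
  refine ⟨c * (c * c * K.t), mul_mem hc (mul_mem (mul_mem hc hc) K.t_C), ?_, ?_, ?_⟩
  · exact ((show Commute c K.t from hct).mul_left (show Commute (c * c * K.t) K.t from hcom)).eq
  · calc c * (c * c * K.t) * (c * (c * c * K.t))
          = c * ((c * c * K.t) * c) * (c * c * K.t) := by group
      _ = (c * c) * ((c * c * K.t) * (c * c * K.t)) := by rw [hzc]; group
      _ = (c * c * K.t) ^ 3 * K.t := by
          rw [pow_succ' _ 2, pow_two, mul_assoc (c * c * K.t)]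
          have e : c * c = c * c * K.t * K.t := by rw [mul_assoc, K.t_sq, mul_one]
          nth_rewrite 1 [e]
          rw [mul_assoc (c * c * K.t) K.t]
          congr 1
          exact ((show Commute (c * c * K.t) K.t from hcom).mul_left hcom).eq.symm
      _ = K.t := by rw [hz3, one_mul]
  · rw [π_mul hc (mul_mem (mul_mem hc hc) K.t_C), hcπ, hπ, mul_one]

theorem ψ_z_π : h.π ⟨K.ψ zV, K.toBase.ψ_C zV⟩ ≠ 1 := fun e =>
  line_facts.2.1.2 ((K.toBase.mem_R_iff zV).1 ((h.mem_R_iff ⟨K.ψ zV, K.toBase.ψ_C zV⟩).2 e))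

/-- `C(t)` -/
abbrev D (_T : Two K) : Subgroup G := Subgroup.centralizer ({K.t} : Set G)

theorem mem_D {x : G} : x ∈ T.D ↔ x * K.t = K.t * x := Subgroup.mem_centralizer_singleton_iff

theorem w_D : T.w ∈ T.D := T.mem_D.2 T.w_t
theorem E_le_D : T.E ≤ T.D := inf_le_right
theorem t_D : K.t ∈ T.D := T.mem_D.2 rfl
theorem a_D : h.a ∈ T.D := T.mem_D.2 (a_t (K := K))

/-- A normal subgroup of `C(t)` whose part in `C` avoids the outer elements has a normal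
3-complement. -/
theorem normal_part {N : Subgroup T.D} (hN : N.Normal)
    (hπ : ∀ x ∈ N, ∀ hx : (x : G) ∈ h.C, h.π ⟨x, hx⟩ ^ 4 = 1) {x : T.D} (hx : x ∈ N) :
    ∃ i : ℕ, x * (⟨h.a, T.a_D⟩ : T.D) ^ i ∈ Cfsg.pPrimeCore 3 T.D := by
  classical
  haveI := Fact.mk Nat.prime_three
  haveI := hN
  obtain ⟨S, hS⟩ := T.exists_sylow_E T.E_le_D le_rfl
  -- the trace on `C_J(t)`
  have htr : ∀ y ∈ N, (y : G) ∈ T.E → (y : G) = 1 ∨ (y : G) = h.a ∨ (y : G) = h.a⁻¹ := by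
    intro y hy hyE
    obtain ⟨v, hv, e⟩ := T.exists_of_mem_E hyE
    have hC : (y : G) ∈ h.C := e ▸ K.toBase.ψ_C v
    have h4 := hπ y hy hC
    rw [pow_succ, ← π_pow hC, π_congr (show (y : G) ^ 3 = 1 by rw [e]; exact h.J_exp _ (K.ψ_mem v)),
      show (⟨1, _⟩ : h.C) = 1 from rfl, map_one, one_mul] at h4
    have hR : (y : G) ∈ h.R := (h.mem_R_iff ⟨_, hC⟩).2 h4
    rw [e] at hR ⊢
    rcases line_facts.1 v hv ((K.toBase.mem_R_iff v).1 hR) with r | r | r <;> subst r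
    · exact Or.inl K.toBase.ψ_zero
    · exact Or.inr (Or.inl K.ψ_a)
    · exact Or.inr (Or.inr (by rw [K.toBase.ψ_neg, K.ψ_a]))
  have hU : ∀ U : Subgroup T.D, U ≤ N → IsPGroup 3 U → ∃ g : T.D, ∀ u ∈ U, g * u * g⁻¹ ∈ N ∧
      (((g * u * g⁻¹ : T.D) : G) ∈ T.E) := by
    intro U hUN hU
    obtain ⟨Q, hQ⟩ := hU.exists_le_sylow
    obtain ⟨g, hg⟩ := MulAction.exists_smul_eq T.D Q S
    refine ⟨g, fun u hu => ⟨hN.conj_mem _ (hUN hu) g, ?_⟩⟩
    have : g * u * g⁻¹ ∈ (S : Subgroup T.D) := by rw [← hg]; exact ⟨u, hQ hu, rfl⟩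
    rw [hS] at this
    exact this
  set aD : T.D := ⟨h.a, T.a_D⟩ with haD
  by_cases haN : aD ∈ N
  swap
  · refine ⟨0, ?_⟩
    rw [pow_zero, mul_one]
    refine Grp.le_pPrimeCore hN ((Nat.Prime.coprime_iff_not_dvd Nat.prime_three).2 fun hd => ?_).symm hx
    obtain ⟨u, hu⟩ := exists_prime_orderOf_dvd_card' (G := N) 3 hd
    have hp : IsPGroup 3 (Subgroup.zpowers (u : T.D)) := IsPGroup.of_card (n := 1) (by
      rw [Nat.card_zpowers, Subgroup.orderOf_coe, hu, pow_one])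
    obtain ⟨g, hg⟩ := hU _ (Subgroup.zpowers_le.2 u.2) hp
    obtain ⟨h1, h2⟩ := hg _ (Subgroup.mem_zpowers _)
    rcases htr _ h1 h2 with e | e | e
    · have e' : g * (u : T.D) * g⁻¹ = 1 := Subtype.ext e
      rw [conj_eq_one_iff] at e'
      rw [← Subgroup.orderOf_coe, e', orderOf_one] at hu
      omega
    · exact haN ((show g * (u : T.D) * g⁻¹ = aD from Subtype.ext e) ▸ h1)
    · exact haN (inv_inv aD ▸ inv_mem ((show g * (u : T.D) * g⁻¹ = aD⁻¹ from Subtype.ext e) ▸ h1))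
  -- `⟨a⟩` is a Sylow subgroup of `N`
  set aN : N := ⟨aD, haN⟩ with haNdef
  have hoa : orderOf aN = 3 := by rw [← Subgroup.orderOf_coe, ← Subgroup.orderOf_coe]; exact h.ha
  obtain ⟨Q, hQ⟩ := (IsPGroup.of_card (p := 3) (G := Subgroup.zpowers aN) (n := 1)
    (by rw [Nat.card_zpowers, hoa, pow_one])).exists_le_sylow
  have hQeq : Subgroup.zpowers aN = (Q : Subgroup N) := by
    refine Subgroup.eq_of_le_of_card_ge hQ ?_
    rw [Nat.card_zpowers, hoa]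
    obtain ⟨g, hg⟩ := hU ((Q : Subgroup N).map N.subtype) (Subgroup.map_subtype_le _) (Q.isPGroup'.map _)
    refine le_trans (Nat.card_le_card_of_injective
      (fun q : (Q : Subgroup N) => (⟨((g * ((q : N) : T.D) * g⁻¹ : T.D) : G), by
        obtain ⟨h1, h2⟩ := hg _ ⟨_, q.2, rfl⟩
        change ((g * N.subtype (q : N) * g⁻¹ : T.D) : G) ∈ _
        rcases htr _ h1 h2 with e | e | e <;> rw [e]
        · exact one_mem _
        · exact Subgroup.mem_zpowers _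
        · exact inv_mem (Subgroup.mem_zpowers _)⟩ : Subgroup.zpowers h.a)) fun p q e => ?_) h.card_zpow_a.le
    have e1 := congrArg Subtype.val e
    exact Subtype.ext (Subtype.ext (mul_left_cancel (mul_right_cancel (Subtype.ext e1 : g * _ * g⁻¹ = g * _ * g⁻¹))))
  have hP : Subgroup.normalizer ((Q : Subgroup N) : Set N) ≤ Subgroup.centralizer ((Q : Subgroup N) : Set N) := by
    intro n hn
    have ha : n * aN * n⁻¹ = aN := by
      have h1 := (Subgroup.mem_normalizer_iff.1 hn aN).1 (hQeq ▸ Subgroup.mem_zpowers aN)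
      rw [← hQeq] at h1
      obtain ⟨i, hi⟩ := Subgroup.mem_zpowers_iff.1 h1
      have hz : (((n * aN * n⁻¹ : N) : T.D) : G) ∈ Subgroup.zpowers h.a := by
        rw [← hi]
        exact Subgroup.mem_zpowers_iff.2 ⟨i, by simp [haNdef, haD]⟩
      rcases h.mem_zpow_a hz with e | e | e
      · exfalso
        exact h.a_ne (conj_eq_one_iff.1 (show ((n : T.D) : G) * h.a * ((n : T.D) : G)⁻¹ = 1 from e))
      · exact Subtype.ext (Subtype.ext e)
      exfalso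
      set m := ((n : T.D) : G) with hm
      have e' : m * h.a * m⁻¹ = h.a⁻¹ := e
      set c := T.w * m with hc
      have hcC : c ∈ h.C := h.mem_C.2 (mul_inv_eq_iff_eq_mul.1 (by
        calc c * h.a * c⁻¹ = T.w * (m * h.a * m⁻¹) * T.w⁻¹ := by rw [hc]; group
          _ = (T.w * K.ψ aV * T.w⁻¹)⁻¹ := by rw [e', K.ψ_a]; group
          _ = h.a := by rw [T.w_act, K.toBase.ψ_neg, inv_inv, K.ψ_a]))
      set z := K.ψ zV with hz'
      have hzC : z ∈ h.C := K.toBase.ψ_C zV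
      set zD : T.D := ⟨z, T.mem_D.2 (z_t (K := K))⟩
      set wD : T.D := ⟨T.w, T.w_D⟩
      have hf : wD * (zD * (n : T.D) * zD⁻¹ * (n : T.D)⁻¹) * wD⁻¹ ∈ N :=
        hN.conj_mem _ (mul_mem (hN.conj_mem _ n.2 zD) (inv_mem n.2)) wD
      have ef : ((wD * (zD * (n : T.D) * zD⁻¹ * (n : T.D)⁻¹) * wD⁻¹ : T.D) : G) = z⁻¹ * c * z⁻¹ * c⁻¹ := by
        show T.w * (z * m * z⁻¹ * m⁻¹) * T.w⁻¹ = _
        have e1 : T.w * z * T.w⁻¹ = z⁻¹ := by rw [hz', T.w_act, K.toBase.ψ_neg]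
        calc T.w * (z * m * z⁻¹ * m⁻¹) * T.w⁻¹
            = (T.w * z * T.w⁻¹) * (T.w * m) * z⁻¹ * (T.w * m)⁻¹ := by group
          _ = z⁻¹ * c * z⁻¹ * c⁻¹ := by rw [e1]
      have hfC : z⁻¹ * c * z⁻¹ * c⁻¹ ∈ h.C :=
        mul_mem (mul_mem (mul_mem (inv_mem hzC) hcC) (inv_mem hzC)) (inv_mem hcC)
      have h4 := hπ _ hf (ef ▸ hfC)
      rw [π_congr ef] at h4
      refine sl_two_facts.1 (h.π ⟨z, hzC⟩) (h.π ⟨c, hcC⟩) ?_ (ψ_z_π (K := K)) ?_
      · rw [← π_pow hzC, π_congr (show z ^ 3 = 1 from h.J_exp _ (K.ψ_mem _))]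
        exact map_one _
      · rw [← map_inv, ← map_inv, ← map_mul, ← map_mul, ← map_mul]
        exact h4
    refine Subgroup.mem_centralizer_iff.2 fun q hq => ?_
    rw [← hQeq] at hq
    obtain ⟨i, rfl⟩ := Subgroup.mem_zpowers_iff.1 hq
    exact (Commute.zpow_left (show Commute aN n from (mul_inv_eq_iff_eq_mul.1 ha).symm) i).eq
  set W := (MonoidHom.transferSylow Q hP).ker with hW
  have hW3 : ¬ 3 ∣ Nat.card W := MonoidHom.not_dvd_card_ker_transferSylow Q hP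
  have hle : W.map N.subtype ≤ Cfsg.pPrimeCore 3 T.D := by
    refine le_trans (Subgroup.map_mono (Grp.le_pPrimeCore inferInstance
      ((Nat.Prime.coprime_iff_not_dvd Nat.prime_three).2 hW3).symm)) ?_
    haveI : ((Cfsg.pPrimeCore 3 N).map N.subtype).Normal := ConjAct.normal_of_characteristic_of_normal
    refine Grp.le_pPrimeCore inferInstance ?_
    rw [Subgroup.card_map_of_injective N.subtype_injective]
    exact Grp.pPrimeCore_coprime
  obtain ⟨⟨k, q⟩, e⟩ := (MonoidHom.ker_transferSylow_isComplement' Q hP).2 ⟨x, hx⟩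
  obtain ⟨i, hi⟩ : ∃ i : ℕ, aN ^ i = (q : N)⁻¹ := by
    have hq : ((q : N))⁻¹ ∈ Subgroup.zpowers aN := hQeq.ge (inv_mem q.2)
    rw [mem_zpowers_iff_mem_range_orderOf] at hq
    simp only [Finset.mem_image, Finset.mem_range] at hq
    obtain ⟨i, -, hi⟩ := hq
    exact ⟨i, hi⟩
  refine ⟨i, hle ⟨k, k.2, ?_⟩⟩
  have e' : (k : N) = ⟨x, hx⟩ * (q : N)⁻¹ := by rw [← e, mul_inv_cancel_right]
  rw [e', ← hi]
  rfl

/-- The kernel: elements of order four of `C(a) ∩ C(t)` lie in the core of `C(t)`. -/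
theorem four_in_core {q : G} (hqC : q ∈ h.C) (hqt : q * K.t = K.t * q) (hqq : q * q = K.t) :
    (⟨q, T.mem_D.2 hqt⟩ : T.D) ∈ Cfsg.pPrimeCore 3 T.D := by
  classical
  haveI := Fact.mk Nat.prime_three
  set tD : T.D := ⟨K.t, T.t_D⟩ with htD
  have hcen : ∀ d : T.D, d * tD = tD * d := fun d => Subtype.ext (T.mem_D.1 d.2)
  haveI : (Subgroup.zpowers tD).Normal := ⟨fun y hy d => by
    obtain ⟨i, rfl⟩ := Subgroup.mem_zpowers_iff.1 hy
    rw [(Commute.zpow_right (hcen d) i).eq, mul_inv_cancel_right]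
    exact Subgroup.zpow_mem _ (Subgroup.mem_zpowers _) i⟩
  set f := QuotientGroup.mk' (Subgroup.zpowers tD) with hf
  have ht1 : K.t ≠ 1 := fun e => h.neg_ne_one K.t_π (e ▸ Subgroup.one_mem _)
  have hot : orderOf tD = 2 := by
    rw [← Subgroup.orderOf_coe]
    exact orderOf_eq_prime (by rw [pow_two]; exact K.t_sq) ht1
  have hfk : ∀ x y : T.D, f x = f y → (y : G) = x ∨ (y : G) = x * K.t := by
    intro x y e
    have hm : x⁻¹ * y ∈ Subgroup.zpowers tD := QuotientGroup.eq.1 e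
    rw [mem_zpowers_iff_mem_range_orderOf, hot] at hm
    simp only [Finset.mem_image, Finset.mem_range] at hm
    obtain ⟨i, hi, e'⟩ := hm
    have hy : y = x * tD ^ i := by rw [e', mul_inv_cancel_left]
    interval_cases i
    · exact Or.inl (by rw [hy, pow_zero, mul_one])
    · exact Or.inr (by rw [hy, pow_one]; rfl)
  have ht3 : K.t ^ 3 = K.t := by rw [pow_succ, pow_two, K.t_sq, one_mul]
  have hlift : ∀ (x : T.D) (v : V3), act 4 v = v → (x : G) ^ 3 = 1 →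
      ∀ hv : K.ψ v ∈ T.D, f x = f ⟨K.ψ v, hv⟩ → (x : G) = K.ψ v := by
    intro x v hv h3 hvD e
    rcases hfk x _ e with r | r
    · exact r.symm
    exfalso
    have : K.ψ v ^ 3 = (x : G) ^ 3 * K.t ^ 3 := by
      rw [show K.ψ v = (x : G) * K.t from r, (show Commute (x : G) K.t from T.mem_D.1 x.2).mul_pow]
    rw [h.J_exp _ (K.ψ_mem v), h3, one_mul, ht3] at this
    exact ht1 this.symm
  -- the image of `C_J(t)`
  let φ : Multiplicative (ZMod 3 × ZMod 3) →* T.D :=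
    { toFun := fun p => ⟨K.ψ (p.toAdd.1, p.toAdd.1, p.toAdd.2), T.E_le_D (T.ψ_mem_E (e2_facts.1 _))⟩
      map_one' := Subtype.ext K.toBase.ψ_zero
      map_mul' := fun p r => Subtype.ext (by
        show K.ψ _ = K.ψ _ * K.ψ _
        rw [← K.ψ_add]; rfl) }
  have hinj : Function.Injective (f.comp φ) := by
    intro p r e
    have := hlift (φ p) _ (e2_facts.1 r.toAdd) (h.J_exp _ (K.ψ_mem _)) (φ r).2 e
    have h2 := K.ψ_inj this
    simp only [Prod.mk.injEq] at h2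
    exact Multiplicative.toAdd.injective (Prod.ext h2.1 h2.2.2)
  set M := (f.comp φ).range with hM
  set e := MonoidHom.ofInjective hinj
  obtain ⟨ζ, hζ3, hζ1⟩ : ∃ w : ℂˣ, w ^ 3 = 1 ∧ w ≠ 1 := by
    have h := Complex.isPrimitiveRoot_exp 3 (by norm_num)
    refine ⟨Units.mk0 _ (h.ne_zero (by norm_num)), Units.ext (by simpa using h.pow_eq_one),
      fun e => h.ne_one (by norm_num) (by simpa using congrArg Units.val e)⟩
  let ω : Multiplicative (ZMod 3 × ZMod 3) →* Multiplicative (ZMod 3) :=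
    { toFun := fun p => Multiplicative.ofAdd (wt (p.toAdd.1, p.toAdd.1, p.toAdd.2))
      map_one' := by simp [wt]
      map_mul' := fun p r => by
        rw [← ofAdd_add]; congr 1; simp only [wt, toAdd_mul, Prod.fst_add, Prod.snd_add]; ring }
  set χ : Multiplicative (ZMod 3) →* ℂˣ := AddMonoidHom.toMultiplicativeLeft (Invol.zmodPow ζ hζ3)
  have hχ1 : χ (Multiplicative.ofAdd 1) = ζ := by
    show Additive.toMul (Invol.zmodPow ζ hζ3 (((1 : ℤ) : ZMod 3))) = ζ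
    rw [Invol.zmodPow_intCast, zpow_one]
  set l : M →* ℂˣ := χ.comp (ω.comp e.symm.toMonoidHom) with hl
  have hlv : ∀ (p : Multiplicative (ZMod 3 × ZMod 3)) (hp : (f.comp φ) p ∈ M), l ⟨(f.comp φ) p, hp⟩ = χ (ω p) :=
    fun p hp => by
      rw [hl, show (⟨(f.comp φ) p, hp⟩ : M) = e p from Subtype.ext rfl]
      simp
  have hsix : ∀ p, χ (ω p) ≠ 1 → wt (p.toAdd.1, p.toAdd.1, p.toAdd.2) ≠ 0 := fun p hp e0 => hp (by
    show χ (Multiplicative.ofAdd (wt _)) = 1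
    rw [e0, ofAdd_zero, map_one])
  have hl3 : ∀ m, l m ^ 3 = 1 := by
    rintro ⟨_, p, rfl⟩
    rw [← map_pow]
    refine (congrArg l (Subtype.ext ?_)).trans (map_one l)
    rw [SubgroupClass.coe_pow, Subgroup.coe_one]
    exact ((map_pow (f.comp φ) p 3).symm).trans (by rw [e2_pow, map_one])
  have hl1 : l ≠ 1 := fun e1 => hζ1 (by
    have := (hlv (Multiplicative.ofAdd (0, 1)) ⟨_, rfl⟩).symm.trans (DFunLike.congr_fun e1 _)
    rw [MonoidHom.one_apply] at this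
    rw [← hχ1]
    exact this)
  set wD : T.D := ⟨T.w, T.w_D⟩
  set b := f wD
  have hbφ : ∀ p, wD⁻¹ * φ p * wD = φ p⁻¹ := fun p => Subtype.ext (by
    show T.w⁻¹ * K.ψ _ * T.w = K.ψ _
    rw [T.w_inv, T.w_conj]
    rfl)
  have hb : b ∉ M := by
    rintro ⟨p, hp⟩
    have hwa : T.w * h.a * T.w⁻¹ = h.a⁻¹ := by rw [← K.ψ_a, T.w_act, K.toBase.ψ_neg]
    refine h.a_inv_ne (hwa.symm.trans (mul_inv_eq_iff_eq_mul.2 ?_))
    refine h.mem_C.1 ?_
    rcases hfk (φ p) wD hp with r | r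
    · rw [show T.w = _ from r]; exact K.toBase.ψ_C _
    · rw [show T.w = _ from r]; exact mul_mem (K.toBase.ψ_C _) K.t_C
  have hbM : ∀ m : M, b⁻¹ * (m : T.D ⧸ Subgroup.zpowers tD) * b ∈ M := by
    rintro ⟨_, p, rfl⟩
    exact ⟨p⁻¹, by show f (φ p⁻¹) = _; rw [← hbφ, map_mul, map_mul, map_inv]; rfl⟩
  have hbl : ∀ m : M, l ⟨_, hbM m⟩ = (l m)⁻¹ := by
    rintro ⟨_, p, rfl⟩
    refine (congrArg l (Subtype.ext ?_)).trans (map_inv l _)
    show (f wD)⁻¹ * f (φ p) * f wD = (f (φ p))⁻¹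
    rw [← map_inv, ← map_mul, ← map_mul, hbφ, map_inv, map_inv]
  have hTI : ∀ (x : T.D ⧸ Subgroup.zpowers tD) (m : M), l m ≠ 1 →
      ∀ hh : x⁻¹ * (m : T.D ⧸ Subgroup.zpowers tD) * x ∈ M, l ⟨_, hh⟩ ≠ 1 → x ∈ M ∨ b⁻¹ * x ∈ M := by
    intro x
    obtain ⟨g, rfl⟩ := QuotientGroup.mk'_surjective _ x
    rintro ⟨_, p, rfl⟩ hm ⟨r, hr⟩ -
    replace hm : χ (ω p) ≠ 1 := fun e0 => hm ((hlv p ⟨p, rfl⟩).trans e0)
    have hv := e2_facts.1 p.toAdd
    have hv' := hsix p hm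
    have hr' : f (g⁻¹ * φ p * g) = f (φ r) := by
      rw [map_mul, map_mul, map_inv]; exact hr.symm
    have e3 := hlift _ _ (e2_facts.1 r.toAdd) (by
      show ((g : G)⁻¹ * K.ψ _ * (g : G)) ^ 3 = 1
      rw [show (g : G)⁻¹ * K.ψ (p.toAdd.1, p.toAdd.1, p.toAdd.2) * (g : G) =
        (g : G)⁻¹ * K.ψ (p.toAdd.1, p.toAdd.1, p.toAdd.2) * ((g : G)⁻¹)⁻¹ by rw [inv_inv], conj_pow,
        h.J_exp _ (K.ψ_mem _), mul_one, mul_inv_cancel]) (φ r).2 hr'
    have hin : ∀ d : T.D, (d : G) * K.ψ (p.toAdd.1, p.toAdd.1, p.toAdd.2) =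
        K.ψ (p.toAdd.1, p.toAdd.1, p.toAdd.2) * d → f d ∈ M := by
      intro d hd
      obtain ⟨u, hu, hcase⟩ := T.cent_six hv hv' (T.mem_D.1 d.2) hd
      refine ⟨Multiplicative.ofAdd (u.1, u.2.2), ?_⟩
      have hu' : ((φ (Multiplicative.ofAdd (u.1, u.2.2)) : T.D) : G) = K.ψ u :=
        congrArg K.ψ (e2_facts.2 u hu).symm
      rcases hcase with c | c
      · exact congrArg f (Subtype.ext (hu'.trans c.symm))
      · refine QuotientGroup.eq.2 ?_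
        rw [show (φ (Multiplicative.ofAdd (u.1, u.2.2)))⁻¹ * d = tD from Subtype.ext (by
          show (K.ψ _)⁻¹ * (d : G) = K.t
          rw [show K.ψ _ = K.ψ u from hu', c, inv_mul_cancel_left])]
        exact Subgroup.mem_zpowers _
    rcases T.fixed_fusion hv (e2_facts.1 r.toAdd) hv' (g := (g : G)⁻¹) (by rw [inv_inv]; exact e3) with c | c
    · refine Or.inl (hin g ?_)
      rw [c] at e3
      have e4 : (g : G)⁻¹ * K.ψ (p.toAdd.1, p.toAdd.1, p.toAdd.2) * (g : G) = _ := e3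
      rw [mul_assoc, inv_mul_eq_iff_eq_mul] at e4
      exact e4.symm
    · right
      rw [show b⁻¹ * f g = f (wD⁻¹ * g) by rw [map_mul, map_inv]]
      refine hin _ ?_
      rw [c] at e3
      have e4 : (g : G)⁻¹ * K.ψ (p.toAdd.1, p.toAdd.1, p.toAdd.2) * (g : G) = _ := e3
      rw [mul_assoc, inv_mul_eq_iff_eq_mul] at e4
      show T.w⁻¹ * (g : G) * _ = _ * (T.w⁻¹ * (g : G))
      have e5 : K.ψ (p.toAdd.1, p.toAdd.1, p.toAdd.2) * T.w =
          T.w * K.ψ (-(p.toAdd.1, p.toAdd.1, p.toAdd.2)) := by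
        rw [← T.w_conj, ← mul_assoc, ← mul_assoc, T.w_sq, one_mul]
      have e6 : (g : G) * K.ψ (p.toAdd.1, p.toAdd.1, p.toAdd.2) =
          K.ψ (-(p.toAdd.1, p.toAdd.1, p.toAdd.2)) * (g : G) := by
        rw [K.toBase.ψ_neg] at e4 ⊢
        rw [eq_inv_mul_iff_mul_eq, ← mul_assoc, e4, mul_assoc, inv_mul_cancel, mul_one] at *
      rw [T.w_inv, mul_assoc, e6, ← mul_assoc, ← e5, mul_assoc]
  letI := Fintype.ofFinite (T.D ⧸ Subgroup.zpowers tD)
  set S : Set (T.D ⧸ Subgroup.zpowers tD) :=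
    f '' {x : T.D | (x : G) ∈ h.C ∧ (x : G) * (x : G) = K.t}
  have hSsq : ∀ v ∈ S, v * v = 1 := by
    rintro _ ⟨x, ⟨-, hx⟩, rfl⟩
    rw [← map_mul, show x * x = tD from Subtype.ext hx]
    exact (QuotientGroup.eq_one_iff _).2 (Subgroup.mem_zpowers _)
  have hone : ∀ m : M, m * m = 1 → m = 1 := fun m hm => by
    have h3 : m ^ 3 = 1 := by
      obtain ⟨_, p, rfl⟩ := m
      refine Subtype.ext ?_
      show (f.comp φ) p ^ 3 = 1
      rw [← map_pow, e2_pow, map_one]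
    rwa [pow_succ, pow_two, hm, one_mul] at h3
  obtain ⟨N, hN, hSN, hout⟩ := exists_kernel_linear M l hl1 hl3 hb hbM hbl hTI (S := S)
    (fun v hv x hh => by
      rw [hone ⟨_, hh⟩ (Subtype.ext ?_), map_one]
      show x⁻¹ * v * x * (x⁻¹ * v * x) = 1
      rw [show x⁻¹ * v * x * (x⁻¹ * v * x) = x⁻¹ * (v * v) * x by group, hSsq v hv, mul_one, inv_mul_cancel])
    (fun v hv g x hh => by
      by_contra hne
      obtain ⟨q', ⟨hq'C, hq'⟩, rfl⟩ := hv
      obtain ⟨γ, rfl⟩ := QuotientGroup.mk'_surjective _ x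
      obtain ⟨p, hp⟩ := hh
      have hv := e2_facts.1 p.toAdd
      have hv' := hsix p (by rw [← hlv p ⟨p, rfl⟩]; convert hne using 3; exact Subtype.ext hp)
      have hvv := hSsq _ ⟨q', ⟨hq'C, hq'⟩, rfl⟩
      have hvi : (f q')⁻¹ = f q' := inv_eq_of_mul_eq_one_left hvv
      set d := f q' * (g * f q' * g⁻¹) with hd
      have hinv : f q' * d * f q' = d⁻¹ := by
        calc f q' * d * f q' = (f q' * f q') * (g * f q' * g⁻¹) * f q' := by rw [hd]; group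
          _ = g * (f q')⁻¹ * g⁻¹ * (f q')⁻¹ := by rw [hvv, hvi, one_mul]
          _ = d⁻¹ := by rw [hd]; group
      set q₁ : T.D := γ⁻¹ * q' * γ with hq₁
      have hp' : f (φ p) = (f γ)⁻¹ * d * f γ := hp
      have hconj : f (q₁ * φ p * q₁⁻¹) = f (φ p⁻¹) := by
        rw [map_mul, map_mul, map_inv, map_inv, map_inv, hq₁, map_mul, map_mul, map_inv, hp']
        calc (f γ)⁻¹ * f q' * f γ * ((f γ)⁻¹ * d * f γ) * ((f γ)⁻¹ * f q' * f γ)⁻¹
            = (f γ)⁻¹ * (f q' * d * (f q')⁻¹) * f γ := by group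
          _ = _ := by rw [hvi, hinv]; group
      have e3 := hlift _ _ (e2_facts.1 (p⁻¹).toAdd) (by
        show ((q₁ : G) * K.ψ _ * (q₁ : G)⁻¹) ^ 3 = 1
        rw [conj_pow, h.J_exp _ (K.ψ_mem _), mul_one, mul_inv_cancel]) (φ p⁻¹).2 hconj
      have e4 : (q₁ : G) * K.ψ (p.toAdd.1, p.toAdd.1, p.toAdd.2) * (q₁ : G)⁻¹ =
          K.ψ (-(p.toAdd.1, p.toAdd.1, p.toAdd.2)) := e3
      have hcomm : T.w * (q₁ : G) * K.ψ (p.toAdd.1, p.toAdd.1, p.toAdd.2) =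
          K.ψ (p.toAdd.1, p.toAdd.1, p.toAdd.2) * (T.w * (q₁ : G)) := by
        refine mul_inv_eq_iff_eq_mul.1 ?_
        calc T.w * (q₁ : G) * K.ψ _ * (T.w * (q₁ : G))⁻¹
            = T.w * ((q₁ : G) * K.ψ (p.toAdd.1, p.toAdd.1, p.toAdd.2) * (q₁ : G)⁻¹) * T.w⁻¹ := by group
          _ = _ := by rw [e4, T.w_act, neg_neg]
      obtain ⟨u, hu, hcase⟩ := T.cent_six hv hv'
        (T.mem_D.1 (mul_mem T.w_D q₁.2)) hcomm
      have hsq : (q₁ : G) * (q₁ : G) = K.t := by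
        show ((γ : G)⁻¹ * (q' : G) * (γ : G)) * ((γ : G)⁻¹ * (q' : G) * (γ : G)) = _
        rw [show (γ : G)⁻¹ * (q' : G) * (γ : G) * ((γ : G)⁻¹ * (q' : G) * (γ : G)) =
          (γ : G)⁻¹ * ((q' : G) * (q' : G)) * (γ : G) by group, hq', mul_assoc, ← T.mem_D.1 γ.2,
          inv_mul_cancel_left]
      have hq1 : ∀ y : G, T.w * (q₁ : G) = y → (q₁ : G) = T.w * y := fun y e => by
        rw [← e, ← mul_assoc, T.w_sq, one_mul]
      have hwu : T.w * K.ψ u * (T.w * K.ψ u) = 1 := by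
        rw [← mul_assoc, T.w_conj, ← K.ψ_add, neg_add_cancel, K.toBase.ψ_zero]
      rcases hcase with c | c
      · rw [hq1 _ c, hwu] at hsq
        exact ht1 hsq.symm
      · rw [hq1 _ c, show T.w * (K.ψ u * K.t) * (T.w * (K.ψ u * K.t)) =
            T.w * K.ψ u * (K.t * T.w) * (K.ψ u * K.t) by group, ← T.w_t,
          show T.w * K.ψ u * (T.w * K.t) * (K.ψ u * K.t) =
            T.w * K.ψ u * T.w * (K.t * K.ψ u) * K.t by group, ← (comm_iff (K := K) u).2 hu,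
          show T.w * K.ψ u * T.w * (K.ψ u * K.t) * K.t = T.w * K.ψ u * (T.w * K.ψ u) * (K.t * K.t) by group,
          hwu, K.t_sq, one_mul] at hsq
        exact ht1 hsq.symm)
  haveI := hN
  obtain ⟨S3, hS3⟩ := T.exists_sylow_E (Y := T.D ⊓ h.C)
    (le_inf T.E_le_D (fun x hx => h.J_le hx.1)) inf_le_left
  obtain ⟨i, hi⟩ := T.normal_part (N := N.comap f) inferInstance (fun x hx hxC => by
    by_contra h4
    have hx12 := sl_two_facts.2.2.1 (h.π ⟨x, hxC⟩)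
    set y := (x : G) ^ 4 with hy
    have hyC : y ∈ h.C := pow_mem hxC 4
    have hy1 : h.π ⟨y, hyC⟩ ≠ 1 := by rwa [π_pow hxC]
    have hy3 : h.π ⟨y ^ 3, pow_mem hyC 3⟩ = 1 := by
      rw [π_pow hyC, π_pow hxC, ← pow_mul]; exact hx12
    have hyt : y * K.t = K.t * y := ((show Commute (x : G) K.t from T.mem_D.1 x.2).pow_left 4).eq
    have hy9 : y ^ 9 = 1 := by
      have hz := ker_t (K := K) _ hy3 ((show Commute y K.t from hyt).pow_left 3).eq
      rw [show 9 = 3 * 3 from rfl, pow_mul]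
      exact h.J_exp _ (Subgroup.zpowers_le.2 h.a_mem_J hz)
    set y' : ↥(T.D ⊓ h.C) := ⟨y, T.mem_D.2 hyt, hyC⟩
    obtain ⟨Q, hQ⟩ := IsPGroup.exists_le_sylow (p := 3) (P := Subgroup.zpowers y') (by
      rintro ⟨r, hr⟩
      obtain ⟨n, rfl⟩ := Subgroup.mem_zpowers_iff.1 hr
      refine ⟨2, Subtype.ext ?_⟩
      rw [SubgroupClass.coe_pow, Subgroup.coe_one, ← zpow_natCast, ← zpow_mul, mul_comm, zpow_mul,
        zpow_natCast, show y' ^ 3 ^ 2 = 1 from Subtype.ext hy9, one_zpow])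
    obtain ⟨c, hc⟩ := MulAction.exists_smul_eq ↥(T.D ⊓ h.C) Q S3
    have hin : c * y' * c⁻¹ ∈ (S3 : Subgroup _) := by
      rw [← hc]; exact ⟨y', hQ (Subgroup.mem_zpowers _), rfl⟩
    rw [hS3] at hin
    obtain ⟨v, hv, e⟩ := T.exists_of_mem_E hin
    have e' : (c : G) * y * (c : G)⁻¹ = K.ψ v := e
    have hcC : (c : G) ∈ h.C := c.2.2
    have hv' : wt v ≠ 0 := fun e0 => hy1 (by
      have hR := (h.mem_R_iff ⟨K.ψ v, K.toBase.ψ_C v⟩).1 ((K.toBase.mem_R_iff v).2 e0)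
      rw [← π_congr e' (mul_mem (mul_mem hcC hyC) (inv_mem hcC))] at hR
      have e2 : h.π ⟨(c : G), hcC⟩ * h.π ⟨y, hyC⟩ * (h.π ⟨(c : G), hcC⟩)⁻¹ = 1 := by
        rw [← hR, ← map_inv, ← map_mul, ← map_mul]; rfl
      exact conj_eq_one_iff.1 e2)
    have hcD : (⟨(c : G), c.2.1⟩ : T.D) * x ^ 4 * (⟨(c : G), c.2.1⟩ : T.D)⁻¹ ∈ N.comap f :=
      (inferInstance : (N.comap f).Normal).conj_mem _ (pow_mem hx 4) _
    set p : Multiplicative (ZMod 3 × ZMod 3) := Multiplicative.ofAdd (v.1, v.2.2)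
    have hp : (⟨(c : G), c.2.1⟩ : T.D) * x ^ 4 * (⟨(c : G), c.2.1⟩ : T.D)⁻¹ = φ p :=
      Subtype.ext (by
        show (c : G) * ((x : G) ^ 4) * (c : G)⁻¹ = K.ψ (v.1, v.1, v.2.2)
        rw [← e2_facts.2 v hv]; exact e')
    rw [hp] at hcD
    refine hout ⟨(f.comp φ) p, ⟨p, rfl⟩⟩ ?_ hcD
    intro e0
    have e1 := (hlv p ⟨p, rfl⟩).symm.trans e0
    refine hv' ?_
    rw [e2_facts.2 v hv]
    rcases z3_cases (ω p) with r | r | r
    · exact Multiplicative.ofAdd.injective r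
    · exact absurd (by rw [← hχ1, ← r]; exact e1) hζ1
    · exact absurd (by
        have := congrArg χ r
        rwa [map_mul, e1, one_mul, hχ1, map_one] at this) hζ1)
    (x := ⟨q, T.mem_D.2 hqt⟩) (hSN ⟨_, ⟨hqC, hqq⟩, rfl⟩)
  set qD : T.D := ⟨q, T.mem_D.2 hqt⟩
  set aD : T.D := ⟨h.a, T.a_D⟩
  have hq4 : qD ^ 4 = 1 := Subtype.ext (by
    rw [SubgroupClass.coe_pow, show 4 = 2 * 2 from rfl, pow_mul, pow_two, pow_two, hqq, K.t_sq]; rfl)
  have hca : Commute qD aD := Subtype.ext (h.mem_C.1 hqC)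
  have h4 := pow_mem hi 4
  rw [(hca.pow_right i).mul_pow, hq4, one_mul] at h4
  have hcop : (orderOf (((aD ^ i) ^ 4 : T.D))).Coprime 3 :=
    Nat.Coprime.coprime_dvd_left (Subgroup.orderOf_dvd_natCard _ h4) Grp.pPrimeCore_coprime
  have ha3 : aD ^ 3 = 1 := Subtype.ext (by rw [SubgroupClass.coe_pow, h.a_cube]; rfl)
  have h1 : (aD ^ i) ^ 4 = 1 := orderOf_eq_one_iff.1 (Nat.eq_one_of_dvd_coprimes hcop dvd_rfl
    (orderOf_dvd_of_pow_eq_one (by rw [← pow_mul, ← pow_mul, show i * (4 * 3) = 3 * (i * 4) by ring, pow_mul, ha3, one_pow])))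
  have h2 : aD ^ i = 1 := by
    rwa [pow_succ, ← pow_mul, mul_comm, pow_mul, ha3, one_pow, one_mul] at h1
  rwa [h2, mul_one] at hi

end Two

end Cfsg.Agent.Recog.ThreeCentSp
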