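import Cfsg.Agent.Lib.Recog.ThreeCentSp.EightAxis
import Cfsg.Agent.Lib.Recog.ThreeCentSp.TwoQuot

/-!
Eight conjugates: the Sylow 3-subgroup `C_J(t)` of `C(t)`, the elements of order dividing four of
`C(a) ∩ C(t)`, and a complement of `⟨a⟩` in the centraliser of `t` in `N(⟨a⟩)`.
-/

set_option autoImplicit false
set_option linter.unusedSectionVars false
set_option linter.style.haveILetI false
set_option maxRecDepth 20000

namespace Cfsg.Agent.Recog.ThreeCentSp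

open scoped Pointwise
open Cfsg.Agent.Invol.PSp43Am (V3 act act_add aV xV yV zV fV gV exists_transfer mem_normalizer_of_conj_mem)

set_option synthInstance.maxSize 1000 in
theorem fixed_types : (∀ (k : Fin 48), ∀ v : V3, act 4 v = v → act (k : ℕ) zV = v → v = zV ∨ v = -zV) ∧
    (∀ (k : Fin 48), ∀ v : V3, act 4 v = v → act (k : ℕ) fV = v → v = fV ∨ v = -fV) ∧
    (act 4 fV = fV ∧ act 4 zV = zV ∧ act 4 aV = aV) ∧
    (aV - zV = fV ∧ aV + zV ≠ fV ∧ aV + zV ≠ -fV) ∧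
    (∀ u : V3, act 4 u = u → ∃ i n : Fin 3, u = (i : ℕ) • aV + (n : ℕ) • zV) ∧
    (∀ i n : Fin 3, (i : ℕ) • aV = (n : ℕ) • zV → i = 0 ∧ n = 0) :=
  ⟨by decide +kernel, by decide +kernel, by decide +kernel, by decide +kernel, by decide +kernel,
    by decide +kernel⟩

set_option synthInstance.maxSize 1000 in
theorem sl_levi_facts : (∀ w γ γ' : SL3, w ^ 3 = 1 → w ≠ 1 → γ ^ 4 = 1 → γ' ^ 4 = 1 → ∀ n n' : Fin 3,
      γ * w ^ (n : ℕ) = γ' * w ^ (n' : ℕ) → γ = γ' ∧ n = n') ∧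
    Fintype.card {γ : SL3 // γ ^ 4 = 1} = 8 ∧ (-1 : SL3) ^ 4 = 1 :=
  ⟨by decide +kernel, by decide +kernel, by decide +kernel⟩

namespace Eight

variable {G : Type*} [Group G] [Finite G] {h : Hyp G} {K : Coords h} (T : Eight K)

theorem w_act (v : V3) : T.σ 24 * K.ψ v * (T.σ 24)⁻¹ = K.ψ (-v) := by
  rw [T.σ_act, ← neg_facts.2.1 v]; rfl

theorem w_t : T.σ 24 * K.t = K.t * T.σ 24 := by
  rw [← T.σ_four, ← T.σ_mul, ← T.σ_mul]
  exact congrArg T.σ (show cm 24 4 = cm 4 24 by decide +kernel)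

theorem w_inv : (T.σ 24)⁻¹ = T.σ 24 := inv_eq_of_mul_eq_one_left T.w_sq

theorem t_comm_iff (v : V3) : K.ψ v * K.t = K.t * K.ψ v ↔ act 4 v = v := Two.comm_iff (K := K) v

/-- `C_J(t)` -/
def E (_T : Eight K) : Subgroup G := h.J ⊓ Subgroup.centralizer ({K.t} : Set G)

theorem ψ_mem_E {v : V3} (hv : act 4 v = v) : K.ψ v ∈ T.E :=
  ⟨K.ψ_mem v, Subgroup.mem_centralizer_singleton_iff.2 ((Two.comm_iff (K := K) v).2 hv)⟩

theorem exists_of_mem_E {x : G} (hx : x ∈ T.E) : ∃ v, act 4 v = v ∧ x = K.ψ v := by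
  obtain ⟨v, rfl⟩ := K.ψ_surj x hx.1
  exact ⟨v, (Two.comm_iff (K := K) v).1 (Subgroup.mem_centralizer_singleton_iff.1 hx.2), rfl⟩

theorem E_isPGroup : IsPGroup 3 T.E := h.J_isPGroup.to_le inf_le_left

include T in
/-- Fusion of the two special elements of `C_J(t)`. -/
theorem fixed_fusion {v u : V3} {g : G} (hu : act 4 u = u) (hv : v = zV ∨ v = fV)
    (e : g * K.ψ v * g⁻¹ = K.ψ u) : u = v ∨ u = -v := by
  obtain ⟨n, hn, en⟩ := h.fusion_J (K.ψ_mem v) (K.ψ_mem u) e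
  obtain ⟨k, hk⟩ := K.acts n hn
  rw [hk] at en
  rcases hv with rfl | rfl
  · exact fixed_types.1 k u hu (K.ψ_inj en)
  · exact fixed_types.2.1 k u hu (K.ψ_inj en)

include T in
/-- An element normalising `C_J(t)` inverts or centralises both special elements. -/
theorem normalises_E {n : G} (hn : ∀ y ∈ T.E, n * y * n⁻¹ ∈ T.E) :
    (n * K.ψ zV * n⁻¹ = K.ψ zV ∨ n * K.ψ zV * n⁻¹ = K.ψ (-zV)) ∧
      (n * K.ψ fV * n⁻¹ = K.ψ fV ∨ n * K.ψ fV * n⁻¹ = K.ψ (-fV)) := by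
  have key : ∀ v : V3, act 4 v = v → (v = zV ∨ v = fV) →
      n * K.ψ v * n⁻¹ = K.ψ v ∨ n * K.ψ v * n⁻¹ = K.ψ (-v) := fun v hv hs => by
    obtain ⟨u, hu, e⟩ := T.exists_of_mem_E (hn _ (T.ψ_mem_E hv))
    rcases T.fixed_fusion hu hs e with r | r <;> rw [e, r]
    · exact Or.inl rfl
    · exact Or.inr rfl
  exact ⟨key zV fixed_types.2.2.1.2.1 (Or.inl rfl), key fV fixed_types.2.2.1.1 (Or.inr rfl)⟩

include T in
/-- `C_J(t)` is a maximal 3-subgroup of `C(t)`. -/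
theorem E_max {U : Subgroup G} (hU : IsPGroup 3 U) (hUt : U ≤ Subgroup.centralizer ({K.t} : Set G))
    (hEU : T.E ≤ U) : U ≤ T.E := by
  haveI := Fact.mk Nat.prime_three
  by_contra hne
  haveI : Group.IsNilpotent U := hU.isNilpotent
  have hlt : T.E.subgroupOf U < ⊤ := lt_top_iff_ne_top.2 fun e => hne fun y hy => by
    have : (⟨y, hy⟩ : U) ∈ T.E.subgroupOf U := e ▸ Subgroup.mem_top _
    exact this
  obtain ⟨⟨n, hnU⟩, hn, hnE⟩ :=
    SetLike.exists_of_lt (Group.normalizerCondition_of_isNilpotent _ hlt)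
  refine hnE ?_
  show n ∈ T.E
  have h81 : n ^ 81 = 1 := by
    obtain ⟨x, hx⟩ := h.exists_conj_le hU
    have := congrArg Subtype.val (pow_card_eq_one' (x := (⟨_, hx n hnU⟩ : h.P)))
    rw [h.card_P, SubgroupClass.coe_pow, Subgroup.coe_one, conj_pow, conj_eq_one_iff] at this
    exact this
  have hnt : n * K.t = K.t * n := Subgroup.mem_centralizer_singleton_iff.1 (hUt hnU)
  obtain ⟨hz, hf⟩ := T.normalises_E fun y hy => (Subgroup.mem_normalizer_iff.1 hn ⟨y, hEU hy⟩).1 hy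
  have hsq : ∀ v, (n * K.ψ v * n⁻¹ = K.ψ v ∨ n * K.ψ v * n⁻¹ = K.ψ (-v)) →
      n ^ 2 * K.ψ v = K.ψ v * n ^ 2 := fun v hv => by
    refine mul_inv_eq_iff_eq_mul.1 ?_
    rw [pow_two, show n * n * K.ψ v * (n * n)⁻¹ = n * (n * K.ψ v * n⁻¹) * n⁻¹ by group]
    rcases hv with r | r <;> rw [r]
    · exact r
    · rw [K.toBase.ψ_neg, ← conj_inv, r, K.toBase.ψ_neg, inv_inv]
  obtain ⟨q, hcase⟩ := T.cent_bz (hsq fV hf) (hsq zV hz)
  rw [T.σ_four] at hcase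
  have hnt2 : n ^ 2 * K.t = K.t * n ^ 2 := ((show Commute n K.t from hnt).pow_left 2).eq
  have hq : act 4 q = q := (Two.comm_iff (K := K) q).1 (by
    rcases hcase with r | r
    · rwa [r] at hnt2
    · rw [r, ← mul_assoc, mul_assoc (K.ψ q), K.t_sq, mul_one] at hnt2
      have := congrArg (· * K.t) hnt2
      simp only [mul_assoc, K.t_sq, mul_one] at this
      exact this)
  have hqE := T.ψ_mem_E hq
  have h4 : n ^ 4 ∈ T.E := by
    rw [show 4 = 2 * 2 from rfl, pow_mul, pow_two (n ^ 2)]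
    rcases hcase with r | r <;> rw [r]
    · exact mul_mem hqE hqE
    · rw [show K.ψ q * K.t * (K.ψ q * K.t) = K.ψ q * (K.t * K.ψ q) * K.t by group,
        ← (Two.comm_iff (K := K) q).2 hq, mul_assoc, mul_assoc (K.ψ q), K.t_sq, mul_one]
      exact mul_mem hqE hqE
  have e2 : n = (n ^ 4) ^ 61 := by
    rw [← pow_mul, show 4 * 61 = 81 * 3 + 1 from rfl, pow_succ, pow_mul, h81, one_pow, one_mul]
  rw [e2]
  exact pow_mem h4 61

include T in
theorem exists_sylow_E {Y : Subgroup G} (hEY : T.E ≤ Y)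
    (hYt : Y ≤ Subgroup.centralizer ({K.t} : Set G)) :
    ∃ S : Sylow 3 Y, (S : Subgroup Y) = T.E.subgroupOf Y := by
  haveI := Fact.mk Nat.prime_three
  obtain ⟨S, hS⟩ := (T.E_isPGroup.of_equiv (Subgroup.subgroupOfEquivOfLe hEY).symm).exists_le_sylow
  refine ⟨S, (le_antisymm hS ?_).symm⟩
  have := T.E_max (S.isPGroup'.map Y.subtype)
    (fun x hx => hYt (Subgroup.map_subtype_le _ hx))
    (fun x hx => ⟨⟨x, hEY hx⟩, hS hx, rfl⟩)
  exact fun x hx => this ⟨x, hx, rfl⟩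

/-- `C(a) ∩ C(t)` -/
abbrev X0 (_T : Eight K) : Subgroup G := h.C ⊓ Subgroup.centralizer ({K.t} : Set G)

theorem mem_X0 {x : G} : x ∈ T.X0 ↔ x ∈ h.C ∧ x * K.t = K.t * x :=
  and_congr_right fun _ => Subgroup.mem_centralizer_singleton_iff

theorem E_le_X0 : T.E ≤ T.X0 := fun _ hx => ⟨h.J_le hx.1, hx.2⟩

include T in
/-- The elements of order dividing four of `C(a) ∩ C(t)` form a normal subgroup complementing `C_J(t)`. -/
theorem exists_four : ∃ M : Subgroup G, (∀ x, x ∈ M ↔ x ∈ T.X0 ∧ x ^ 4 = 1) ∧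
    ∀ x ∈ T.X0, ∃ m ∈ M, ∃ e ∈ T.E, x = m * e := by
  classical
  haveI := Fact.mk Nat.prime_three
  obtain ⟨S, hS⟩ := T.exists_sylow_E T.E_le_X0 inf_le_right
  have hEc : ∀ p ∈ T.E, ∀ q ∈ T.E, p * q = q * p := fun p hp q hq => h.J_comm p hp.1 q hq.1
  obtain ⟨V, hV⟩ := exists_transfer S fun p hp q hq => by
    rw [hS] at hp hq
    exact Subtype.ext (hEc _ hp _ hq)
  have hfix : ∀ s ∈ (S : Subgroup T.X0), (V s : T.X0) = s ^ (S : Subgroup T.X0).index := fun s hs =>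
    hV s hs fun n hn => Subtype.ext (by
      obtain ⟨hz, -⟩ := T.normalises_E fun y hy =>
        hS.le ((Subgroup.mem_normalizer_iff.1 hn ⟨y, T.E_le_X0 hy⟩).1 (hS.ge hy))
      have hnz : (n : G) * K.ψ zV * (n : G)⁻¹ = K.ψ zV := by
        refine hz.resolve_right fun e => ?_
        obtain ⟨-, hf⟩ := T.normalises_E fun y hy =>
          hS.le ((Subgroup.mem_normalizer_iff.1 hn ⟨y, T.E_le_X0 hy⟩).1 (hS.ge hy))
        have hna : (n : G) * K.ψ aV * (n : G)⁻¹ = K.ψ aV := by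
          rw [K.ψ_a, h.mem_C.1 n.2.1, mul_inv_cancel_right]
        have e2 : (n : G) * K.ψ fV * (n : G)⁻¹ = K.ψ (aV + zV) := by
          rw [← fixed_types.2.2.2.1.1, K.toBase.ψ_sub, ← conj_mul, ← conj_inv, hna, e, K.toBase.ψ_neg,
            inv_inv, K.ψ_add]
        rcases hf with r | r <;> rw [e2] at r
        · exact fixed_types.2.2.2.1.2.1 (K.ψ_inj r)
        · exact fixed_types.2.2.2.1.2.2 (K.ψ_inj r)
      obtain ⟨u, hu, e⟩ := T.exists_of_mem_E (hS.le hs)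
      show (n : G) * T.X0.subtype s = T.X0.subtype s * n
      rw [e]
      obtain ⟨i, m, rfl⟩ := fixed_types.2.2.2.2.1 u hu
      rw [K.ψ_add, K.toBase.ψ_nsmul, K.toBase.ψ_nsmul, K.ψ_a]
      exact (((show Commute (n : G) h.a from h.mem_C.1 n.2.1).pow_right _).mul_right
        ((show Commute (n : G) (K.ψ zV) from mul_inv_eq_iff_eq_mul.1 hnz).pow_right _)).eq)
  have hker : ∀ s ∈ (S : Subgroup T.X0), V s = 1 → s = 1 := fun s hs e => by
    have h1 := hfix s hs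
    rw [e] at h1
    have h3 : s ^ 3 = 1 := Subtype.ext (h.J_exp _ (hS.le hs).1)
    exact orderOf_eq_one_iff.1 (Nat.eq_one_of_dvd_coprimes
      ((Nat.Prime.coprime_iff_not_dvd Nat.prime_three).2 S.not_dvd_index)
      (orderOf_dvd_of_pow_eq_one h3) (orderOf_dvd_of_pow_eq_one h1.symm))
  have hbij : Function.Bijective fun s : (S : Subgroup T.X0) => V s := by
    refine Finite.injective_iff_bijective.1 fun p q e => ?_
    have := hker _ (mul_mem p.2 (inv_mem q.2)) (by rw [map_mul, map_inv]; exact mul_inv_eq_one.2 e)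
    exact Subtype.ext (mul_inv_eq_one.1 this)
  have h3k : ¬ 3 ∣ Nat.card V.ker := by
    have h1 := Grp.sylow_inf_normal_relIndex S V.ker
    have hbot : (S : Subgroup T.X0) ⊓ V.ker = ⊥ := eq_bot_iff.2 fun x hx => hker x hx.1 hx.2
    rwa [← Subgroup.inf_relIndex_right, hbot, Subgroup.relIndex_bot_left] at h1
  refine ⟨V.ker.map T.X0.subtype, fun x => ⟨?_, ?_⟩, ?_⟩
  · rintro ⟨y, hy, rfl⟩
    refine ⟨y.2, ?_⟩
    have hyo : (orderOf (y : G)).Coprime 3 := by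
      rw [Subgroup.orderOf_coe]
      exact Nat.Coprime.coprime_dvd_left (Subgroup.orderOf_dvd_natCard _ hy)
        ((Nat.Prime.coprime_iff_not_dvd Nat.prime_three).2 h3k).symm
    have hC : (y : G) ∈ h.C := y.2.1
    have hπ : h.π ⟨(y : G) ^ 12, pow_mem hC 12⟩ = 1 := by
      rw [Two.π_pow hC, sl_two_facts.2.2.1]
    have hz := Two.ker_t (K := K) _ hπ
      ((show Commute (y : G) K.t from (T.mem_X0.1 y.2).2).pow_left 12).eq
    have h36 : (y : G) ^ (4 * 9) = 1 := by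
      rw [show 4 * 9 = 12 * 3 from rfl, pow_mul]
      exact h.J_exp _ (Subgroup.zpowers_le.2 h.a_mem_J hz)
    show (y : G) ^ 4 = 1
    exact orderOf_dvd_iff_pow_eq_one.1 ((hyo.pow_right 2).dvd_of_dvd_mul_right (orderOf_dvd_of_pow_eq_one h36))
  · rintro ⟨hx, h4⟩
    refine ⟨⟨x, hx⟩, ?_, rfl⟩
    show V _ = 1
    set y := V ⟨x, hx⟩
    have h3 : y ^ 3 = 1 := Subtype.ext (Subtype.ext (h.J_exp _ (hS.le y.2).1))
    have h4' : y ^ 4 = 1 := by rw [← map_pow, show (⟨x, hx⟩ : T.X0) ^ 4 = 1 from Subtype.ext h4, map_one]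
    rwa [pow_succ, h3, one_mul] at h4'
  · intro x hx
    obtain ⟨s, hs⟩ := hbij.2 (V ⟨x, hx⟩)
    refine ⟨x * ((s : T.X0) : G)⁻¹, ⟨⟨x, hx⟩ * (s : T.X0)⁻¹, ?_, rfl⟩, _, hS.le s.2,
      (inv_mul_cancel_right _ _).symm⟩
    show V _ = 1
    rw [map_mul, map_inv]
    exact mul_inv_eq_one.2 hs.symm

/-- The elements of order dividing four of `C(a) ∩ C(t)`. -/
noncomputable def M : Subgroup G := T.exists_four.choose

theorem mem_M {x : G} : x ∈ T.M ↔ (x ∈ h.C ∧ x * K.t = K.t * x) ∧ x ^ 4 = 1 :=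
  (T.exists_four.choose_spec.1 x).trans (and_congr_left fun _ => T.mem_X0)

theorem X0_decomp {x : G} (hx : x ∈ h.C) (hxt : x * K.t = K.t * x) :
    ∃ m ∈ T.M, ∃ e ∈ T.E, x = m * e := T.exists_four.choose_spec.2 x (T.mem_X0.2 ⟨hx, hxt⟩)

theorem M_C {x : G} (hx : x ∈ T.M) : x ∈ h.C := (T.mem_M.1 hx).1.1
theorem M_t {x : G} (hx : x ∈ T.M) : x * K.t = K.t * x := (T.mem_M.1 hx).1.2
theorem M_four {x : G} (hx : x ∈ T.M) : x ^ 4 = 1 := (T.mem_M.1 hx).2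

theorem M_zero {x : G} (hx : x ∈ T.M) (h3 : x ^ 3 = 1) : x = 1 := by
  have := T.M_four hx
  rwa [pow_succ, h3, one_mul] at this

theorem M_inj {x y : G} (hx : x ∈ T.M) (hy : y ∈ T.M)
    (e : h.π ⟨x, T.M_C hx⟩ = h.π ⟨y, T.M_C hy⟩) : x = y := by
  have hm := mul_mem hx (inv_mem hy)
  refine mul_inv_eq_one.1 (T.M_zero hm (h.J_exp _ (Subgroup.zpowers_le.2 h.a_mem_J
    (Two.ker_t (K := K) (T.M_C hm) ?_ (T.M_t hm)))))
  show h.π (⟨x, T.M_C hx⟩ * (⟨y, T.M_C hy⟩ : h.C)⁻¹) = 1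
  rw [map_mul, map_inv, e, mul_inv_cancel]

theorem t_M : K.t ∈ T.M := T.mem_M.2 ⟨⟨K.t_C, rfl⟩, by
  rw [show K.t ^ 4 = (K.t * K.t) * (K.t * K.t) by simp only [pow_succ, pow_zero, one_mul, mul_assoc], K.t_sq,
    one_mul]⟩

theorem M_surj {γ : SL3} (hγ : γ ^ 4 = 1) : ∃ x : G, ∃ hx : x ∈ T.M, h.π ⟨x, T.M_C hx⟩ = γ := by
  rcases sl_two_facts.2.2.2 γ hγ with r | r | r
  · exact ⟨1, one_mem _, by rw [r]; exact map_one h.π⟩
  · exact ⟨K.t, T.t_M, by rw [r]; exact K.t_π⟩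
  · obtain ⟨q, hq, hqt, hqq, e⟩ := Two.lift_four (K := K) r
    refine ⟨q, T.mem_M.2 ⟨⟨hq, hqt⟩, ?_⟩, e⟩
    rw [show 4 = 2 * 2 from rfl, pow_mul, pow_two, pow_two, hqq, K.t_sq]

/-- Elements normalising `⟨a⟩` and centralising `t` normalise `M`. -/
theorem M_conj {x y : G} (hx : x ∈ T.M) (hyt : y * K.t = K.t * y)
    (hya : y * h.a * y⁻¹ = h.a ∨ y * h.a * y⁻¹ = h.a⁻¹) : y * x * y⁻¹ ∈ T.M := by
  have hxa := h.mem_C.1 (T.M_C hx)
  have hy' : y⁻¹ * K.t = K.t * y⁻¹ := ((show Commute y K.t from hyt).inv_left).eq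
  refine T.mem_M.2 ⟨⟨h.mem_C.2 ?_, ((show Commute y K.t from hyt).mul_left (T.M_t hx) |>.mul_left hy').eq⟩, ?_⟩
  · rcases hya with r | r
    · have e : h.a = y * h.a * y⁻¹ := r.symm
      calc y * x * y⁻¹ * h.a = y * x * y⁻¹ * (y * h.a * y⁻¹) := by rw [← e]
        _ = y * (x * h.a) * y⁻¹ := by group
        _ = (y * h.a * y⁻¹) * (y * x * y⁻¹) := by rw [hxa]; group
        _ = _ := by rw [r]
    · have e : h.a = (y * h.a * y⁻¹)⁻¹ := by rw [r, inv_inv]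
      have hxa' : x * h.a⁻¹ = h.a⁻¹ * x := (show Commute x h.a from hxa).inv_right.eq
      calc y * x * y⁻¹ * h.a = y * x * y⁻¹ * (y * h.a * y⁻¹)⁻¹ := by rw [← e]
        _ = y * (x * h.a⁻¹) * y⁻¹ := by group
        _ = (y * h.a * y⁻¹)⁻¹ * (y * x * y⁻¹) := by rw [hxa']; group
        _ = _ := by rw [← e]
  · rw [conj_pow, T.M_four hx, mul_one, mul_inv_cancel]

/-- translations along `z` and the involution inverting `J` -/
def H2 : Subgroup G where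
  carrier := {x | ∃ n : ℕ, x = K.ψ (n • zV) ∨ x = K.ψ (n • zV) * T.σ 24}
  one_mem' := ⟨0, Or.inl (by rw [zero_smul, K.toBase.ψ_zero])⟩
  inv_mem' := by
    rintro x ⟨n, rfl | rfl⟩
    · exact ⟨2 * n, Or.inl (by rw [← K.toBase.ψ_neg, mul_smul, ← line_facts.2.2.2.1 (n • zV) |>.1])⟩
    · refine ⟨n, Or.inr ?_⟩
      rw [mul_inv_rev, T.w_inv, ← K.toBase.ψ_neg]
      have := T.w_act (-(n • zV))
      rw [neg_neg, mul_inv_eq_iff_eq_mul] at this
      exact this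
  mul_mem' := by
    rintro x y ⟨n, rfl | rfl⟩ ⟨m, rfl | rfl⟩
    · exact ⟨n + m, Or.inl (by rw [add_smul, K.ψ_add])⟩
    · exact ⟨n + m, Or.inr (by rw [add_smul, K.ψ_add, mul_assoc])⟩
    · refine ⟨n + 2 * m, Or.inr ?_⟩
      rw [add_smul, K.ψ_add, mul_assoc, mul_assoc, mul_smul, ← (line_facts.2.2.2.1 (m • zV)).1, ← T.w_act]
      group
    · refine ⟨n + 2 * m, Or.inl ?_⟩
      rw [add_smul, K.ψ_add, mul_smul, ← (line_facts.2.2.2.1 (m • zV)).1, ← T.w_act, T.w_inv]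
      group

theorem zV_smul_t (n : ℕ) : K.ψ (n • zV) * K.t = K.t * K.ψ (n • zV) := by
  rw [K.toBase.ψ_nsmul]
  exact ((show Commute (K.ψ zV) K.t from (Two.comm_iff (K := K) zV).2 fixed_types.2.2.1.2.1).pow_left n).eq

theorem H2_normalizes : T.H2 ≤ Subgroup.normalizer (T.M : Set G) := by
  rintro y ⟨n, rfl | rfl⟩
  · exact mem_normalizer_of_conj_mem fun x hx => T.M_conj hx (zV_smul_t n)
      (Or.inl (by rw [← K.ψ_a, K.toBase.ψ_comm, mul_inv_cancel_right]))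
  · refine mem_normalizer_of_conj_mem fun x hx => T.M_conj hx
      ((show Commute (K.ψ (n • zV)) K.t from zV_smul_t n).mul_left (show Commute (T.σ 24) K.t from T.w_t)).eq
      (Or.inr ?_)
    rw [← K.ψ_a, show K.ψ (n • zV) * T.σ 24 * K.ψ aV * (K.ψ (n • zV) * T.σ 24)⁻¹ =
      K.ψ (n • zV) * (T.σ 24 * K.ψ aV * (T.σ 24)⁻¹) * (K.ψ (n • zV))⁻¹ by group, T.w_act,
      K.toBase.ψ_comm, mul_inv_cancel_right, K.toBase.ψ_neg]

/-- the complement of `⟨a⟩` in the centraliser of `t` in the normaliser of `⟨a⟩` -/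
noncomputable def L : Subgroup G := T.M ⊔ T.H2

theorem mem_L {x : G} : x ∈ T.L ↔ ∃ m ∈ T.M, ∃ p ∈ T.H2, x = m * p := by
  have e : (T.L : Set G) = (T.M : Set G) * (T.H2 : Set G) :=
    Subgroup.coe_mul_of_right_le_normalizer_left _ _ T.H2_normalizes
  rw [← SetLike.mem_coe, e, Set.mem_mul]
  exact ⟨fun ⟨m, hm, p, hp, e⟩ => ⟨m, hm, p, hp, e.symm⟩, fun ⟨m, hm, p, hp, e⟩ => ⟨m, hm, p, hp, e.symm⟩⟩

theorem L_t {x : G} (hx : x ∈ T.L) : x * K.t = K.t * x := by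
  obtain ⟨m, hm, p, ⟨n, rfl | rfl⟩, rfl⟩ := T.mem_L.1 hx
  · exact ((show Commute m K.t from T.M_t hm).mul_left (zV_smul_t n)).eq
  · exact ((show Commute m K.t from T.M_t hm).mul_left
      ((show Commute (K.ψ (n • zV)) K.t from zV_smul_t n).mul_left (show Commute (T.σ 24) K.t from T.w_t))).eq

theorem L_a {x : G} (hx : x ∈ T.L) : x * h.a * x⁻¹ = h.a ∨ x * h.a * x⁻¹ = h.a⁻¹ := by
  obtain ⟨m, hm, p, ⟨n, rfl | rfl⟩, rfl⟩ := T.mem_L.1 hx
  · exact Or.inl (mul_inv_eq_iff_eq_mul.2 (h.mem_C.1 (mul_mem (T.M_C hm) (K.toBase.ψ_C _))))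
  · refine Or.inr ?_
    rw [show m * (K.ψ (n • zV) * T.σ 24) * h.a * (m * (K.ψ (n • zV) * T.σ 24))⁻¹ =
      (m * K.ψ (n • zV)) * (T.σ 24 * h.a * (T.σ 24)⁻¹) * (m * K.ψ (n • zV))⁻¹ by group,
      ← K.ψ_a, T.w_act, K.toBase.ψ_neg, K.ψ_a, ← conj_inv,
      mul_inv_eq_iff_eq_mul.2 (h.mem_C.1 (mul_mem (T.M_C hm) (K.toBase.ψ_C _)))]

theorem L_inter {x : G} (hx : x ∈ T.L) (hxa : x ∈ Subgroup.zpowers h.a) : x = 1 := by
  obtain ⟨m, hm, p, ⟨n, rfl | rfl⟩, rfl⟩ := T.mem_L.1 hx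
  · obtain ⟨v, hv⟩ := K.ψ_surj _ (Subgroup.zpowers_le.2 h.a_mem_J hxa)
    have hmJ : m = K.ψ (v - n • zV) := by rw [K.toBase.ψ_sub, hv, mul_inv_cancel_right]
    have hm1 : m = 1 := T.M_zero hm (hmJ ▸ h.J_exp _ (K.ψ_mem _))
    rw [hm1, one_mul] at hxa ⊢
    obtain ⟨i, hi⟩ : ∃ i : Fin 3, K.ψ ((i : ℕ) • aV) = K.ψ (n • zV) := by
      rcases h.mem_zpow_a hxa with e | e | e <;> rw [e]
      · exact ⟨0, by rw [Fin.val_zero, zero_smul, K.toBase.ψ_zero]⟩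
      · exact ⟨1, by rw [Fin.val_one, one_smul, K.ψ_a]⟩
      · exact ⟨2, by rw [← K.ψ_a, ← K.toBase.ψ_neg, (line_facts.2.2.2.1 aV).1]; rfl⟩
    have hn3 : n • zV = ((⟨n % 3, Nat.mod_lt _ (by norm_num)⟩ : Fin 3) : ℕ) • zV := by
      conv_lhs => rw [← Nat.mod_add_div n 3, add_smul, mul_smul, (line_facts.2.2.2.1 ((n / 3) • zV)).2, add_zero]
    have h0 := fixed_types.2.2.2.2.2 i _ ((K.ψ_inj hi).trans hn3)
    rw [hn3, h0.2, Fin.val_zero, zero_smul, K.toBase.ψ_zero]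
  · exfalso
    refine h.a_inv_ne ?_
    have hxC : m * (K.ψ (n • zV) * T.σ 24) ∈ h.C := Subgroup.zpowers_le.2 h.a_mem_C hxa
    have hw : T.σ 24 ∈ h.C := by
      have := mul_mem (inv_mem (K.toBase.ψ_C (n • zV))) (mul_mem (inv_mem (T.M_C hm)) hxC)
      rwa [inv_mul_cancel_left, inv_mul_cancel_left] at this
    have e : T.σ 24 * h.a * (T.σ 24)⁻¹ = h.a⁻¹ := by rw [← K.ψ_a, T.w_act, K.toBase.ψ_neg]
    rw [← e]
    exact mul_inv_eq_iff_eq_mul.2 (h.mem_C.1 hw)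

theorem L_card : 48 ≤ Nat.card T.L := by
  classical
  have hsur := fun γ : {γ : SL3 // γ ^ 4 = 1} => T.M_surj γ.2
  choose f hf hfπ using hsur
  have hw : T.σ 24 ∉ h.C := fun hw => h.a_inv_ne (by
    have e : T.σ 24 * h.a * (T.σ 24)⁻¹ = h.a⁻¹ := by rw [← K.ψ_a, T.w_act, K.toBase.ψ_neg]
    rw [← e]
    exact mul_inv_eq_iff_eq_mul.2 (h.mem_C.1 hw))
  let Φ : {γ : SL3 // γ ^ 4 = 1} × Fin 3 × Fin 2 → T.L := fun q =>
    ⟨f q.1 * (K.ψ ((q.2.1 : ℕ) • zV) * T.σ 24 ^ (q.2.2 : ℕ)), T.mem_L.2 ⟨_, hf q.1, _, (by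
      obtain ⟨γ, n, b⟩ := q
      fin_cases b
      · exact ⟨(n : ℕ), Or.inl (by simp)⟩
      · exact ⟨(n : ℕ), Or.inr (by simp)⟩), rfl⟩⟩
  have hΦ : Function.Injective Φ := by
    rintro ⟨γ, n, b⟩ ⟨γ', n', b'⟩ e
    have e' : f γ * (K.ψ ((n : ℕ) • zV) * T.σ 24 ^ (b : ℕ)) =
        f γ' * (K.ψ ((n' : ℕ) • zV) * T.σ 24 ^ (b' : ℕ)) := congrArg Subtype.val e
    have hC := mul_mem (T.M_C (hf γ)) (K.toBase.ψ_C ((n : ℕ) • zV))
    have hC' := mul_mem (T.M_C (hf γ')) (K.toBase.ψ_C ((n' : ℕ) • zV))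
    rw [← mul_assoc, ← mul_assoc] at e'
    have hb : b = b' := by
      by_contra hne
      refine hw ?_
      fin_cases b <;> fin_cases b'
      · exact absurd rfl hne
      · have := mul_mem (inv_mem hC') hC
        simp only [Fin.zero_eta, Fin.mk_one, Fin.val_zero, Fin.val_one, pow_zero, pow_one, mul_one] at e'
        rwa [e', inv_mul_cancel_left] at this
      · have := mul_mem (inv_mem hC) hC'
        simp only [Fin.zero_eta, Fin.mk_one, Fin.val_zero, Fin.val_one, pow_zero, pow_one, mul_one] at e'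
        rwa [← e', inv_mul_cancel_left] at this
      · exact absurd rfl hne
    subst hb
    have e2 := mul_right_cancel e'
    have hπz : ∀ n : ℕ, h.π ⟨K.ψ (n • zV), K.toBase.ψ_C _⟩ = h.π ⟨K.ψ zV, K.toBase.ψ_C _⟩ ^ n := fun n => by
      rw [← map_pow]; exact congrArg h.π (Subtype.ext (K.toBase.ψ_nsmul n zV))
    have eπ : (γ : SL3) * h.π ⟨K.ψ zV, K.toBase.ψ_C _⟩ ^ (n : ℕ) =
        (γ' : SL3) * h.π ⟨K.ψ zV, K.toBase.ψ_C _⟩ ^ (n' : ℕ) := by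
      rw [← hfπ, ← hfπ, ← hπz, ← hπz, ← map_mul, ← map_mul]
      exact congrArg h.π (Subtype.ext e2)
    have hw3 : h.π ⟨K.ψ zV, K.toBase.ψ_C _⟩ ^ 3 = 1 := by
      rw [← map_pow, show (⟨K.ψ zV, K.toBase.ψ_C _⟩ : h.C) ^ 3 = 1 from Subtype.ext (h.J_exp _ (K.ψ_mem _)),
        map_one]
    obtain ⟨r1, r2⟩ := sl_levi_facts.1 _ _ _ hw3 (Two.ψ_z_π (K := K)) γ.2 γ'.2 n n' eπ
    exact Prod.ext (Subtype.ext r1) (Prod.ext r2 rfl)
  have := Nat.card_le_card_of_injective Φ hΦ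
  rwa [Nat.card_prod, Nat.card_prod, Nat.card_eq_fintype_card (α := {γ : SL3 // γ ^ 4 = 1}),
    sl_levi_facts.2.1, Nat.card_eq_fintype_card (α := Fin 3), Nat.card_eq_fintype_card (α := Fin 2),
    Fintype.card_fin, Fintype.card_fin] at this

end Eight

end Cfsg.Agent.Recog.ThreeCentSp
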