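import Cfsg.Agent.Lib.Recog.ThreeCentSp.EightLevi
import Cfsg.Agent.Lib.Recog.ThreeCentSp.Cert.Lists

/-!
The normaliser of `⟨a⟩` as the split extension of the extraspecial group by `GL(2, 3)`, and the
relations of its generators.
-/

set_option autoImplicit false
set_option linter.unusedSectionVars false
set_option linter.style.haveILetI false
set_option maxRecDepth 20000

namespace Cfsg.Agent.Recog.ThreeCentSp

open Cfsg.Agent.Invol.PSp43Am (V3 act act_add aV xV yV zV fV gV mem_normalizer_of_conj_mem)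
open Cert (ev flat alphaA relA)

/-- coordinates in the extraspecial group -/
abbrev P3 := ZMod 3 × ZMod 3 × ZMod 3

/-- two by two matrices by rows -/
abbrev M4 := ZMod 3 × ZMod 3 × ZMod 3 × ZMod 3

/-- product of coordinates -/
def elMul (p q : P3) : P3 := (p.1 + q.1, p.2.1 + q.2.1, p.2.2 + q.2.2 + p.2.1 * q.1)

/-- power of coordinates -/
def elPow (p : P3) : ℕ → P3
  | 0 => (0, 0, 0)
  | n + 1 => elMul (elPow p n) p

/-- the representative inverted by the swap -/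
def rep (u : ZMod 3 × ZMod 3) : P3 := (u.1, u.2, -(u.1 * u.2))

/-- determinant -/
def det4 (M : M4) : ZMod 3 := M.1 * M.2.2.2 - M.2.1 * M.2.2.1

/-- matrix product -/
def mm4 (A B : M4) : M4 :=
  (A.1 * B.1 + A.2.1 * B.2.2.1, A.1 * B.2.1 + A.2.1 * B.2.2.2,
    A.2.2.1 * B.1 + A.2.2.2 * B.2.2.1, A.2.2.1 * B.2.1 + A.2.2.2 * B.2.2.2)

/-- the transform of coordinates by a matrix -/
def tw (M : M4) (p : P3) : P3 :=
  elMul (elMul (elPow (rep (M.1, M.2.2.1)) p.1.val) (elPow (rep (M.2.1, M.2.2.2)) p.2.1.val))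
    (0, 0, det4 M * p.2.2)

/-- code of a power of the cycle -/
def cI (i : ZMod 3) : Fin 48 := if i = 0 then 0 else if i = 1 then 8 else cm 8 8

/-- coordinates in the monomial model -/
def elM (p : P3) : Mon := (act (cI p.1 : ℕ) (p.2.1 + p.2.2, -p.2.1 + p.2.2, p.2.2), cI p.1)

set_option synthInstance.maxSize 1000 in
theorem el_facts : (∀ p q : P3, monMul (elM p) (elM q) = elM (elMul p q)) ∧
    (∀ p q : P3, elM p = elM q → p = q) ∧
    (∀ p : P3, monMul (monMul (0, 4) (elM p)) (0, 4) = elM (-p.1, -p.2.1, p.2.2)) ∧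
    (∀ p : P3, elMul (-p.1, -p.2.1, p.2.2) p = (0, 0, 0) → p = rep (p.1, p.2.1)) ∧
    (∀ p : P3, monMul (monMul (0, 24) (elM p)) (0, 24) = elM (p.1, -p.2.1, -p.2.2)) ∧
    (∀ p : P3, elMul (elMul (elPow (1, 0, 0) p.1.val) (elPow (0, 1, 0) p.2.1.val)) (elPow (0, 0, 1) p.2.2.val) = p) ∧
    (∀ p : P3, wt (p.2.1 + p.2.2, -p.2.1 + p.2.2, p.2.2) = 0) :=
  ⟨by decide +kernel, by decide +kernel, by decide +kernel, by decide +kernel, by decide +kernel,
    by decide +kernel, by decide +kernel⟩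

set_option synthInstance.maxSize 1000 in
theorem tw_facts :
    (∀ (M : M4) (d : ZMod 3), d ≠ 0 → elMul (rep (M.2.1, M.2.2.2)) (rep (M.1, M.2.2.1)) =
      elMul (0, 0, d) (elMul (rep (M.1, M.2.2.1)) (rep (M.2.1, M.2.2.2))) → d = det4 M) ∧
    (∀ M : M4, det4 M ≠ 0 → ∀ u : ZMod 3 × ZMod 3,
      tw M (rep u) = rep (M.1 * u.1 + M.2.1 * u.2, M.2.2.1 * u.1 + M.2.2.2 * u.2)) ∧
    (∀ M : M4, det4 M ≠ 0 → tw M (0, 0, 1) = (0, 0, det4 M)) :=
  ⟨by decide +kernel, by decide +kernel, by decide +kernel⟩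

theorem tw_center : ∀ d k : ZMod 3, elPow (0, 0, d) k.val = (0, 0, d * k) := by decide +kernel

theorem tw_unit : ∀ M : M4, tw M (1, 0, 0) = rep (M.1, M.2.2.1) ∧ tw M (0, 1, 0) = rep (M.2.1, M.2.2.2) := by
  decide +kernel

theorem gl_card : Fintype.card {M : M4 // det4 M ≠ 0} = 48 := by decide +kernel

theorem det_mm : ∀ A B : M4, det4 A ≠ 0 → det4 B ≠ 0 → det4 (mm4 A B) ≠ 0 := by decide +kernel

namespace Eight

variable {G : Type*} [Group G] [Finite G] {h : Hyp G} {K : Coords h} (T : Eight K)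

theorem φ_inj {p q : Mon} (e : T.φ p = T.φ q) : p = q := by
  have e' : K.ψ p.1 * T.σ p.2 = K.ψ q.1 * T.σ q.2 := e
  have hk : p.2 = q.2 := by
    refine cm_facts.2 p.2 q.2 ?_
    have hh : ∀ v, act (p.2 : ℕ) v = act (q.2 : ℕ) v := fun v => K.ψ_inj (by
      have h1 : ∀ r : Mon, K.ψ r.1 * T.σ r.2 * K.ψ v * (K.ψ r.1 * T.σ r.2)⁻¹ = K.ψ (act (r.2 : ℕ) v) := fun r => by
        rw [show K.ψ r.1 * T.σ r.2 * K.ψ v * (K.ψ r.1 * T.σ r.2)⁻¹ =
          K.ψ r.1 * (T.σ r.2 * K.ψ v * (T.σ r.2)⁻¹) * (K.ψ r.1)⁻¹ by group, T.σ_act, K.toBase.ψ_comm,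
          mul_inv_cancel_right]
      rw [← h1 p, e', h1 q])
    unfold cols; rw [hh, hh, hh]
  rw [hk] at e'
  exact Prod.ext (K.ψ_inj (mul_right_cancel e')) hk

/-- an element of the extraspecial group from its coordinates -/
def el (p : P3) : G := T.φ (elM p)

theorem el_mul (p q : P3) : T.el (elMul p q) = T.el p * T.el q := by
  rw [el, el, el, ← T.φ_mul, el_facts.1]

theorem el_zero : T.el (0, 0, 0) = 1 := by
  rw [el, show elM (0, 0, 0) = ((0, 0) : Mon) by decide +kernel]; exact T.φ_one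

theorem el_pow (p : P3) : ∀ n : ℕ, T.el (elPow p n) = T.el p ^ n
  | 0 => by rw [pow_zero]; exact T.el_zero
  | n + 1 => by rw [pow_succ, ← el_pow p n, ← T.el_mul]; rfl

theorem el_inj {p q : P3} (e : T.el p = T.el q) : p = q := el_facts.2.1 p q (T.φ_inj e)

theorem el_a : T.el (0, 0, 1) = h.a := by
  rw [el, show elM (0, 0, 1) = ((aV, 0) : Mon) by decide +kernel, φ, T.σ_zero, mul_one, K.ψ_a]

theorem σ_cI (i : ZMod 3) : T.σ (cI i) ∈ h.R := by
  rcases (show ∀ i : ZMod 3, cI i = 0 ∨ cI i = 8 ∨ cI i = cm 8 8 by decide +kernel) i with r | r | r <;> rw [r]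
  · rw [T.σ_zero]; exact one_mem _
  · rw [T.σ_eight]; exact K.c_R
  · rw [T.σ_mul, T.σ_eight]; exact mul_mem K.c_R K.c_R

theorem el_R (p : P3) : T.el p ∈ h.R := by
  show K.ψ (act (cI p.1 : ℕ) _) * T.σ (cI p.1) ∈ h.R
  rw [← T.σ_act, inv_mul_cancel_right]
  exact mul_mem (T.σ_cI _) (K.toBase.R_of_wt (el_facts.2.2.2.2.2.2 p))

include T in
theorem exists_el {r : G} (hr : r ∈ h.R) : ∃ p, T.el p = r := by
  let f : P3 → h.R := fun p => ⟨T.el p, T.el_R p⟩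
  have hf : Function.Bijective f := (Nat.bijective_iff_injective_and_card f).2
    ⟨fun p q e => T.el_inj (congrArg Subtype.val e), by rw [h.R_card, Nat.card_eq_fintype_card]; rfl⟩
  obtain ⟨p, hp⟩ := hf.2 ⟨r, hr⟩
  exact ⟨p, congrArg Subtype.val hp⟩

theorem t_el (p : P3) : K.t * T.el p * K.t = T.el (-p.1, -p.2.1, p.2.2) := by
  rw [el, el, ← el_facts.2.2.1, T.φ_mul, T.φ_mul]
  show _ = K.ψ 0 * T.σ 4 * T.φ (elM p) * (K.ψ 0 * T.σ 4)
  rw [K.toBase.ψ_zero, one_mul, T.σ_four]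

theorem w_el (p : P3) : T.σ 24 * T.el p * T.σ 24 = T.el (p.1, -p.2.1, -p.2.2) := by
  rw [el, el, ← el_facts.2.2.2.2.1, T.φ_mul, T.φ_mul]
  show _ = K.ψ 0 * T.σ 24 * T.φ (elM p) * (K.ψ 0 * T.σ 24)
  rw [K.toBase.ψ_zero, one_mul]

/-- `x` transforms the coordinates by `M`. -/
def Tr (x : G) (M : M4) : Prop :=
  x * T.el (1, 0, 0) * x⁻¹ = T.el (rep (M.1, M.2.2.1)) ∧ x * T.el (0, 1, 0) * x⁻¹ = T.el (rep (M.2.1, M.2.2.2)) ∧
    x * h.a * x⁻¹ = T.el (0, 0, det4 M) ∧ det4 M ≠ 0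

theorem tr_el {x : G} {M : M4} (hx : T.Tr x M) (p : P3) : x * T.el p * x⁻¹ = T.el (tw M p) := by
  obtain ⟨h1, h2, h3, -⟩ := hx
  conv_lhs => rw [← el_facts.2.2.2.2.2.1 p]
  rw [tw, T.el_mul, T.el_mul, T.el_mul, T.el_mul, T.el_pow, T.el_pow, T.el_pow, T.el_pow, T.el_pow, T.el_a,
    ← conj_mul, ← conj_mul, ← conj_pow, ← conj_pow, ← conj_pow, h1, h2, h3, ← T.el_pow]
  congr 1
  exact (T.el_pow _ _).symm.trans (congrArg T.el (tw_center _ _))

include T in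
theorem exists_tr {x : G} (hxt : x * K.t = K.t * x) (hxa : x * h.a * x⁻¹ = h.a ∨ x * h.a * x⁻¹ = h.a⁻¹) :
    ∃ M, T.Tr x M := by
  have hR : ∀ p, x * T.el p * x⁻¹ ∈ h.R := fun p => by
    rcases hxa with r | r
    · exact h.conj_R (h.mem_C.2 (mul_inv_eq_iff_eq_mul.1 r)) (T.el_R p)
    · have hC : T.σ 24 * x ∈ h.C := h.mem_C.2 (mul_inv_eq_iff_eq_mul.1 (by
        rw [show T.σ 24 * x * h.a * (T.σ 24 * x)⁻¹ = T.σ 24 * (x * h.a * x⁻¹) * (T.σ 24)⁻¹ by group, r,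
          ← conj_inv, ← K.ψ_a, T.w_act, K.toBase.ψ_neg, inv_inv]))
      obtain ⟨q, hq⟩ := T.exists_el (h.conj_R hC (T.el_R p))
      have e : x * T.el p * x⁻¹ = T.σ 24 * T.el q * T.σ 24 := by
        calc x * T.el p * x⁻¹ = (T.σ 24 * T.σ 24) * (x * T.el p * x⁻¹) * (T.σ 24 * T.σ 24)⁻¹ := by
              rw [T.w_sq]; group
          _ = T.σ 24 * (T.σ 24 * x * T.el p * (T.σ 24 * x)⁻¹) * (T.σ 24)⁻¹ := by group
          _ = _ := by rw [← hq, T.w_inv]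
      rw [e, T.w_el]
      exact T.el_R _
  have htinv : K.t⁻¹ = K.t := inv_eq_of_mul_eq_one_left K.t_sq
  have hrep : ∀ p, (K.t * T.el p * K.t) * T.el p = 1 → ∃ u, x * T.el p * x⁻¹ = T.el (rep u) := fun p hp => by
    obtain ⟨q, hq⟩ := T.exists_el (hR p)
    refine ⟨(q.1, q.2.1), ?_⟩
    rw [← el_facts.2.2.2.1 q (T.el_inj ?_), hq]
    rw [T.el_mul, T.el_zero, ← T.t_el, hq]
    calc K.t * (x * T.el p * x⁻¹) * K.t * (x * T.el p * x⁻¹)
        = (K.t * x) * T.el p * (x⁻¹ * K.t) * x * T.el p * x⁻¹ := by group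
      _ = (x * K.t) * T.el p * (K.t * x⁻¹) * x * T.el p * x⁻¹ := by
          rw [hxt, ((show Commute x K.t from hxt).inv_left).eq]
      _ = x * (K.t * T.el p * K.t * T.el p) * x⁻¹ := by group
      _ = 1 := by rw [hp, mul_one, mul_inv_cancel]
  obtain ⟨u, hu⟩ := hrep (1, 0, 0) (by rw [T.t_el, ← T.el_mul]; exact T.el_zero ▸ rfl)
  obtain ⟨v, hv⟩ := hrep (0, 1, 0) (by rw [T.t_el, ← T.el_mul]; exact T.el_zero ▸ rfl)
  obtain ⟨d, hd0, hd⟩ : ∃ d : ZMod 3, d ≠ 0 ∧ x * h.a * x⁻¹ = T.el (0, 0, d) := by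
    rcases hxa with r | r
    · exact ⟨1, by decide, by rw [r, T.el_a]⟩
    · refine ⟨2, by decide, ?_⟩
      rw [r, show ((0, 0, 2) : P3) = elMul (0, 0, 1) (0, 0, 1) by decide +kernel, T.el_mul, T.el_a]
      have h3 := h.a_cube
      rw [pow_succ, pow_two, mul_eq_one_iff_eq_inv] at h3
      exact h3.symm
  refine ⟨(u.1, v.1, u.2, v.2), hu, hv, ?_⟩
  have hdet : d = det4 (u.1, v.1, u.2, v.2) := by
    refine tw_facts.1 (u.1, v.1, u.2, v.2) d hd0 (T.el_inj ?_)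
    rw [T.el_mul, T.el_mul, T.el_mul, ← hu, ← hv, ← hd, conj_mul, conj_mul, conj_mul, ← T.el_mul, ← T.el_mul,
      ← T.el_a, ← T.el_mul]
    congr 2
  exact ⟨hdet ▸ hd, hdet ▸ hd0⟩

theorem tr_mul {x y : G} {M N : M4} (hx : T.Tr x M) (hy : T.Tr y N) : T.Tr (x * y) (mm4 M N) := by
  have hd := det_mm M N hx.2.2.2 hy.2.2.2
  have e : ∀ p : P3, x * y * T.el p * (x * y)⁻¹ = T.el (tw M (tw N p)) := fun p => by
    rw [← T.tr_el hx, ← T.tr_el hy]; group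
  refine ⟨?_, ?_, ?_, hd⟩
  · rw [e, (tw_unit N).1, tw_facts.2.1 M hx.2.2.2]; rfl
  · rw [e, (tw_unit N).2, tw_facts.2.1 M hx.2.2.2]; rfl
  · rw [← T.el_a, e, tw_facts.2.2 N hy.2.2.2]
    congr 1
    exact (show ∀ M N : M4, det4 M ≠ 0 → det4 N ≠ 0 → tw M (0, 0, det4 N) = (0, 0, det4 (mm4 M N)) by
      decide +kernel) M N hx.2.2.2 hy.2.2.2

include T in
theorem tr_unique {x y : G} {M : M4} (hxL : x ∈ T.L) (hyL : y ∈ T.L) (hx : T.Tr x M) (hy : T.Tr y M) :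
    x = y := by
  have hfix : ∀ r ∈ h.R, y⁻¹ * x * r = r * (y⁻¹ * x) := fun r hr => by
    obtain ⟨p, rfl⟩ := T.exists_el hr
    refine mul_inv_eq_iff_eq_mul.1 ?_
    calc y⁻¹ * x * T.el p * (y⁻¹ * x)⁻¹ = y⁻¹ * (x * T.el p * x⁻¹) * y := by group
      _ = y⁻¹ * (y * T.el p * y⁻¹) * y := by rw [T.tr_el hx, T.tr_el hy]
      _ = _ := by group
  have hC : y⁻¹ * x ∈ h.C := h.mem_C.2 (hfix _ h.a_mem_R)
  exact (inv_mul_eq_one.1 (T.L_inter (mul_mem (inv_mem hyL) hxL) (h.cent_R hC hfix))).symm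

include T in
theorem exists_mu (M : M4) (hM : det4 M ≠ 0) : ∃ x ∈ T.L, T.Tr x M := by
  classical
  have hex := fun x : T.L => T.exists_tr (T.L_t x.2) (T.L_a x.2)
  choose f hf using hex
  let Φ : T.L → {M : M4 // det4 M ≠ 0} := fun x => ⟨f x, (hf x).2.2.2⟩
  have hinj : Function.Injective Φ := fun x y e => by
    have ee : f x = f y := congrArg Subtype.val e
    exact Subtype.ext (T.tr_unique x.2 y.2 (hf x) (by rw [ee]; exact hf y))
  have hcard : Nat.card T.L = Nat.card {M : M4 // det4 M ≠ 0} := by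
    refine le_antisymm (Nat.card_le_card_of_injective Φ hinj) ?_
    rw [Nat.card_eq_fintype_card, gl_card]
    exact T.L_card
  obtain ⟨x, hx⟩ := ((Nat.bijective_iff_injective_and_card Φ).2 ⟨hinj, hcard⟩).2 ⟨M, hM⟩
  have ee : f x = M := congrArg Subtype.val hx
  exact ⟨x, x.2, by rw [← ee]; exact hf x⟩

/-- the element of the complement inducing a matrix -/
noncomputable def μ (M : M4) : G := if hM : det4 M ≠ 0 then (T.exists_mu M hM).choose else 1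

theorem μ_spec {M : M4} (hM : det4 M ≠ 0) : T.μ M ∈ T.L ∧ T.Tr (T.μ M) M := by
  rw [μ, dif_pos hM]
  exact (T.exists_mu M hM).choose_spec

theorem μ_eq {x : G} {M : M4} (hx : x ∈ T.L) (hM : T.Tr x M) : T.μ M = x :=
  T.tr_unique (T.μ_spec hM.2.2.2).1 hx (T.μ_spec hM.2.2.2).2 hM

theorem μ_mul {M N : M4} (hM : det4 M ≠ 0) (hN : det4 N ≠ 0) : T.μ (mm4 M N) = T.μ M * T.μ N :=
  T.μ_eq (mul_mem (T.μ_spec hM).1 (T.μ_spec hN).1) (T.tr_mul (T.μ_spec hM).2 (T.μ_spec hN).2)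

theorem μ_one : T.μ (1, 0, 0, 1) = 1 := T.μ_eq (one_mem _) ⟨by rw [one_mul, inv_one, mul_one]; rfl,
  by rw [one_mul, inv_one, mul_one]; rfl, by rw [one_mul, inv_one, mul_one, ← T.el_a]; rfl, by decide⟩

theorem μ_t : T.μ (2, 0, 0, 2) = K.t := by
  have ht : K.t⁻¹ = K.t := inv_eq_of_mul_eq_one_left K.t_sq
  refine T.μ_eq (Subgroup.mem_sup_left T.t_M) ⟨?_, ?_, ?_, by decide⟩
  · rw [ht, T.t_el]; rfl
  · rw [ht, T.t_el]; rfl
  · rw [← T.el_a, ht, T.t_el]; rfl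

theorem μ_w : T.μ (1, 0, 0, 2) = T.σ 24 := by
  refine T.μ_eq (Subgroup.mem_sup_right ⟨0, Or.inr (by rw [zero_smul, K.toBase.ψ_zero, one_mul])⟩)
    ⟨?_, ?_, ?_, by decide⟩
  · rw [T.w_inv, T.w_el]; rfl
  · rw [T.w_inv, T.w_el]; rfl
  · rw [← T.el_a, T.w_inv, T.w_el]; rfl

theorem μ_z : T.μ (1, 0, 1, 1) = K.ψ zV := by
  have hz : ∀ p, K.ψ zV * T.el p * (K.ψ zV)⁻¹ = T.φ (monMul (monMul (zV, 0) (elM p)) (-zV, 0)) := fun p => by
    rw [T.φ_mul, T.φ_mul]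
    show K.ψ zV * T.φ (elM p) * (K.ψ zV)⁻¹ = K.ψ zV * T.σ 0 * T.φ (elM p) * (K.ψ (-zV) * T.σ 0)
    rw [T.σ_zero, K.toBase.ψ_neg, mul_one, mul_one]
  refine T.μ_eq (Subgroup.mem_sup_right ⟨1, Or.inl (by rw [one_smul])⟩) ⟨?_, ?_, ?_, by decide⟩
  · rw [hz, el]; exact congrArg T.φ (by decide +kernel)
  · rw [hz, el]; exact congrArg T.φ (by decide +kernel)
  · rw [← K.ψ_a, K.toBase.ψ_comm, mul_inv_cancel_right, K.ψ_a, ← T.el_a]; rfl

/-- the split extension model -/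
abbrev NM := P3 × M4

/-- product in the split extension -/
def nmMul (p q : NM) : NM := (elMul p.1 (tw p.2 q.1), mm4 p.2 q.2)

/-- the model in `G` -/
noncomputable def φA (p : NM) : G := T.el p.1 * T.μ p.2

theorem φA_mul {p q : NM} (hp : det4 p.2 ≠ 0) (hq : det4 q.2 ≠ 0) :
    T.φA (nmMul p q) = T.φA p * T.φA q := by
  show T.el (elMul p.1 (tw p.2 q.1)) * T.μ (mm4 p.2 q.2) = _
  rw [T.el_mul, T.μ_mul hp hq, ← T.tr_el (T.μ_spec hp).2]
  show _ = T.el p.1 * T.μ p.2 * (T.el q.1 * T.μ q.2)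
  group

/-- generators of the normaliser of `⟨a⟩` in the model -/
def naGen : ℕ → NM
  | 0 => ((0, 0, 0), (2, 0, 0, 2))
  | 1 => ((2, 0, 0), (2, 0, 0, 2))
  | 2 => ((0, 0, 0), (1, 0, 0, 2))
  | 3 => nmMul ((0, 0, 0), (1, 0, 0, 2)) (nmMul ((0, 2, 2), (1, 0, 0, 1)) ((0, 0, 0), (1, 0, 1, 1)))
  | _ => ((0, 0, 0), (1, 1, 0, 2))

/-- value of a word in the model -/
def naEv : List ℕ → NM
  | [] => ((0, 0, 0), (1, 0, 0, 1))
  | i :: w => nmMul (naGen i) (naEv w)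

theorem na_det : ∀ w : List ℕ, det4 (naEv w).2 ≠ 0
  | [] => by decide
  | i :: w => det_mm (naGen i).2 (naEv w).2 (match i with
    | 0 | 1 | 2 | 3 => by decide +kernel
    | _ + 4 => by show det4 ((1, 1, 0, 2) : M4) ≠ 0; decide) (na_det w)

/-- the involution outside `N(J)` -/
noncomputable def q : G := T.μ (1, 1, 0, 2)

/-- the generators -/
noncomputable def gen (r : G) : ℕ → G
  | 0 => T.φ (monGen 0)
  | 1 => T.φ (monGen 1)
  | 2 => T.φ (monGen 2)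
  | 3 => T.φ (monGen 3)
  | 4 => T.q
  | _ => r

theorem ev_flat (g : ℕ → G) (al : List (List ℕ)) : ∀ w : List ℕ,
    ev g (flat al w) = ev (fun i => ev g (al.getD i [])) w := by
  have happ : ∀ u v : List ℕ, ev g (u ++ v) = ev g u * ev g v := by
    intro u v
    induction u with
    | nil => exact (one_mul _).symm
    | cons i u ih => show g i * ev g (u ++ v) = g i * ev g u * ev g v; rw [ih, mul_assoc]
  intro w
  induction w with
  | nil => rfl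
  | cons i w ih =>
    show ev g (al.getD i [] ++ flat al w) = _
    rw [happ, ih]
    rfl

theorem gen_mon (r : G) : ∀ i < 4, T.gen r i = T.φ (monGen i) := fun i hi => by
  interval_cases i <;> rfl

theorem alpha_val (r : G) : ∀ i < 5, ev (T.gen r) (alphaA.getD i []) = T.φA (naGen i) := by
  intro i hi
  have hm : ∀ w : List ℕ, (∀ j ∈ w, j < 4) → ev (T.gen r) w = T.φ (monEv w) :=
    T.ev_mon _ (T.gen_mon r)
  interval_cases i
  · rw [hm _ (by decide)]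
    show _ = T.el (0, 0, 0) * T.μ (2, 0, 0, 2)
    rw [T.el_zero, T.μ_t, one_mul, show monEv (alphaA.getD 0 []) = ((0, 4) : Mon) by decide +kernel, φ,
      K.toBase.ψ_zero, one_mul, T.σ_four]
  · rw [hm _ (by decide)]
    show _ = T.el (2, 0, 0) * T.μ (2, 0, 0, 2)
    rw [T.μ_t, el, ← T.σ_four, ← one_mul (T.σ 4), ← K.toBase.ψ_zero]
    refine Eq.trans ?_ (T.φ_mul _ (0, 4))
    exact congrArg T.φ (by decide +kernel)
  · rw [hm _ (by decide)]
    show _ = T.el (0, 0, 0) * T.μ (1, 0, 0, 2)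
    rw [T.el_zero, T.μ_w, one_mul, show monEv (alphaA.getD 2 []) = ((0, 24) : Mon) by decide +kernel, φ,
      K.toBase.ψ_zero, one_mul]
  · rw [hm _ (by decide), naGen, T.φA_mul (by decide) (by decide +kernel), T.φA_mul (by decide) (by decide)]
    show _ = T.el (0, 0, 0) * T.μ (1, 0, 0, 2) *
      (T.el (0, 2, 2) * T.μ (1, 0, 0, 1) * (T.el (0, 0, 0) * T.μ (1, 0, 1, 1)))
    rw [T.el_zero, T.μ_w, T.μ_one, T.μ_z, one_mul, one_mul, mul_one, el]
    have e1 : K.ψ zV = T.φ (zV, 0) := by rw [φ, T.σ_zero, mul_one]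
    have e2 : T.σ 24 = T.φ (0, 24) := by rw [φ, K.toBase.ψ_zero, one_mul]
    rw [e1, e2, ← T.φ_mul, ← T.φ_mul]
    exact congrArg T.φ (by decide +kernel)
  · show T.q * 1 = T.el (0, 0, 0) * T.μ (1, 1, 0, 2)
    rw [T.el_zero, one_mul, mul_one]; rfl

theorem ev_alpha (r : G) : ∀ w : List ℕ, (∀ i ∈ w, i < 5) → ev (T.gen r) (flat alphaA w) = T.φA (naEv w) := by
  intro w hw
  rw [ev_flat]
  induction w with
  | nil => show 1 = T.el (0, 0, 0) * T.μ (1, 0, 0, 1); rw [T.el_zero, T.μ_one, one_mul]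
  | cons i w ih =>
    show ev (T.gen r) (alphaA.getD i []) * _ = T.φA (nmMul (naGen i) (naEv w))
    rw [ih fun j hj => hw j (List.mem_cons_of_mem _ hj), T.alpha_val r i (hw i List.mem_cons_self),
      T.φA_mul ?_ (na_det w)]
    have := hw i List.mem_cons_self
    interval_cases i <;> decide +kernel

theorem rel_na (r : G) : ∀ w ∈ relA, ev (T.gen r) (flat alphaA w) = 1 := by
  intro w hw
  rw [T.ev_alpha r w ((show ∀ w ∈ relA, ∀ i ∈ w, i < 5 by decide +kernel) w hw),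
    (show ∀ w ∈ relA, naEv w = ((0, 0, 0), (1, 0, 0, 1)) by decide +kernel) w hw]
  show T.el (0, 0, 0) * T.μ (1, 0, 0, 1) = 1
  rw [T.el_zero, T.μ_one, one_mul]

theorem rel_mon (r : G) : ∀ w ∈ Cert.relJ, ev (T.gen r) w = 1 := by
  intro w hw
  rw [T.ev_mon _ (T.gen_mon r) w ((show ∀ w ∈ Cert.relJ, ∀ i ∈ w, i < 4 by decide +kernel) w hw),
    (show ∀ w ∈ Cert.relJ, monEv w = ((0, 0) : Mon) by decide +kernel) w hw]
  exact T.φ_one

theorem rel_sq (r : G) : ∀ i < 5, T.gen r i * T.gen r i = 1 := by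
  intro i hi
  interval_cases i
  all_goals try
    show T.φ _ * T.φ _ = 1
    rw [← T.φ_mul, ← T.φ_one]
    exact congrArg T.φ (by decide +kernel)
  show T.q * T.q = 1
  rw [q, ← T.μ_mul (by decide) (by decide), show mm4 ((1, 1, 0, 2) : M4) (1, 1, 0, 2) = (1, 0, 0, 1) by decide,
    T.μ_one]

theorem rel_ne (r : G) : T.gen r 0 * T.gen r 1 ≠ 1 := fun e => by
  have := T.φ_inj (p := monMul (monGen 0) (monGen 1)) (q := (0, 0)) (by rw [T.φ_mul, T.φ_one]; exact e)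
  exact absurd this (by decide +kernel)

end Eight

end Cfsg.Agent.Recog.ThreeCentSp
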