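import Cfsg.Agent.Lib.Recog.ThreeCentSp.EightAxis
import Cfsg.Agent.Lib.Recog.ThreeCentSp.EightNA
import Cfsg.Agent.Lib.Recog.SymNine.SixPerm

/-!
The larger centraliser of an axis as the product of the axis and the symmetric group of degree six, with
the monomial generators at their standard permutations; the transvection and the relations of the
normaliser of the axis.
-/

set_option autoImplicit false
set_option linter.unusedSectionVars false
set_option linter.style.haveILetI false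
set_option maxRecDepth 20000

namespace Cfsg.Agent.Recog.ThreeCentSp

open Cfsg.Agent.Invol.PSp43Am (V3 act act_add aV xV yV zV fV gV)
open SymNine (S6 pA pB pF pG pT pR)
open Cert (ev flat alphaX relX)

/-- the group of order three -/
abbrev M3 := Multiplicative (ZMod 3)

/-- the point of the first axis -/
def xPt (i : ZMod 3) : V3 := (i, 0, 0)

set_option synthInstance.maxSize 1000 in
theorem xPt_facts : (∀ i j : ZMod 3, xPt (i + j) = xPt i + xPt j) ∧ xPt 0 = 0 ∧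
    (∀ i : ZMod 3, act 25 (xPt i) = xPt (-i) ∧ xPt (-i) = -xPt i ∧ (-xPt i).1 = -i) ∧
    (∀ i : ZMod 3, xPt i = (i.val : ℕ) • xV) ∧ xPt 1 = xV ∧
    (∀ u : V3, u = (0, u.2.1, u.2.2) + xPt u.1) :=
  ⟨by decide +kernel, by decide +kernel, by decide +kernel, by decide +kernel, by decide +kernel,
    by decide +kernel⟩

set_option synthInstance.maxSize 1000 in
theorem xModel_codes : (cm 26 26 = 0 ∧ cm 20 20 = 0 ∧ cm 25 25 = 0) ∧ cm (cm 20 26) 20 = 27 ∧
    (cm 25 26 = cm 26 25 ∧ cm 25 27 = cm 27 25 ∧ cm 25 20 = cm 20 25) ∧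
    (act 26 yV = -yV ∧ act 26 zV = zV ∧ act 20 yV = zV ∧ act 25 yV = yV ∧ act 25 zV = zV) ∧
    (yV ≠ 0 ∧ zV ≠ 0 ∧ zV ≠ yV ∧ zV ≠ -yV) :=
  ⟨by decide +kernel, by decide +kernel, by decide +kernel, by decide +kernel, by decide +kernel⟩

theorem m3_cube : ∀ q : M3, q ^ 3 = 1 := by decide +kernel

namespace Eight

variable {G : Type*} [Group G] [Finite G] {h : Hyp G} {K : Coords h} (T : Eight K)

/-- A model of the centraliser of the first axis. -/
structure XModel (T : Eight K) where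
  e : S6 →* G
  inj : Function.Injective e
  comm : ∀ s, e s * K.ψ xV = K.ψ xV * e s
  eA : e pA = K.ψ yV
  eB : e pB = K.ψ zV
  eF : e pF = T.σ 26
  eG : e pG = T.σ 27
  eT : e pT = T.σ 20
  cover : ∀ y : G, y * K.ψ xV = K.ψ xV * y → ∃ s, ∃ i : ZMod 3, y = e s * K.ψ (xPt i)
  sep : ∀ s u, e s = K.ψ u → u.1 = 0

include T in
theorem σ_invol {k : Fin 48} (hk : cm k k = 0) : T.σ k * T.σ k = 1 := by
  rw [← T.σ_mul, hk, T.σ_zero]

include T in
theorem σ_conj {k : Fin 48} (hk : cm k k = 0) (v : V3) :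
    T.σ k * K.ψ v * T.σ k = K.ψ (act (k : ℕ) v) := by
  conv_lhs => arg 2; rw [← inv_eq_of_mul_eq_one_left (T.σ_invol hk)]
  exact T.σ_act k v

include T in
theorem exists_xModel (B : BigAxis T) : Nonempty (XModel T) := by
  obtain ⟨⟨c26, c20, -⟩, c27, -, ⟨a1, a2, a3, -, -⟩, ⟨y0, z0, zy, zy'⟩⟩ := xModel_codes
  have hy : K.ψ yV ∈ B.L := (B.mem yV).2 rfl
  have hz : K.ψ zV ∈ B.L := (B.mem zV).2 rfl
  have h26 : T.σ 26 ∈ B.L := B.σ_mem 26 (by decide)
  have h20 : T.σ 20 ∈ B.L := B.σ_mem 20 (by decide)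
  let f := B.iso
  have key : ∀ {x y : B.L}, (x : G) = y → f x = f y := fun e => congrArg f (Subtype.ext e)
  have hne : ∀ {v : V3} (hv : K.ψ v ∈ B.L), v ≠ 0 → f ⟨K.ψ v, hv⟩ ≠ 1 := fun {v} hv hv0 e => hv0 (by
    have e1 : (⟨K.ψ v, hv⟩ : B.L) = 1 := f.injective (e.trans (map_one f).symm)
    exact K.ψ_inj ((congrArg Subtype.val e1).trans K.toBase.ψ_zero.symm))
  obtain ⟨φ, hφ, hA, hB, hF, hT⟩ := SymNine.exists_normalise (a := f ⟨_, hy⟩) (b := f ⟨_, hz⟩)
    (p := f ⟨_, h26⟩) (τ := f ⟨_, h20⟩)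
    (by
      rw [← map_mul, ← map_mul, ← map_one f]
      exact key (by
        show K.ψ yV * K.ψ yV * K.ψ yV = 1
        rw [← h.J_exp _ (K.ψ_mem yV)]; simp [pow_succ]))
    (hne hy y0)
    (by
      rw [← map_mul, ← map_mul, ← map_one f]
      exact key (by
        show K.ψ zV * K.ψ zV * K.ψ zV = 1
        rw [← h.J_exp _ (K.ψ_mem zV)]; simp [pow_succ]))
    (hne hz z0)
    (by rw [← map_mul, ← map_mul]; exact key (K.toBase.ψ_comm zV yV))
    (fun e => zy (K.ψ_inj (congrArg Subtype.val (f.injective e))))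
    (fun e => zy' (K.ψ_inj (by
      rw [← map_inv] at e
      rw [K.toBase.ψ_neg]; exact congrArg Subtype.val (f.injective e))))
    (by rw [← map_mul, ← map_one f]; exact key (T.σ_invol c26))
    (by
      rw [← map_mul, ← map_mul, ← map_inv]
      exact key (by
        show T.σ 26 * K.ψ yV * T.σ 26 = (K.ψ yV)⁻¹
        rw [T.σ_conj c26, ← K.toBase.ψ_neg]; exact congrArg K.ψ a1))
    (by
      rw [← map_mul, ← map_mul]
      exact key ((T.comm_iff 26 zV).2 a2))
    (by rw [← map_mul, ← map_one f]; exact key (T.σ_invol c20))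
    (by
      rw [← map_mul, ← map_mul]
      exact key (by
        show T.σ 20 * K.ψ yV * T.σ 20 = K.ψ zV
        rw [T.σ_conj c20]; exact congrArg K.ψ a3))
  let e : S6 →* G := B.L.subtype.comp (f.symm.toMonoidHom.comp φ)
  have val : ∀ {x : G} (hx : x ∈ B.L) {s : S6}, φ s = f ⟨x, hx⟩ → e s = x := fun {x} hx {s} es => by
    show ((f.symm (φ s) : B.L) : G) = x
    rw [es, MulEquiv.symm_apply_apply]
  refine ⟨{
    e := e
    inj := Subtype.val_injective.comp (f.symm.injective.comp hφ.1)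
    comm := fun s => B.le _ (f.symm (φ s)).2
    eA := val hy hA
    eB := val hz hB
    eF := val h26 hF
    eG := ?_
    eT := val h20 hT
    cover := fun y hy' => ?_
    sep := fun s u es => (B.mem u).1 (es ▸ (f.symm (φ s)).2) }⟩
  · rw [← SymNine.six_fix_rel.2.2.2.2.2.2, map_mul, map_mul, val h26 hF, val h20 hT, ← T.σ_mul, ← T.σ_mul,
      c27]
  · obtain ⟨l, hl, u, rfl⟩ := B.cover y hy'
    have hl' : l * K.ψ (0, u.2.1, u.2.2) ∈ B.L := mul_mem hl ((B.mem _).2 rfl)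
    obtain ⟨s, hs⟩ := hφ.2 (f ⟨_, hl'⟩)
    refine ⟨s, u.1, ?_⟩
    rw [val hl' hs, mul_assoc, ← K.ψ_add, ← xPt_facts.2.2.2.2.2 u]

/-- the axis -/
def jx (_T : Eight K) : M3 →* G := MonoidHom.mk' (fun i => K.ψ (xPt i.toAdd)) fun i j => by
  rw [toAdd_mul, xPt_facts.1, K.ψ_add]

theorem sr_r (i : ZMod 3) : T.σ 25 * K.ψ (xPt i) = K.ψ (xPt (-i)) * T.σ 25 := by
  rw [← mul_inv_eq_iff_eq_mul, T.σ_act]
  exact congrArg K.ψ (xPt_facts.2.2.1 i).1

/-- the dihedral group of the first axis -/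
def φD : DihedralGroup 3 →* G :=
  MonoidHom.mk' (fun p => match p with
    | .r i => K.ψ (xPt i)
    | .sr i => T.σ 25 * K.ψ (xPt i)) fun p q => by
    have hsq := T.σ_invol xModel_codes.1.2.2
    cases p with
    | r i => cases q with
      | r j =>
        show K.ψ (xPt (i + j)) = K.ψ (xPt i) * K.ψ (xPt j)
        rw [xPt_facts.1, K.ψ_add]
      | sr j =>
        show T.σ 25 * K.ψ (xPt (j - i)) = K.ψ (xPt i) * (T.σ 25 * K.ψ (xPt j))
        rw [← mul_assoc, sub_eq_add_neg, xPt_facts.1, K.ψ_add, K.toBase.ψ_comm, ← mul_assoc,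
          T.sr_r (-i), neg_neg]
    | sr i => cases q with
      | r j =>
        show T.σ 25 * K.ψ (xPt (i + j)) = T.σ 25 * K.ψ (xPt i) * K.ψ (xPt j)
        rw [xPt_facts.1, K.ψ_add, mul_assoc]
      | sr j =>
        show K.ψ (xPt (j - i)) = T.σ 25 * K.ψ (xPt i) * (T.σ 25 * K.ψ (xPt j))
        rw [T.sr_r i, mul_assoc, ← mul_assoc (T.σ 25), hsq, one_mul, ← K.ψ_add, ← xPt_facts.1,
          add_comm, sub_eq_add_neg]

namespace XModel

variable {T} (X : XModel T)

theorem e_comm_x (s : S6) (i : ZMod 3) : Commute (X.e s) (K.ψ (xPt i)) := by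
  rw [xPt_facts.2.2.2.1, K.toBase.ψ_nsmul]
  exact (show Commute (X.e s) (K.ψ xV) from X.comm s).pow_right _

/-- the model of the centraliser -/
def Φ : S6 × M3 →* G := MonoidHom.noncommCoprod X.e T.jx fun s i => X.e_comm_x s i.toAdd

theorem Φ_apply (s : S6) (i : ZMod 3) :
    X.Φ (s, Multiplicative.ofAdd i) = X.e s * K.ψ (xPt i) := rfl

theorem Φ_inj : Function.Injective X.Φ := (injective_iff_map_eq_one _).2 fun ⟨s, i⟩ e => by
  have e1 : X.e s * K.ψ (xPt i.toAdd) = 1 := e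
  have e2 : X.e s = K.ψ (-xPt i.toAdd) := by rw [K.toBase.ψ_neg]; exact eq_inv_of_mul_eq_one_left e1
  have hi : i.toAdd = 0 := neg_eq_zero.1 (by
    rw [← (xPt_facts.2.2.1 i.toAdd).2.2]; exact X.sep s _ e2)
  rw [hi, xPt_facts.2.1, K.toBase.ψ_zero, mul_one] at e1
  exact Prod.ext (X.inj (e1.trans (map_one X.e).symm)) (Multiplicative.toAdd.injective hi)

theorem Φ_comm (p : S6 × M3) : X.Φ p * K.ψ xV = K.ψ xV * X.Φ p := by
  show X.e p.1 * K.ψ (xPt p.2.toAdd) * K.ψ xV = K.ψ xV * (X.e p.1 * K.ψ (xPt p.2.toAdd))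
  rw [mul_assoc, K.toBase.ψ_comm _ xV, ← mul_assoc, X.comm, mul_assoc]

theorem Φ_range {y : G} : y ∈ X.Φ.range ↔ y * K.ψ xV = K.ψ xV * y := by
  refine ⟨fun ⟨p, e⟩ => e ▸ X.Φ_comm p, fun hy => ?_⟩
  obtain ⟨s, i, rfl⟩ := X.cover y hy
  exact ⟨(s, Multiplicative.ofAdd i), rfl⟩

theorem e25 (s : S6) : T.σ 25 * X.e s = X.e s * T.σ 25 := by
  obtain ⟨⟨-, -, c25⟩, -, ⟨d26, d27, d20⟩, ⟨-, -, -, a4, a5⟩, -⟩ := xModel_codes
  have hinv : (T.σ 25)⁻¹ = T.σ 25 := inv_eq_of_mul_eq_one_left (T.σ_invol c25)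
  let c : S6 →* G := (MulAut.conj (T.σ 25)).toMonoidHom.comp X.e
  have hmem : ∀ s, c s ∈ X.Φ.range := fun s => X.Φ_range.2 (by
    show T.σ 25 * X.e s * (T.σ 25)⁻¹ * K.ψ xV = K.ψ xV * (T.σ 25 * X.e s * (T.σ 25)⁻¹)
    have hx : T.σ 25 * K.ψ (-xV) * (T.σ 25)⁻¹ = K.ψ xV := by
      rw [T.σ_act]; exact congrArg K.ψ (by decide +kernel)
    have hc : Commute (X.e s) (K.ψ (-xV)) := by
      rw [K.toBase.ψ_neg]; exact (show Commute (X.e s) (K.ψ xV) from X.comm s).inv_right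
    rw [← hx, conj_mul, conj_mul, hc.eq])
  let g : S6 →* S6 × M3 := (MonoidHom.ofInjective X.Φ_inj).symm.toMonoidHom.comp (c.codRestrict X.Φ.range hmem)
  have hg : ∀ s, X.Φ (g s) = c s := fun s =>
    MonoidHom.apply_ofInjective_symm X.Φ_inj ⟨c s, hmem s⟩
  have hsnd : ∀ s, (g s).2 = 1 := fun s =>
    SymNine.six_hom_trivial m3_cube ((MonoidHom.snd S6 M3).comp g) s
  let α : S6 →* S6 := (MonoidHom.fst S6 M3).comp g
  have hα : ∀ s, X.e (α s) = T.σ 25 * X.e s * (T.σ 25)⁻¹ := fun s => by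
    refine Eq.trans ?_ (hg s)
    show X.e (g s).1 = X.e (g s).1 * K.ψ (xPt (g s).2.toAdd)
    rw [hsnd, toAdd_one, xPt_facts.2.1, K.toBase.ψ_zero, mul_one]
  have fixed : ∀ s, Commute (T.σ 25) (X.e s) → α s = s := fun s hs => X.inj (by
    rw [hα, hs.eq, mul_inv_cancel_right])
  have fA : α pA = pA := fixed _ (by rw [X.eA]; exact (T.comm_iff 25 yV).2 a4)
  have fB : α pB = pB := fixed _ (by rw [X.eB]; exact (T.comm_iff 25 zV).2 a5)
  have fF : α pF = pF := fixed _ (by rw [X.eF]; exact ((T.σ_mul 25 26).symm.trans ((congrArg T.σ d26).trans (T.σ_mul 26 25))))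
  have fG : α pG = pG := fixed _ (by rw [X.eG]; exact ((T.σ_mul 25 27).symm.trans ((congrArg T.σ d27).trans (T.σ_mul 27 25))))
  have fT : α pT = pT := fixed _ (by rw [X.eT]; exact ((T.σ_mul 25 20).symm.trans ((congrArg T.σ d20).trans (T.σ_mul 20 25))))
  have hαinj : Function.Injective α := fun p q e => X.inj (by
    have := congrArg X.e e
    rw [hα, hα] at this
    exact mul_left_cancel (mul_right_cancel this))
  obtain ⟨r1, r2, r3, r4, r5, r6, -⟩ := SymNine.six_fix_rel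
  have fR : α pR = pR := SymNine.six_fix _ (by rw [← map_mul, r1, map_one])
    (fun e => r2 (hαinj (e.trans (map_one α).symm)))
    (by rw [← fF, ← map_mul, r3, map_mul]) (by rw [← fG, ← map_mul, r4, map_mul])
    (by rw [← fT, ← map_mul, r5, map_mul])
    (by
      have := congrArg α r6
      simpa only [map_mul, map_inv, map_one, fA, fF] using this)
  have hid : α = MonoidHom.id S6 := by
    refine MonoidHom.eq_of_eqOn_dense SymNine.six_closure ?_
    intro p hp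
    simp only [Set.mem_insert_iff, Set.mem_singleton_iff] at hp
    rcases hp with rfl | rfl | rfl | rfl | rfl
    exacts [fA, fB, fF, fG, fR]
  have := hα s
  rw [hid, MonoidHom.id_apply] at this
  exact (mul_inv_eq_iff_eq_mul.1 this.symm)

/-- the transvection -/
def r : G := X.e pR

/-- the model of the normaliser -/
def ΦN : DihedralGroup 3 × S6 →* G := MonoidHom.noncommCoprod T.φD X.e fun p s => by
  cases p with
  | r i => exact (X.e_comm_x s i).symm
  | sr i => exact (show Commute (T.σ 25) (X.e s) from X.e25 s).mul_left (X.e_comm_x s i).symm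

/-- the generators in the model -/
def xGen : ℕ → DihedralGroup 3 × S6
  | 0 => (.sr 0, 1)
  | 1 => (.sr 1, 1)
  | 2 => (1, pF)
  | 3 => (1, pA⁻¹ * pF)
  | 4 => (1, pG)
  | 5 => (1, pB⁻¹ * pG)
  | 6 => (1, pT)
  | _ => (1, pR)

theorem alpha_val : ∀ i < 8, ev (T.gen X.r) (alphaX.getD i []) = X.ΦN (xGen i) := by
  intro i hi
  have hm : ∀ (w : List ℕ) (v : V3) (k : Fin 48), (∀ j ∈ w, j < 4) → monEv w = (v, k) →
      ev (T.gen X.r) w = K.ψ v * T.σ k := fun w v k hw e => by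
    rw [T.ev_mon _ (T.gen_mon X.r) w hw, e]; rfl
  have h1 : T.φD 1 = 1 := map_one _
  interval_cases i
  · rw [hm _ 0 25 (by decide) (by decide +kernel)]
    show _ = T.σ 25 * K.ψ (xPt 0) * X.e 1
    rw [xPt_facts.2.1, K.toBase.ψ_zero, one_mul, mul_one, map_one, mul_one]
  · rw [hm _ (-xV) 25 (by decide) (by decide +kernel)]
    show _ = T.σ 25 * K.ψ (xPt 1) * X.e 1
    rw [map_one, mul_one, T.sr_r 1, (xPt_facts.2.2.1 1).2.1, xPt_facts.2.2.2.2.1]
  · rw [hm _ 0 26 (by decide) (by decide +kernel)]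
    show _ = T.φD 1 * X.e pF
    rw [h1, X.eF, K.toBase.ψ_zero]
  · rw [hm _ (-yV) 26 (by decide) (by decide +kernel)]
    show _ = T.φD 1 * X.e (pA⁻¹ * pF)
    rw [h1, map_mul, map_inv, X.eA, X.eF, K.toBase.ψ_neg, one_mul]
  · rw [hm _ 0 27 (by decide) (by decide +kernel)]
    show _ = T.φD 1 * X.e pG
    rw [h1, X.eG, K.toBase.ψ_zero]
  · rw [hm _ (-zV) 27 (by decide) (by decide +kernel)]
    show _ = T.φD 1 * X.e (pB⁻¹ * pG)
    rw [h1, map_mul, map_inv, X.eB, X.eG, K.toBase.ψ_neg, one_mul]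
  · rw [hm _ 0 20 (by decide) (by decide +kernel)]
    show _ = T.φD 1 * X.e pT
    rw [h1, X.eT, K.toBase.ψ_zero]
  · show X.r * 1 = T.φD 1 * X.e pR
    rw [h1, mul_one, one_mul]; rfl

theorem relX_model : ∀ w ∈ relX, (∀ i ∈ w, i < 8) ∧ ev xGen w = 1 := by decide +kernel

theorem rel_x : ∀ w ∈ relX, ev (T.gen X.r) (flat alphaX w) = 1 := by
  intro w hw
  obtain ⟨hlt, he⟩ := relX_model w hw
  rw [ev_flat]
  refine Eq.trans ?_ ((congrArg X.ΦN he).trans (map_one _))
  clear he hw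
  induction w with
  | nil => exact (map_one _).symm
  | cons i w ih =>
    show ev (T.gen X.r) (alphaX.getD i []) * _ = X.ΦN (xGen i * ev xGen w)
    rw [map_mul, ← ih fun j hj => hlt j (List.mem_cons_of_mem _ hj), X.alpha_val i (hlt i List.mem_cons_self)]

theorem r_sq : X.r * X.r = 1 := by
  rw [r, ← map_mul, SymNine.six_fix_rel.1, map_one]

end XModel

end Eight

end Cfsg.Agent.Recog.ThreeCentSp
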