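import Cfsg.Agent.Lib.Recog.ThreeCentSp.EightLevi
import Cfsg.Agent.Lib.Recog.ThreeCentSp.Kernel
import Cfsg.Agent.Lib.Invol.Dihedral
import Mathlib.GroupTheory.FiniteAbelian.Duality

/-!
Eight conjugates: in `C(t)/⟨t⟩` the difference of two induced characters, one from the centraliser of
a special element of `C_J(t)` and one from a subgroup of index three in the centraliser of `a`, cuts
out a normal subgroup avoiding both elements.
-/

set_option autoImplicit false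
set_option linter.unusedSectionVars false
set_option linter.style.haveILetI false
set_option maxRecDepth 20000

namespace Cfsg.Agent.Recog.ThreeCentSp

open Cfsg.Agent.Invol.PSp43Am (V3 act act_add aV xV yV zV fV gV mem_normalizer_of_conj_mem)

set_option synthInstance.maxSize 1000 in
theorem orbit_facts :
    (∀ w γ γ' : SL3, w ^ 3 = 1 → w ≠ 1 → γ * γ = -1 → γ' ^ 4 = 1 →
      γ' = 1 ∨ γ' = -1 ∨ γ' = γ ∨ γ' = -γ ∨ γ' = w⁻¹ * γ * w ∨ γ' = -(w⁻¹ * γ * w) ∨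
        γ' = w⁻¹ * (w⁻¹ * γ * w) * w ∨ γ' = -(w⁻¹ * (w⁻¹ * γ * w) * w)) ∧
    (∀ w γ : SL3, w ^ 3 = 1 → w ≠ 1 → γ * γ = -1 →
      γ * (w⁻¹ * γ * w) * (w⁻¹ * (w⁻¹ * γ * w) * w) = 1 ∨
        γ * (w⁻¹ * γ * w) * (w⁻¹ * (w⁻¹ * γ * w) * w) = -1) ∧
    (∀ γ γ' : SL3, γ ^ 4 = 1 → γ' ^ 4 = 1 → γ * γ' = γ' * γ ∨ γ * γ' = γ' * γ * -1) ∧
    (∀ w γ : SL3, w ^ 3 = 1 → w ≠ 1 → γ ^ 4 = 1 → ∀ n : Fin 3,
      ((γ * w ^ (n : ℕ)) ^ 4 = 1 ∨ (γ * w ^ (n : ℕ)) ^ 4 = -1) → n = 0) :=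
  ⟨by decide +kernel, by decide +kernel, by decide +kernel, by decide +kernel⟩

theorem z3_cube : ∀ q : Multiplicative (ZMod 3), q ^ 3 = 1 := by decide +kernel

theorem neg_fixed : (act 4 (-zV) = -zV ∧ act 4 (-fV) = -fV ∧ act 4 (-aV) = -aV ∧ act 4 zV = zV ∧ act 4 fV = fV) ∧
    (-aV ≠ zV ∧ -aV ≠ -zV ∧ -aV ≠ fV ∧ -aV ≠ -fV ∧ aV ≠ zV ∧ aV ≠ -zV ∧ aV ≠ fV ∧ aV ≠ -fV) :=
  ⟨by decide +kernel, by decide +kernel⟩

theorem sign_sum {a b c : ℂ} (ha : a * a = 1) (hb : b * b = 1) (hc : c * c = 1) (habc : a * b * c = 1)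
    (hne : ¬ (a = 1 ∧ b = 1 ∧ c = 1)) : a + b + c = -1 := by
  have key : ∀ x : ℂ, x * x = 1 → x = 1 ∨ x = -1 := fun x hx => mul_self_eq_one_iff.1 hx
  rcases key a ha with rfl | rfl <;> rcases key b hb with rfl | rfl <;> rcases key c hc with rfl | rfl <;>
    norm_num at * 

namespace Eight

variable {G : Type*} [Group G] [Finite G] {h : Hyp G} {K : Coords h} (T : Eight K)

/-- `C(t)` -/
abbrev D (_T : Eight K) : Subgroup G := Subgroup.centralizer ({K.t} : Set G)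

theorem mem_D {x : G} : x ∈ T.D ↔ x * K.t = K.t * x := Subgroup.mem_centralizer_singleton_iff

theorem t_D : K.t ∈ T.D := T.mem_D.2 rfl
theorem w_D : T.σ 24 ∈ T.D := T.mem_D.2 T.w_t

theorem ψ_D {v : V3} (hv : act 4 v = v) : K.ψ v ∈ T.D := T.mem_D.2 ((Two.comm_iff (K := K) v).2 hv)

theorem a_D : h.a ∈ T.D := by rw [← K.ψ_a]; exact T.ψ_D fixed_types.2.2.1.2.2

theorem M_card : Nat.card T.M = 8 := by
  classical
  let f : T.M → {γ : SL3 // γ ^ 4 = 1} := fun x => ⟨h.π ⟨x, T.M_C x.2⟩, by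
    rw [← map_pow, show (⟨(x : G), T.M_C x.2⟩ : h.C) ^ 4 = 1 from Subtype.ext (T.M_four x.2), map_one]⟩
  have hf : Function.Bijective f := ⟨fun x y e => Subtype.ext (T.M_inj x.2 y.2 (congrArg Subtype.val e)),
    fun γ => by
      obtain ⟨x, hx, e⟩ := T.M_surj γ.2
      exact ⟨⟨x, hx⟩, Subtype.ext e⟩⟩
  rw [Nat.card_eq_of_bijective f hf, Nat.card_eq_fintype_card, sl_levi_facts.2.1]

theorem E_param : ∀ i n : Fin 3, K.ψ ((i : ℕ) • aV + (n : ℕ) • zV) ∈ T.E := fun i n => T.ψ_mem_E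
  ((show ∀ i n : Fin 3, act 4 ((i : ℕ) • aV + (n : ℕ) • zV) = (i : ℕ) • aV + (n : ℕ) • zV by decide +kernel) i n)

theorem E_card : Nat.card T.E = 9 := by
  let f : Fin 3 × Fin 3 → T.E := fun q => ⟨_, T.E_param q.1 q.2⟩
  have hf : Function.Bijective f := by
    refine ⟨fun p q e => ?_, fun x => ?_⟩
    · exact (show ∀ p q : Fin 3 × Fin 3, (p.1 : ℕ) • aV + (p.2 : ℕ) • zV = (q.1 : ℕ) • aV + (q.2 : ℕ) • zV → p = q by
        decide +kernel) p q (K.ψ_inj (congrArg Subtype.val e))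
    · obtain ⟨v, hv, e⟩ := T.exists_of_mem_E x.2
      obtain ⟨i, n, rfl⟩ := fixed_types.2.2.2.2.1 v hv
      exact ⟨(i, n), Subtype.ext e.symm⟩
  rw [← Nat.card_eq_of_bijective f hf, Nat.card_eq_fintype_card]; rfl

theorem X0_card : Nat.card T.X0 = 72 := by
  have hME : ∀ m ∈ T.M, ∀ e ∈ T.E, m * e ∈ T.X0 := fun m hm e he =>
    mul_mem (T.mem_X0.2 ⟨T.M_C hm, T.M_t hm⟩) (T.E_le_X0 he)
  let f : T.M × T.E → T.X0 := fun q => ⟨_, hME _ q.1.2 _ q.2.2⟩
  have hf : Function.Bijective f := by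
    refine ⟨fun p q e => ?_, fun x => ?_⟩
    · have e' : (p.1 : G) * p.2 = q.1 * q.2 := congrArg Subtype.val e
      have h1 : (q.1 : G)⁻¹ * p.1 = q.2 * (p.2 : G)⁻¹ := by
        rw [eq_mul_inv_iff_mul_eq, mul_assoc, e', inv_mul_cancel_left]
      have h2 : (q.1 : G)⁻¹ * p.1 = 1 := T.M_zero (mul_mem (inv_mem q.1.2) p.1.2) (by
        rw [h1]; exact h.J_exp _ (mul_mem q.2.2.1 (inv_mem p.2.2.1)))
      have h3 : (q.1 : G) = p.1 := inv_mul_eq_one.1 h2
      rw [h3] at e'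
      exact Prod.ext (Subtype.ext h3.symm) (Subtype.ext (mul_left_cancel e'))
    · obtain ⟨m, hm, e, he, hx⟩ := T.X0_decomp x.2.1 (T.mem_X0.1 x.2).2
      exact ⟨(⟨m, hm⟩, ⟨e, he⟩), Subtype.ext hx.symm⟩
  rw [← Nat.card_eq_of_bijective f hf, Nat.card_prod, T.M_card, T.E_card]

include T in
set_option maxHeartbeats 2000000 in
/-- The normal subgroup of `C(t)` cut out by the two induced characters. -/
theorem exists_kernel {v : V3} (hv : v = zV ∨ v = fV) (PW : Subgroup T.D)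
    (hPW : ∀ x : T.D, x ∈ PW ↔ (x : G) * K.ψ v = K.ψ v * x)
    (s : PW →* Multiplicative (ZMod 3))
    (hst : ∀ hh : (⟨K.t, T.t_D⟩ : T.D) ∈ PW, s ⟨_, hh⟩ = 1)
    (hsv : ∀ (x : PW), ((x : T.D) : G) = K.ψ v → s x ≠ 1)
    (hsw : ∀ x y : PW, ((y : T.D) : G) = T.σ 24 * ((x : T.D) : G) * T.σ 24 → s y = (s x)⁻¹)
    (hsupp : ∀ x : PW, s x ≠ 1 → ((x : T.D) : G) ^ 24 = 1 ∧
      ((∃ u, (u = v ∨ u = -v) ∧ (((x : T.D) : G) ^ 4 = K.ψ u ∨ ((x : T.D) : G) ^ 4 = K.ψ u * K.t)) ∨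
        ∃ d ∈ T.D, ((x : T.D) : G) = d * h.a * d⁻¹ ∨ ((x : T.D) : G) = d * h.a * d⁻¹ * K.t))
    (hcount : Nat.card {x : PW // s x ≠ 1 ∧ ∃ d ∈ T.D, ((x : T.D) : G) = d * h.a * d⁻¹} * 72 = 8 * Nat.card PW)
    {S : Set G} (hS : ∀ x ∈ S, x * K.t = K.t * x ∧ (x * x = 1 ∨ x * x = K.t) ∧ ∀ d ∈ T.D,
      d * x * d⁻¹ * K.ψ v * (d * x * d⁻¹)⁻¹ ≠ K.ψ (-v) ∧ d * x * d⁻¹ * h.a * (d * x * d⁻¹)⁻¹ ≠ h.a⁻¹) :
    ∃ N : Subgroup T.D, N.Normal ∧ (⟨K.t, T.t_D⟩ : T.D) ∈ N ∧ (∀ x : T.D, (x : G) ∈ S → x ∈ N) ∧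
      (∀ x : T.D, (x : G) = K.ψ v → x ∉ N) ∧ (⟨h.a, T.a_D⟩ : T.D) ∉ N := by
  classical
  haveI := Fact.mk Nat.prime_three
  have hv4 : act 4 v = v := by rcases hv with rfl | rfl <;> decide +kernel
  set tD : T.D := ⟨K.t, T.t_D⟩ with htD
  have hcen : ∀ d : T.D, d * tD = tD * d := fun d => Subtype.ext (T.mem_D.1 d.2)
  haveI : (Subgroup.zpowers tD).Normal := ⟨fun y hy d => by
    obtain ⟨i, rfl⟩ := Subgroup.mem_zpowers_iff.1 hy
    rw [(Commute.zpow_right (hcen d) i).eq, mul_inv_cancel_right]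
    exact Subgroup.zpow_mem _ (Subgroup.mem_zpowers _) i⟩
  set f := QuotientGroup.mk' (Subgroup.zpowers tD) with hf
  have hfsurj : Function.Surjective f := QuotientGroup.mk'_surjective _
  have ht1 : K.t ≠ 1 := fun e => h.neg_ne_one K.t_π (e ▸ Subgroup.one_mem _)
  have hot : orderOf tD = 2 := by
    rw [← Subgroup.orderOf_coe]
    exact orderOf_eq_prime (by rw [pow_two]; exact K.t_sq) ht1
  have hfk : ∀ x y : T.D, f x = f y → (y : G) = x ∨ (y : G) = x * K.t := by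
    intro x y e
    have hm : x⁻¹ * y ∈ Subgroup.zpowers tD := QuotientGroup.eq.1 e
    rw [mem_zpowers_iff_mem_range_orderOf, hot] at hm
    simp only [Finset.mem_image, Finset.mem_range] at hm
    obtain ⟨i, hi, e'⟩ := hm
    have hy : y = x * tD ^ i := by rw [e', mul_inv_cancel_left]
    interval_cases i
    · exact Or.inl (by rw [hy, pow_zero, mul_one])
    · exact Or.inr (by rw [hy, pow_one]; rfl)
  have hft : ∀ x : T.D, f (x * tD) = f x := fun x => by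
    rw [map_mul, show f tD = 1 from (QuotientGroup.eq_one_iff _).2 (Subgroup.mem_zpowers _), mul_one]
  have hmk : ∀ x y : T.D, ((x : G) = y ∨ (x : G) = y * K.t) → f x = f y := fun x y e => by
    rcases e with e | e
    · exact congrArg f (Subtype.ext e)
    · rw [show x = y * tD from Subtype.ext e, hft]
  have ht3 : K.t ^ 3 = K.t := by rw [pow_succ, pow_two, K.t_sq, one_mul]
  have hexact : ∀ x y : T.D, (x : G) ^ 3 = 1 → (y : G) ^ 3 = 1 → f x = f y → x = y := by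
    intro x y hx hy e
    rcases hfk x y e with r | r
    · exact Subtype.ext r.symm
    exfalso
    have : (y : G) ^ 3 = (x : G) ^ 3 * K.t ^ 3 := by
      rw [r, (show Commute (x : G) K.t from T.mem_D.1 x.2).mul_pow]
    rw [hx, hy, one_mul, ht3] at this
    exact ht1 this.symm
  have hc3 : ∀ (d x : T.D), (x : G) ^ 3 = 1 → ((d * x * d⁻¹ : T.D) : G) ^ 3 = 1 := fun d x hx => by
    show ((d : G) * x * (d : G)⁻¹) ^ 3 = 1
    rw [conj_pow, hx, mul_one, mul_inv_cancel]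
  have hi3 : ∀ x : G, x ^ 3 = 1 → x⁻¹ ^ 3 = 1 := fun x hx => by rw [inv_pow, hx, inv_one]
  set aD : T.D := ⟨h.a, T.a_D⟩ with haD
  set vD : T.D := ⟨K.ψ v, T.ψ_D hv4⟩ with hvD
  set wD : T.D := ⟨T.σ 24, T.w_D⟩ with hwD
  set zD : T.D := ⟨K.ψ zV, T.ψ_D fixed_types.2.2.1.2.1⟩ with hzD
  have ha3 : (aD : G) ^ 3 = 1 := h.a_cube
  have hv3 : (vD : G) ^ 3 = 1 := h.J_exp _ (K.ψ_mem v)
  have hwv : wD * vD * wD⁻¹ = vD⁻¹ := Subtype.ext (by
    show T.σ 24 * K.ψ v * (T.σ 24)⁻¹ = (K.ψ v)⁻¹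
    rw [T.w_act, K.toBase.ψ_neg])
  have hwa : wD * aD * wD⁻¹ = aD⁻¹ := Subtype.ext (by
    show T.σ 24 * h.a * (T.σ 24)⁻¹ = h.a⁻¹
    rw [← K.ψ_a, T.w_act, K.toBase.ψ_neg])
  have hw1 : wD⁻¹ = wD := inv_eq_of_mul_eq_one_left (Subtype.ext T.w_sq)
  -- the subgroup of index three in the centraliser of `a`
  set PA : Subgroup T.D :=
    { carrier := {x | ∃ m ∈ T.M, ∃ i : ℕ, (x : G) = m * h.a ^ i}
      one_mem' := ⟨1, one_mem _, 0, by rw [pow_zero, mul_one]; rfl⟩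
      inv_mem' := by
        rintro x ⟨m, hm, i, e⟩
        refine ⟨m⁻¹, inv_mem hm, 2 * i, ?_⟩
        show (x : G)⁻¹ = _
        have hc : Commute m h.a := h.mem_C.1 (T.M_C hm)
        rw [e, mul_inv_rev, ((hc.pow_right i).inv_inv).eq.symm, ← inv_pow, pow_mul]
        congr 2
        exact inv_eq_of_mul_eq_one_left (by rw [← pow_succ, h.a_cube])
      mul_mem' := by
        rintro x y ⟨m, hm, i, e⟩ ⟨n, hn, j, e'⟩
        refine ⟨m * n, mul_mem hm hn, i + j, ?_⟩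
        show (x : G) * (y : G) = _
        rw [e, e', pow_add, mul_assoc m n, ← mul_assoc n, ((show Commute n h.a from h.mem_C.1 (T.M_C hn)).pow_right i).eq]
        group } with hPA
  have hPA_C : ∀ x ∈ PA, (x : G) ∈ h.C := fun x ⟨m, hm, i, e⟩ =>
    e ▸ mul_mem (T.M_C hm) (pow_mem h.a_mem_C i)
  have hπa : ∀ i : ℕ, h.π ⟨h.a ^ i, pow_mem h.a_mem_C i⟩ = 1 := fun i =>
    (h.mem_R_iff ⟨h.a ^ i, _⟩).1 (pow_mem h.a_mem_R i)
  have hPA_π : ∀ x (hx : x ∈ PA), h.π ⟨x, hPA_C x hx⟩ ^ 4 = 1 := by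
    intro x hx
    obtain ⟨m, hm, i, e⟩ := id hx
    rw [Two.π_congr e, Two.π_mul (T.M_C hm) (pow_mem h.a_mem_C i), hπa, mul_one, ← map_pow,
      show (⟨m, T.M_C hm⟩ : h.C) ^ 4 = 1 from Subtype.ext (T.M_four hm), map_one]
  have hzC := K.toBase.ψ_C zV
  set ww := h.π ⟨K.ψ zV, hzC⟩ with hww
  have hw3 : ww ^ 3 = 1 := by
    rw [← map_pow, show (⟨K.ψ zV, hzC⟩ : h.C) ^ 3 = 1 from Subtype.ext (h.J_exp _ (K.ψ_mem _)), map_one]
  have hw1' : ww ≠ 1 := Two.ψ_z_π (K := K)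
  have hPA_t : tD ∈ PA := ⟨K.t, T.t_M, 0, by rw [pow_zero, mul_one]⟩
  have hfPA : ∀ x : T.D, f x ∈ PA.map f → x ∈ PA := fun x ⟨y, hy, e⟩ => by
    rcases hfk y x e with r | r
    · exact (Subtype.ext r : x = y) ▸ hy
    · exact (Subtype.ext r : x = y * tD) ▸ mul_mem hy hPA_t
  have hX0 : ∀ x : T.D, (x : G) ∈ h.C → ∃ m ∈ T.M, ∃ i n : Fin 3,
      (x : G) = m * (h.a ^ (i : ℕ) * K.ψ zV ^ (n : ℕ)) := fun x hx => by
    obtain ⟨m, hm, e, he, hxe⟩ := T.X0_decomp hx (T.mem_D.1 x.2)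
    obtain ⟨u, hu, rfl⟩ := T.exists_of_mem_E he
    obtain ⟨i, n, rfl⟩ := fixed_types.2.2.2.2.1 u hu
    exact ⟨m, hm, i, n, by rw [hxe, K.ψ_add, K.toBase.ψ_nsmul, K.toBase.ψ_nsmul, K.ψ_a]⟩
  have hcomC : ∀ x : T.D, f x * f aD = f aD * f x → (x : G) ∈ h.C := fun x e => h.mem_C.2 (by
    have h1 := hexact (x * aD * x⁻¹) aD (hc3 x aD ha3) ha3
      (by rw [map_mul, map_mul, map_inv, e, mul_inv_cancel_right])
    exact mul_inv_eq_iff_eq_mul.1 (congrArg Subtype.val h1))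
  have hA_six : ∀ x ∈ PA, f x ^ 6 = 1 := fun x ⟨m, hm, i, e⟩ => by
    have hc : Commute m (h.a ^ i) := ((show Commute m h.a from h.mem_C.1 (T.M_C hm)).pow_right i)
    have h2 : m ^ 2 = 1 ∨ m ^ 2 = K.t := by
      have hπ : h.π ⟨m, T.M_C hm⟩ ^ 4 = 1 := by
        rw [← map_pow, show (⟨m, T.M_C hm⟩ : h.C) ^ 4 = 1 from Subtype.ext (T.M_four hm), map_one]
      rcases (show ∀ γ : SL3, γ ^ 4 = 1 → γ ^ 2 = 1 ∨ γ ^ 2 = -1 by decide +kernel) _ hπ with r | r
      · refine Or.inl (T.M_inj (pow_mem hm 2) (one_mem _) ?_)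
        rw [Two.π_pow (T.M_C hm), r]; exact (map_one h.π).symm
      · refine Or.inr (T.M_inj (pow_mem hm 2) T.t_M ?_)
        rw [Two.π_pow (T.M_C hm), r]; exact K.t_π.symm
    rw [← map_pow]
    refine (hmk (x ^ 6) 1 ?_).trans (map_one f)
    show (x : G) ^ 6 = 1 ∨ (x : G) ^ 6 = 1 * K.t
    rw [e, hc.mul_pow, ← pow_mul h.a, show i * 6 = 3 * (i * 2) by ring, pow_mul h.a, h.a_cube, one_pow,
      mul_one, show 6 = 2 * 3 from rfl, pow_mul, one_mul]
    rcases h2 with r | r <;> rw [r]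
    · exact Or.inl (one_pow 3)
    · exact Or.inr ht3
  have hA_comm : ∀ x ∈ PA, ∀ y ∈ PA, f x * f y = f y * f x := by
    rintro x ⟨m, hm, i, e⟩ y ⟨n, hn, j, e'⟩
    rw [← map_mul, ← map_mul]
    refine hmk _ _ ?_
    have hmn : m * n = n * m ∨ m * n = n * m * K.t := by
      have hπm : ∀ {m} (hm : m ∈ T.M), h.π ⟨m, T.M_C hm⟩ ^ 4 = 1 := fun {m} hm => by
        rw [← map_pow, show (⟨m, T.M_C hm⟩ : h.C) ^ 4 = 1 from Subtype.ext (T.M_four hm), map_one]
      rcases orbit_facts.2.2.1 _ _ (hπm hm) (hπm hn) with r | r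
      · refine Or.inl (T.M_inj (mul_mem hm hn) (mul_mem hn hm) ?_)
        rw [Two.π_mul (T.M_C hm) (T.M_C hn), Two.π_mul (T.M_C hn) (T.M_C hm)]; exact r
      · refine Or.inr (T.M_inj (mul_mem hm hn) (mul_mem (mul_mem hn hm) T.t_M) ?_)
        rw [Two.π_mul (T.M_C hm) (T.M_C hn), Two.π_mul (T.M_C (mul_mem hn hm)) K.t_C,
          Two.π_mul (T.M_C hn) (T.M_C hm), K.t_π]
        exact r
    have key : ∀ {m n : G} {i j : ℕ}, Commute n h.a → m * h.a ^ i * (n * h.a ^ j) = m * n * h.a ^ (i + j) :=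
      fun {m n i j} hn => by
        rw [pow_add, mul_assoc m n, ← mul_assoc n, (hn.pow_right i).eq]; group
    show (x : G) * y = (y : G) * x ∨ (x : G) * y = (y : G) * x * K.t
    rw [e, e', key (h.mem_C.1 (T.M_C hn)), key (h.mem_C.1 (T.M_C hm)), add_comm j i]
    rcases hmn with r | r
    · exact Or.inl (by rw [r])
    · refine Or.inr ?_
      rw [r, mul_assoc _ K.t, mul_assoc _ (h.a ^ (i + j)) K.t]
      congr 1
      exact ((show Commute K.t h.a from (T.mem_D.1 T.a_D).symm).pow_right _).eq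
  -- the two characters on that subgroup
  set A := PA.map f with hA
  haveI hAcomm : IsMulCommutative A := ⟨⟨fun p q => by
    obtain ⟨p, x, hx, rfl⟩ := p
    obtain ⟨q, y, hy, rfl⟩ := q
    exact Subtype.ext (hA_comm x hx y hy)⟩⟩
  have haA : f aD ∈ A := ⟨aD, ⟨1, one_mem _, 1, by rw [pow_one, one_mul]⟩, rfl⟩
  have hA6 : ∀ p : A, p ^ 6 = 1 := fun p => by
    obtain ⟨p, x, hx, rfl⟩ := p
    exact Subtype.ext (hA_six x hx)
  obtain ⟨γ₀, hγ₀⟩ : ∃ γ : SL3, γ * γ = -1 := (by decide +kernel : ∃ γ : SL3, γ * γ = -1)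
  obtain ⟨q₀, hq₀, hq₀π⟩ := T.M_surj (γ := γ₀) (by
    rw [show 4 = 2 * 2 from rfl, pow_mul, pow_two γ₀, hγ₀, neg_one_sq])
  set qD : T.D := ⟨q₀, T.mem_D.2 (T.M_t hq₀)⟩
  have hqA : f qD ∈ A := ⟨qD, ⟨q₀, hq₀, 0, by rw [pow_zero, mul_one]⟩, rfl⟩
  have hne_a : (⟨f aD, haA⟩ : A) ≠ 1 := fun e => h.a_ne (congrArg Subtype.val
    (hexact aD 1 ha3 (one_pow 3) ((congrArg Subtype.val e).trans (map_one f).symm)))
  have hq2 : (⟨f qD, hqA⟩ : A) ^ 2 = 1 := by
    refine Subtype.ext ?_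
    show f qD ^ 2 = 1
    rw [← map_pow]
    refine (hmk _ 1 (Or.inr ?_)).trans (map_one f)
    show q₀ ^ 2 = 1 * K.t
    rw [one_mul]
    refine T.M_inj (pow_mem hq₀ 2) T.t_M ?_
    rw [Two.π_pow (T.M_C hq₀), hq₀π, pow_two, hγ₀]
    exact K.t_π.symm
  have hne_q : (⟨f qD, hqA⟩ : A) ≠ 1 := fun e => by
    have h1 : f qD = f 1 := (congrArg Subtype.val e).trans (map_one f).symm
    rcases hfk 1 qD h1.symm with r | r
    · have : γ₀ = 1 := by rw [← hq₀π, Two.π_congr (show q₀ = 1 from r)]; exact map_one h.π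
      exact absurd hγ₀ (by rw [this]; decide +kernel)
    · have : γ₀ = -1 := by
        rw [← hq₀π, Two.π_congr (show q₀ = K.t from r.trans (one_mul _))]; exact K.t_π
      exact absurd hγ₀ (by rw [this]; decide +kernel)
  open scoped IsMulCommutative in
  obtain ⟨φ₁, hφ₁⟩ := CommGroup.exists_apply_ne_one_of_hasEnoughRootsOfUnity A ℂ hne_a
  open scoped IsMulCommutative in
  obtain ⟨φ₂, hφ₂⟩ := CommGroup.exists_apply_ne_one_of_hasEnoughRootsOfUnity A ℂ hne_q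
  let lam : A →* ℂˣ := (powMonoidHom 4).comp φ₁
  let mu : A →* ℂˣ := (powMonoidHom 3).comp φ₂
  have haA3 : (⟨f aD, haA⟩ : A) ^ 3 = 1 := Subtype.ext (by
    show f aD ^ 3 = 1
    rw [← map_pow, show aD ^ 3 = 1 from Subtype.ext ha3, map_one])
  have hlam_a : lam ⟨f aD, haA⟩ = φ₁ ⟨f aD, haA⟩ := by
    show φ₁ _ ^ 4 = _
    rw [pow_succ, ← map_pow, haA3, map_one, one_mul]
  have hmu_a : mu ⟨f aD, haA⟩ = 1 := by
    show φ₂ _ ^ 3 = _
    rw [← map_pow, haA3, map_one]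
  have hmu_q : mu ⟨f qD, hqA⟩ = φ₂ ⟨f qD, hqA⟩ := by
    show φ₂ _ ^ 3 = _
    rw [pow_succ, ← map_pow, hq2, map_one, one_mul]
  -- the section at `v`
  set M := PW.map f with hM
  have htPW : tD ∈ PW := (hPW tD).2 ((Two.comm_iff (K := K) v).2 hv4).symm
  have hfPW : ∀ x : T.D, f x ∈ M → x ∈ PW := fun x ⟨y, hy, e⟩ => by
    rcases hfk y x e with r | r
    · exact (Subtype.ext r : x = y) ▸ hy
    · exact (Subtype.ext r : x = y * tD) ▸ mul_mem hy htPW
  let fM : PW →* M := (f.subgroupMap PW)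
  have hfM : Function.Surjective fM := f.subgroupMap_surjective PW
  have hker : fM.ker ≤ s.ker := fun x hx => by
    have e : f (x : T.D) = f 1 := (congrArg Subtype.val hx).trans (map_one f).symm
    rw [MonoidHom.mem_ker]
    rcases hfk 1 (x : T.D) e.symm with r | r
    · rw [show x = 1 from Subtype.ext (Subtype.ext r), map_one]
    · rw [show x = ⟨tD, htPW⟩ from Subtype.ext (Subtype.ext (r.trans (one_mul _)))]
      exact hst htPW
  let s' : M →* Multiplicative (ZMod 3) := fM.liftOfSurjective hfM ⟨s, hker⟩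
  have hs' : ∀ x : PW, s' (fM x) = s x := fun x => MonoidHom.liftOfRightInverse_comp_apply _ _ _ _ x
  obtain ⟨ζ, hζ3, hζ1⟩ : ∃ w : ℂˣ, w ^ 3 = 1 ∧ w ≠ 1 := by
    have h := Complex.isPrimitiveRoot_exp 3 (by norm_num)
    refine ⟨Units.mk0 _ (h.ne_zero (by norm_num)), Units.ext (by simpa using h.pow_eq_one),
      fun e => h.ne_one (by norm_num) (by simpa using congrArg Units.val e)⟩
  set χ : Multiplicative (ZMod 3) →* ℂˣ := AddMonoidHom.toMultiplicativeLeft (Invol.zmodPow ζ hζ3)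
  have hχ1 : χ (Multiplicative.ofAdd 1) = ζ := by
    show Additive.toMul (Invol.zmodPow ζ hζ3 (((1 : ℤ) : ZMod 3))) = ζ
    rw [Invol.zmodPow_intCast, zpow_one]
  have hχ : ∀ i, χ i = 1 → i = 1 := by
    intro i hi
    rcases z3_cases i with e | e | e
    · exact e
    · exact absurd (by rw [← hχ1, ← e]; exact hi) hζ1
    · exact absurd (by
        have := congrArg χ e
        rwa [map_mul, hi, one_mul, hχ1, map_one] at this) hζ1
  let l : M →* ℂˣ := χ.comp s'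
  have hl : ∀ (x : PW) (hx : f x ∈ M), l ⟨f x, hx⟩ = χ (s x) := fun x hx => by
    rw [← hs' x]; rfl
  have hl1 : ∀ (x : PW), l ⟨f x, ⟨x, x.2, rfl⟩⟩ ≠ 1 ↔ s x ≠ 1 := fun x => by
    have e0 := hl x ⟨x, x.2, rfl⟩
    exact ⟨fun e e' => e (e0.trans (by rw [e', map_one])), fun e e' => e (hχ _ (e0.symm.trans e'))⟩
  have hvPW : vD ∈ PW := (hPW vD).2 rfl
  -- conjugation by the inverting element
  have hwPW : ∀ x ∈ PW, wD⁻¹ * x * wD ∈ PW := fun x hx => (hPW _).2 (by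
    have hx' := (hPW x).1 hx
    have e : K.ψ v = T.σ 24 * K.ψ (-v) * T.σ 24 := by
      have := T.w_act (-v)
      rw [neg_neg, T.w_inv] at this
      exact this.symm
    have e2 : (x : G) * K.ψ (-v) = K.ψ (-v) * x := by
      rw [K.toBase.ψ_neg]; exact (show Commute (x : G) (K.ψ v) from hx').inv_right.eq
    show (T.σ 24)⁻¹ * (x : G) * T.σ 24 * K.ψ v = K.ψ v * ((T.σ 24)⁻¹ * (x : G) * T.σ 24)
    rw [T.w_inv, e]
    calc T.σ 24 * (x : G) * T.σ 24 * (T.σ 24 * K.ψ (-v) * T.σ 24)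
        = T.σ 24 * (x : G) * (T.σ 24 * T.σ 24) * K.ψ (-v) * T.σ 24 := by group
      _ = T.σ 24 * ((x : G) * K.ψ (-v)) * T.σ 24 := by rw [T.w_sq]; group
      _ = T.σ 24 * (K.ψ (-v) * x) * T.σ 24 := by rw [e2]
      _ = T.σ 24 * K.ψ (-v) * (T.σ 24 * T.σ 24) * (x : G) * T.σ 24 := by rw [T.w_sq]; group
      _ = _ := by group)
  have hsw' : ∀ (x : PW), s ⟨_, hwPW x x.2⟩ = (s x)⁻¹ := fun x => hsw x _ (by
    show (T.σ 24)⁻¹ * ((x : T.D) : G) * T.σ 24 = _
    rw [T.w_inv])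
  have hiM : ∀ m : M, (f wD)⁻¹ * (m : T.D ⧸ Subgroup.zpowers tD) * f wD ∈ M := by
    rintro ⟨_, x, hx, rfl⟩
    exact ⟨_, hwPW x hx, by rw [map_mul, map_mul, map_inv]⟩
  have hfex : ∀ (x : T.D), f x * f vD = f vD * f x → x ∈ PW := fun x e => (hPW x).2 (by
    have h1 := hexact (x * vD * x⁻¹) vD (hc3 x vD hv3) hv3
      (by rw [map_mul, map_mul, map_inv, e, mul_inv_cancel_right])
    exact mul_inv_eq_iff_eq_mul.1 (congrArg Subtype.val h1))
  have hwinvv : (vD⁻¹ : T.D) = ⟨K.ψ (-v), T.ψ_D (by rcases hv with rfl | rfl; exacts [neg_fixed.1.1, neg_fixed.1.2.1])⟩ :=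
    Subtype.ext (K.toBase.ψ_neg v).symm
  -- `v` is not conjugate to `a`
  have hfus : ∀ d : T.D, (d * vD * d⁻¹ : T.D) ≠ aD ∧ (d * vD * d⁻¹ : T.D) ≠ aD⁻¹ := by
    intro d
    constructor <;> intro e
    · have e' : (d : G) * K.ψ v * (d : G)⁻¹ = K.ψ aV := by rw [K.ψ_a]; exact congrArg Subtype.val e
      obtain ⟨-, n1, n2, n3, n4, n5, n6, n7, n8⟩ := neg_fixed
      rcases T.fixed_fusion fixed_types.2.2.1.2.2 hv e' with r | r <;> rcases hv with rfl | rfl <;>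
        first | exact n5 r | exact n6 r | exact n7 r | exact n8 r
    · have e' : (d : G) * K.ψ v * (d : G)⁻¹ = K.ψ (-aV) := by
        rw [K.toBase.ψ_neg, K.ψ_a]; exact congrArg Subtype.val e
      obtain ⟨-, n1, n2, n3, n4, n5, n6, n7, n8⟩ := neg_fixed
      rcases T.fixed_fusion neg_fixed.1.2.2.1 hv e' with r | r <;>
        rcases hv with rfl | rfl <;> first | exact n1 r | exact n2 r | exact n3 r | exact n4 r
  have hzc : ∀ y : A, (f zD)⁻¹ * (y : T.D ⧸ Subgroup.zpowers tD) * f zD ∈ A := by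
    rintro ⟨_, x, ⟨m, hm, i, e⟩, rfl⟩
    refine ⟨zD⁻¹ * x * zD, ⟨(K.ψ zV)⁻¹ * m * K.ψ zV, ?_, i, ?_⟩, by rw [map_mul, map_mul, map_inv]⟩
    · have := T.M_conj hm (y := (K.ψ zV)⁻¹) ((show Commute (K.ψ zV) K.t from T.mem_D.1 zD.2).inv_left).eq
        (Or.inl (by rw [← K.ψ_a, ← K.toBase.ψ_neg, K.toBase.ψ_comm, mul_inv_cancel_right]))
      rwa [inv_inv] at this
    · show (K.ψ zV)⁻¹ * (x : G) * K.ψ zV = _
      have hc : Commute (h.a ^ i) (K.ψ zV) :=
        (show Commute h.a (K.ψ zV) from h.J_comm _ h.a_mem_J _ (K.ψ_mem _)).pow_left i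
      rw [e, mul_assoc, mul_assoc m, hc.eq]; group
  have hjA : ∀ y : A, (f wD)⁻¹ * (y : T.D ⧸ Subgroup.zpowers tD) * f wD ∈ A := by
    rintro ⟨_, x, ⟨m, hm, i, e⟩, rfl⟩
    refine ⟨wD⁻¹ * x * wD, ⟨(T.σ 24)⁻¹ * m * T.σ 24, ?_, 2 * i, ?_⟩, by rw [map_mul, map_mul, map_inv]⟩
    · have := T.M_conj hm T.w_t (Or.inr (by rw [← K.ψ_a, T.w_act, K.toBase.ψ_neg]))
      rwa [T.w_inv] at this ⊢
    · show (T.σ 24)⁻¹ * (x : G) * T.σ 24 = _
      rw [e, show (T.σ 24)⁻¹ * (m * h.a ^ i) * T.σ 24 =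
        (T.σ 24)⁻¹ * m * T.σ 24 * ((T.σ 24)⁻¹ * h.a ^ i * (T.σ 24)⁻¹⁻¹) by group, ← conj_pow, pow_mul]
      congr 2
      rw [T.w_inv, ← K.ψ_a, T.w_act, ← K.toBase.ψ_nsmul]
      exact congrArg K.ψ (line_facts.2.2.2.1 aV).1
  let Sc : Kernel.Sect (T.D ⧸ Subgroup.zpowers tD) :=
  { w := f vD
    a := f aD
    i := f wD
    j := f wD
    c := f zD
    M := M
    A := A
    l := l
    lam := lam
    mu := mu
    hM := fun x => by
      obtain ⟨x, rfl⟩ := hfsurj x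
      refine ⟨?_, fun e => ⟨x, hfex x e, rfl⟩⟩
      intro hxM
      rw [← map_mul, ← map_mul]
      exact congrArg f (Subtype.ext ((hPW x).1 (hfPW x hxM)))
    l3 := fun m => by
      show χ (s' m) ^ 3 = 1
      rw [← map_pow, z3_cube, map_one]
    wM := ⟨vD, hvPW, rfl⟩
    lw := (hl1 ⟨vD, hvPW⟩).2 (hsv _ rfl)
    hiw := by
      rw [← map_inv, ← map_inv, ← map_mul, ← map_mul]
      exact congrArg f (by nth_rewrite 2 [← inv_inv wD]; rw [hw1, ← hwv, hw1])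
    hja := by
      rw [← map_inv, ← map_inv, ← map_mul, ← map_mul]
      exact congrArg f (by nth_rewrite 2 [← inv_inv wD]; rw [hw1, ← hwa, hw1])
    iM := hiM
    il := by
      rintro ⟨_, x, hx, rfl⟩
      have e : (⟨(f wD)⁻¹ * f x * f wD, hiM ⟨_, x, hx, rfl⟩⟩ : M) = ⟨f (wD⁻¹ * x * wD), ⟨_, hwPW x hx, rfl⟩⟩ :=
        Subtype.ext (by simp only [map_mul, map_inv])
      refine (congrArg l e).trans (((hl ⟨_, hwPW x hx⟩ ⟨_, hwPW x hx, rfl⟩).trans ?_).trans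
        (congrArg (·⁻¹) (hl ⟨x, hx⟩ ⟨x, hx, rfl⟩)).symm)
      exact (congrArg χ (hsw' ⟨x, hx⟩)).trans (map_inv χ _)
    w3 := by rw [← map_pow, show vD ^ 3 = 1 from Subtype.ext hv3, map_one]
    a3 := by rw [← map_pow, show aD ^ 3 = 1 from Subtype.ext ha3, map_one]
    fusion := fun x => by
      obtain ⟨x, rfl⟩ := hfsurj x
      rw [← map_inv, ← map_mul, ← map_mul]
      constructor <;> intro e
      · refine (hfus x⁻¹).1 ?_
        rw [inv_inv]
        exact hexact _ _ (by have := hc3 x⁻¹ vD hv3; rwa [inv_inv] at this) ha3 e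
      · refine (hfus x⁻¹).2 ?_
        rw [inv_inv]
        exact hexact _ _ (by have := hc3 x⁻¹ vD hv3; rwa [inv_inv] at this) (hi3 _ ha3) (e.trans (map_inv f aD).symm)
    support := by
      rintro ⟨_, x, hx, rfl⟩ hne
      obtain ⟨h24, hcase⟩ := hsupp ⟨x, hx⟩ ((hl1 ⟨x, hx⟩).1 hne)
      have h12 : f x ^ 12 = 1 := by
        rw [← map_pow]
        have h2 : (x : G) ^ 12 * (x : G) ^ 12 = 1 := by rw [← pow_add]; exact h24
        rcases hcase with ⟨u, hu, e⟩ | ⟨d, hd, e⟩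
        · refine (hmk (x ^ 12) 1 ?_).trans (map_one f)
          show (x : G) ^ 12 = 1 ∨ (x : G) ^ 12 = 1 * K.t
          rw [show 12 = 4 * 3 from rfl, pow_mul, one_mul]
          have hu4 : act 4 u = u := by
            rcases hu with rfl | rfl
            · exact hv4
            · rcases hv with rfl | rfl <;> decide +kernel
          rcases e with e | e <;> rw [e]
          · exact Or.inl (h.J_exp _ (K.ψ_mem u))
          · right
            rw [(show Commute (K.ψ u) K.t from (Two.comm_iff (K := K) u).2 hu4).mul_pow, h.J_exp _ (K.ψ_mem u),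
              one_mul, ht3]
        · refine (hmk (x ^ 12) 1 ?_).trans (map_one f)
          show (x : G) ^ 12 = 1 ∨ (x : G) ^ 12 = 1 * K.t
          left
          have hh : (d * h.a * d⁻¹) ^ 12 = 1 := by
            rw [conj_pow, show 12 = 3 * 4 from rfl, pow_mul, h.a_cube, one_pow, mul_one, mul_inv_cancel]
          rcases e with e | e
          · rw [show ((⟨x, hx⟩ : PW) : T.D) = x from rfl] at e; rw [e, hh]
          · rw [show ((⟨x, hx⟩ : PW) : T.D) = x from rfl] at e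
            rw [e, (show Commute (d * h.a * d⁻¹) K.t from
              ((show Commute d K.t from T.mem_D.1 hd).mul_left (T.mem_D.1 T.a_D)).mul_left
                (show Commute d K.t from T.mem_D.1 hd).inv_left).mul_pow, hh, one_mul,
              show 12 = 2 * 6 from rfl, pow_mul, pow_two, K.t_sq, one_pow]
      refine ⟨h12, ?_⟩
      rcases hcase with ⟨u, hu, e⟩ | ⟨d, hd, e⟩
      · have hu4 : act 4 u = u := by
          rcases hu with rfl | rfl
          · exact hv4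
          · rcases hv with rfl | rfl <;> decide +kernel
        have e1 : f x ^ 4 = f ⟨K.ψ u, T.ψ_D hu4⟩ := by rw [← map_pow]; exact hmk _ _ e
        rcases hu with rfl | rfl
        · exact Or.inl e1
        · refine Or.inr (Or.inl ?_)
          rw [e1, ← map_inv, hwinvv]
      · right; right
        have hdx : f x = f (⟨d, hd⟩ * aD * (⟨d, hd⟩ : T.D)⁻¹) := hmk _ _ e
        refine ⟨?_, ⟨f (⟨d, hd⟩ : T.D)⁻¹, ?_⟩⟩
        · show f x ^ 4 = f x
          rw [pow_succ, hdx, ← map_pow, show (⟨d, hd⟩ * aD * (⟨d, hd⟩ : T.D)⁻¹) ^ 3 = 1 from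
            Subtype.ext (hc3 _ _ ha3), map_one, one_mul]
        · show (f (⟨d, hd⟩ : T.D)⁻¹)⁻¹ * f aD * f (⟨d, hd⟩ : T.D)⁻¹ = f x
          rw [hdx, map_inv, inv_inv, map_mul, map_mul, map_inv]
    count := by
      have hC : Nat.card ↥(Subgroup.centralizer ({f aD} : Set (T.D ⧸ Subgroup.zpowers tD))) * 2 = 72 := by
        have e : Subgroup.centralizer ({f aD} : Set (T.D ⧸ Subgroup.zpowers tD)) = (T.X0.subgroupOf T.D).map f := by
          ext y
          obtain ⟨y, rfl⟩ := hfsurj y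
          rw [Subgroup.mem_centralizer_singleton_iff]
          constructor
          · exact fun hy => ⟨y, T.mem_X0.2 ⟨hcomC y hy, T.mem_D.1 y.2⟩, rfl⟩
          · rintro ⟨x, hx, e⟩
            rw [← e, ← map_mul, ← map_mul]
            exact congrArg f (Subtype.ext (h.mem_C.1 (T.mem_X0.1 hx).1))
        have hrest := Subgroup.card_eq_card_quotient_mul_card_subgroup (f.subgroupMap (T.X0.subgroupOf T.D)).ker
        rw [Nat.card_congr (QuotientGroup.quotientKerEquivOfSurjective _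
          (f.subgroupMap_surjective (T.X0.subgroupOf T.D))).toEquiv,
          Nat.card_congr (Subgroup.subgroupOfEquivOfLe (show T.X0 ≤ T.D from inf_le_right)).toEquiv, T.X0_card] at hrest
        have hk : Nat.card (f.subgroupMap (T.X0.subgroupOf T.D)).ker = 2 := by
          rw [← hot, ← Nat.card_zpowers]
          refine Nat.card_congr ⟨fun p => ⟨((p : T.X0.subgroupOf T.D) : T.D), ?_⟩,
            fun z => ⟨⟨(z : T.D), ?_⟩, ?_⟩, fun p => Subtype.ext (Subtype.ext rfl), fun z => rfl⟩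
          · exact (QuotientGroup.eq_one_iff _).1 (congrArg Subtype.val p.2)
          · exact Subgroup.zpowers_le.2 (show tD ∈ T.X0.subgroupOf T.D from
              T.mem_X0.2 ⟨K.t_C, rfl⟩) z.2
          · exact Subtype.ext ((QuotientGroup.eq_one_iff _).2 z.2)
        rw [e, ← hk]
        exact hrest.symm
      have hP : Nat.card M * 2 = Nat.card PW := by
        have hrest := Subgroup.card_eq_card_quotient_mul_card_subgroup fM.ker
        rw [Nat.card_congr (QuotientGroup.quotientKerEquivOfSurjective _ hfM).toEquiv] at hrest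
        have hk : Nat.card fM.ker = 2 := by
          rw [← hot, ← Nat.card_zpowers]
          refine Nat.card_congr ⟨fun p => ⟨((p : PW) : T.D), ?_⟩,
            fun z => ⟨⟨(z : T.D), ?_⟩, ?_⟩, fun p => Subtype.ext (Subtype.ext rfl), fun z => rfl⟩
          · exact (QuotientGroup.eq_one_iff _).1 (congrArg Subtype.val p.2)
          · exact Subgroup.zpowers_le.2 htPW z.2
          · exact Subtype.ext ((QuotientGroup.eq_one_iff _).2 z.2)
        rw [← hk]
        exact hrest.symm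
      have hN : Nat.card {m : M // l m ≠ 1 ∧ ∃ x, x⁻¹ * f aD * x = m} =
          Nat.card {x : PW // s x ≠ 1 ∧ ∃ d ∈ T.D, ((x : T.D) : G) = d * h.a * d⁻¹} := by
        symm
        refine Nat.card_eq_of_bijective (fun x => ⟨⟨f (x.1 : T.D), ⟨_, x.1.2, rfl⟩⟩, (hl1 x.1).2 x.2.1, ?_⟩) ⟨?_, ?_⟩
        · obtain ⟨d, hd, e⟩ := x.2.2
          refine ⟨(f ⟨d, hd⟩)⁻¹, ?_⟩
          show (f ⟨d, hd⟩)⁻¹⁻¹ * f aD * (f ⟨d, hd⟩)⁻¹ = f (x.1 : T.D)
          rw [inv_inv, ← map_inv, ← map_mul, ← map_mul]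
          exact congrArg f (Subtype.ext e.symm)
        · rintro ⟨x, hx, d, hd, e⟩ ⟨y, hy, d', hd', e'⟩ he
          have h1 := hexact (x : T.D) (y : T.D) (by rw [e, conj_pow, h.a_cube, mul_one, mul_inv_cancel])
            (by rw [e', conj_pow, h.a_cube, mul_one, mul_inv_cancel])
            (congrArg (fun z : {m : M // _} => ((z : M) : T.D ⧸ Subgroup.zpowers tD)) he)
          exact Subtype.ext (Subtype.ext h1)
        · rintro ⟨⟨_, x, hx, rfl⟩, hne, y, hy⟩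
          obtain ⟨d, rfl⟩ := hfsurj y
          rw [← map_inv, ← map_mul, ← map_mul] at hy
          have hm : d⁻¹ * aD * d ∈ PW := hfPW _ (hy ▸ ⟨x, hx, rfl⟩)
          refine ⟨⟨⟨_, hm⟩, ?_, (d : G)⁻¹, inv_mem d.2, ?_⟩, Subtype.ext (Subtype.ext hy)⟩
          · refine (hl1 ⟨_, hm⟩).1 ?_
            rwa [show (⟨f (d⁻¹ * aD * d), ⟨_, hm, rfl⟩⟩ : M) = ⟨f x, ⟨x, hx, rfl⟩⟩ from Subtype.ext hy]
          · show (d : G)⁻¹ * h.a * (d : G) = _
            rw [inv_inv]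
      rw [hN]
      nlinarith [hC, hP, hcount]
    aA := haA
    A_le := fun y ⟨x, hx, e⟩ => by
      rw [← e, ← map_mul, ← map_mul]
      exact congrArg f (Subtype.ext (h.mem_C.1 (hPA_C x hx)))
    A_comm := fun y ⟨x, hx, e⟩ z ⟨x', hx', e'⟩ => by rw [← e, ← e']; exact hA_comm x hx x' hx'
    A_six := fun y ⟨x, hx, e⟩ => by rw [← e]; exact hA_six x hx
    A_cube := by
      rintro y ⟨x, ⟨m, hm, i, e⟩, rfl⟩ h3
      have hc : Commute m (h.a ^ i) := (show Commute m h.a from h.mem_C.1 (T.M_C hm)).pow_right i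
      have e4 : (x : G) ^ 4 = h.a ^ i := by
        rw [e, hc.mul_pow, T.M_four hm, one_mul, ← pow_mul, show i * 4 = 3 * i + i by ring, pow_add, pow_mul,
          h.a_cube, one_pow, one_mul]
      have h4 : f x = f (x ^ 4) := by rw [map_pow, pow_succ, h3, one_mul]
      rw [h4]
      have hai : x ^ 4 = 1 ∨ x ^ 4 = aD ∨ x ^ 4 = aD⁻¹ := by
        rcases h.mem_zpow_a (Subgroup.npow_mem_zpowers h.a i) with r | r | r
        · exact Or.inl (Subtype.ext (e4.trans r))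
        · exact Or.inr (Or.inl (Subtype.ext (e4.trans r)))
        · exact Or.inr (Or.inr (Subtype.ext (e4.trans r)))
      rcases hai with r | r | r <;> rw [r]
      · exact Or.inl (map_one f)
      · exact Or.inr (Or.inl rfl)
      · exact Or.inr (Or.inr (map_inv f aD))
    A_full := fun y hy h4 => by
      obtain ⟨x, rfl⟩ := hfsurj y
      have hxC := hcomC x hy
      obtain ⟨m, hm, i, n, e⟩ := hX0 x hxC
      refine ⟨x, ⟨m, hm, i, ?_⟩, rfl⟩
      rw [← map_pow] at h4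
      have hπx : h.π ⟨x, hxC⟩ = h.π ⟨m, T.M_C hm⟩ * ww ^ (n : ℕ) := by
        rw [Two.π_congr e, Two.π_mul (T.M_C hm) (mul_mem (pow_mem h.a_mem_C _) (pow_mem hzC _)),
          Two.π_mul (pow_mem h.a_mem_C _) (pow_mem hzC _), hπa, one_mul, Two.π_pow hzC]
      have hn : n = 0 := by
        refine orbit_facts.2.2.2 ww (h.π ⟨m, T.M_C hm⟩) hw3 hw1' (by
          rw [← map_pow, show (⟨m, T.M_C hm⟩ : h.C) ^ 4 = 1 from Subtype.ext (T.M_four hm), map_one]) n ?_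
        rw [← hπx, ← Two.π_pow hxC]
        rcases hfk (x ^ 4) aD h4 with r | r
        · refine Or.inl ((Two.π_congr (show (x : G) ^ 4 = h.a from r.symm) _).trans ?_)
          exact (Two.π_congr (pow_one h.a).symm _).trans (hπa 1)
        · refine Or.inr ?_
          have r' : (x : G) ^ 4 = h.a * K.t := by
            have r0 : h.a = (x : G) ^ 4 * K.t := r
            rw [r0, mul_assoc, K.t_sq, mul_one]
          rw [Two.π_congr r', Two.π_mul h.a_mem_C K.t_C, K.t_π, (h.mem_R_iff ⟨h.a, h.a_mem_C⟩).1 h.a_mem_R,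
            one_mul]
      rw [e, hn, Fin.val_zero, pow_zero, mul_one]
    lam3 := fun y => by
      show (φ₁ y ^ 4) ^ 3 = 1
      rw [← map_pow, ← map_pow, ← pow_mul, show 4 * 3 = 6 * 2 from rfl, pow_mul, hA6, one_pow, map_one]
    lam_a := by rw [hlam_a]; exact hφ₁
    mu_a := hmu_a
    mu_ne := fun e => hφ₂ (by rw [← hmu_q, e]; rfl)
    mu_lam := fun e => hφ₁ (by
      have := DFunLike.congr_fun e ⟨f aD, haA⟩
      rwa [MonoidHom.mul_apply, hmu_a, one_mul, hlam_a, MonoidHom.one_apply] at this)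
    jA := hjA
    cA := hzc
    c_a := by
      rw [← map_mul, ← map_mul]
      exact congrArg f (Subtype.ext (h.J_comm _ (K.ψ_mem _) _ h.a_mem_J))
    c_out := by
      have key : ∀ n : ℕ, h.π ⟨K.ψ zV ^ n, pow_mem hzC n⟩ ^ 4 ≠ 1 → f zD ^ n ∉ A := fun n hn hA' => hn (by
        rw [← map_pow] at hA'
        exact hPA_π (zD ^ n) (hfPA _ hA'))
      constructor
      · rw [← pow_one (f zD)]
        refine key 1 ?_
        rw [Two.π_pow hzC, pow_one, pow_succ, hw3, one_mul]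
        exact hw1'
      · rw [← pow_two]
        refine key 2 ?_
        rw [Two.π_pow hzC, ← pow_mul, show 2 * 4 = 3 * 2 + 2 from rfl, pow_add, pow_mul, hw3, one_pow, one_mul]
        exact fun e => hw1' (by
          have e' : ww ^ 2 = 1 := e
          rwa [pow_succ, e', one_mul] at hw3)
    cosets := fun y hy => by
      obtain ⟨x, rfl⟩ := hfsurj y
      obtain ⟨m, hm, i, n, e⟩ := hX0 x (hcomC x hy)
      have hmem : x * (zD ^ (n : ℕ))⁻¹ ∈ PA := ⟨m, hm, i, by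
        show (x : G) * (K.ψ zV ^ (n : ℕ))⁻¹ = _
        rw [e, ← mul_assoc, mul_inv_cancel_right]⟩
      fin_cases n
      · left
        refine ⟨x, ?_, rfl⟩
        simpa using hmem
      · right; left
        refine ⟨_, hmem, ?_⟩
        simp
      · right; right
        refine ⟨_, hmem, ?_⟩
        simp [pow_two]
    mu_orbit := fun u hu hu1 => by
      obtain ⟨u, x, hx, rfl⟩ := u
      obtain ⟨m, hm, i, e⟩ := id hx
      have hmD : m ∈ T.D := T.mem_D.2 (T.M_t hm)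
      set mD : T.D := ⟨m, hmD⟩
      -- drop the factor in `⟨a⟩`
      have hxm : f x = f mD := by
        have h1 : x = mD * aD ^ i := Subtype.ext e
        have h2 : f x * f x = 1 := congrArg Subtype.val hu
        have h4 : f x ^ 4 = 1 := by rw [pow_succ, pow_succ, pow_two, h2, one_mul, h2]
        have hc : Commute (f mD) (f aD ^ i) := by
          rw [← map_pow]
          exact (show Commute mD (aD ^ i) from
            (show Commute mD aD from Subtype.ext (h.mem_C.1 (T.M_C hm))).pow_right i).map f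
        have h3 : f aD ^ i = 1 := by
          have := h4
          rw [h1, map_mul, map_pow, hc.mul_pow, ← map_pow, show mD ^ 4 = 1 from Subtype.ext (T.M_four hm), map_one,
            one_mul, ← pow_mul, show i * 4 = 3 * i + i by ring, pow_add, pow_mul, ← map_pow,
            show aD ^ 3 = 1 from Subtype.ext ha3, map_one, one_pow, one_mul] at this
          exact this
        rw [h1, map_mul, map_pow, h3, mul_one]
      set γ := h.π ⟨m, T.M_C hm⟩ with hγdef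
      have hγ : γ ^ 4 = 1 := by
        rw [← map_pow, show (⟨m, T.M_C hm⟩ : h.C) ^ 4 = 1 from Subtype.ext (T.M_four hm), map_one]
      have hγγ : γ * γ = -1 := by
        rcases sl_two_facts.2.2.2 γ hγ with r | r | r
        · exfalso; refine hu1 (Subtype.ext ?_)
          show f x = 1
          rw [hxm, show mD = 1 from Subtype.ext (T.M_inj hm (one_mem _) (r.trans (map_one h.π).symm)), map_one]
        · exfalso; refine hu1 (Subtype.ext ?_)
          show f x = 1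
          rw [hxm, show mD = tD from Subtype.ext (T.M_inj hm T.t_M (r.trans K.t_π.symm))]
          exact (QuotientGroup.eq_one_iff _).2 (Subgroup.mem_zpowers _)
        · exact r
      have hzconj : ∀ {n : G} (hn : n ∈ T.M), (K.ψ zV)⁻¹ * n * K.ψ zV ∈ T.M := fun {n} hn => by
        have := T.M_conj hn (y := (K.ψ zV)⁻¹) ((show Commute (K.ψ zV) K.t from T.mem_D.1 zD.2).inv_left).eq
          (Or.inl (by rw [← K.ψ_a, ← K.toBase.ψ_neg, K.toBase.ψ_comm, mul_inv_cancel_right]))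
        rwa [inv_inv] at this
      have hπc : ∀ {n : G} (hn : n ∈ T.M), h.π ⟨_, T.M_C (hzconj hn)⟩ = ww⁻¹ * h.π ⟨n, T.M_C hn⟩ * ww :=
        fun {n} hn => by rw [hww, ← map_inv, ← map_mul, ← map_mul]; rfl
      set u₀ : A := ⟨f x, ⟨x, hx, rfl⟩⟩
      set u₁ : A := ⟨_, hzc u₀⟩
      set u₂ : A := ⟨_, hzc u₁⟩
      set m₁ := (K.ψ zV)⁻¹ * m * K.ψ zV with hm₁
      set m₂ := (K.ψ zV)⁻¹ * m₁ * K.ψ zV with hm₂
      have hm₁M : m₁ ∈ T.M := hzconj hm
      have hm₂M : m₂ ∈ T.M := hzconj hm₁M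
      have hcls : ∀ {n : G} (hn : n ∈ T.M) (o : T.D), (o : G) = n → f o ∈ A := fun {n} hn o ho =>
        ⟨o, ⟨n, hn, 0, by rw [pow_zero, mul_one, ho]⟩, rfl⟩
      have e1 : (u₁ : T.D ⧸ Subgroup.zpowers tD) = f (zD⁻¹ * mD * zD) := by
        show (f zD)⁻¹ * f x * f zD = _
        rw [hxm, map_mul, map_mul, map_inv]
      have e2 : (u₂ : T.D ⧸ Subgroup.zpowers tD) = f (zD⁻¹ * (zD⁻¹ * mD * zD) * zD) := by
        show (f zD)⁻¹ * (u₁ : T.D ⧸ Subgroup.zpowers tD) * f zD = _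
        rw [e1]; simp only [map_mul, map_inv]
      have hprod : u₀ * u₁ * u₂ = 1 := by
        refine Subtype.ext ?_
        show f x * (u₁ : T.D ⧸ Subgroup.zpowers tD) * (u₂ : T.D ⧸ Subgroup.zpowers tD) = 1
        rw [hxm, e1, e2, ← map_mul, ← map_mul, ← map_one f]
        refine hmk _ _ ?_
        show m * m₁ * m₂ = 1 ∨ m * m₁ * m₂ = 1 * K.t
        have hπ : h.π ⟨m * m₁ * m₂, T.M_C (mul_mem (mul_mem hm hm₁M) hm₂M)⟩ =
            γ * (ww⁻¹ * γ * ww) * (ww⁻¹ * (ww⁻¹ * γ * ww) * ww) := by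
          rw [Two.π_mul (T.M_C (mul_mem hm hm₁M)) (T.M_C hm₂M), Two.π_mul (T.M_C hm) (T.M_C hm₁M), hπc hm₁M,
            hπc hm]
        rcases orbit_facts.2.1 ww γ hw3 hw1' hγγ with r | r
        · exact Or.inl (T.M_inj (mul_mem (mul_mem hm hm₁M) hm₂M) (one_mem _)
            ((hπ.trans r).trans (map_one h.π).symm))
        · rw [one_mul]
          exact Or.inr (T.M_inj (mul_mem (mul_mem hm hm₁M) hm₂M) T.t_M ((hπ.trans r).trans K.t_π.symm))
      have hsq2 : ∀ p : A, p * p = 1 → (mu p : ℂ) * mu p = 1 := fun p hp => by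
        rw [← Units.val_mul, ← map_mul, hp, map_one, Units.val_one]
      have hu₁ : u₁ * u₁ = 1 := Subtype.ext (by
        have h2 : f x * f x = 1 := congrArg Subtype.val hu
        show (f zD)⁻¹ * f x * f zD * ((f zD)⁻¹ * f x * f zD) = 1
        rw [show (f zD)⁻¹ * f x * f zD * ((f zD)⁻¹ * f x * f zD) = (f zD)⁻¹ * (f x * f x) * f zD by group, h2,
          mul_one, inv_mul_cancel])
      have hu₂ : u₂ * u₂ = 1 := Subtype.ext (by
        have h2 : (u₁ : T.D ⧸ Subgroup.zpowers tD) * u₁ = 1 := congrArg Subtype.val hu₁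
        show (f zD)⁻¹ * (u₁ : T.D ⧸ Subgroup.zpowers tD) * f zD * ((f zD)⁻¹ * u₁ * f zD) = 1
        rw [show (f zD)⁻¹ * (u₁ : T.D ⧸ Subgroup.zpowers tD) * f zD * ((f zD)⁻¹ * u₁ * f zD) =
          (f zD)⁻¹ * ((u₁ : T.D ⧸ Subgroup.zpowers tD) * u₁) * f zD by group, h2, mul_one, inv_mul_cancel])
      refine sign_sum (hsq2 _ hu) (hsq2 _ hu₁) (hsq2 _ hu₂)
        (by rw [← Units.val_mul, ← Units.val_mul, ← map_mul, ← map_mul, hprod, map_one, Units.val_one]) ?_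
      rintro ⟨r0, r1, r2⟩
      refine hφ₂ ?_
      rw [← hmu_q]
      have hq4 : h.π ⟨q₀, T.M_C hq₀⟩ ^ 4 = 1 := by
        rw [← map_pow, show (⟨q₀, T.M_C hq₀⟩ : h.C) ^ 4 = 1 from Subtype.ext (T.M_four hq₀), map_one]
      have fin : ∀ {n : G} (hn : n ∈ T.M) (o : T.D) (ho : (o : G) = n),
          (mu ⟨f o, hcls hn o ho⟩ : ℂ) = 1 →
          (h.π ⟨q₀, T.M_C hq₀⟩ = h.π ⟨n, T.M_C hn⟩ ∨ h.π ⟨q₀, T.M_C hq₀⟩ = -h.π ⟨n, T.M_C hn⟩) →
          mu ⟨f qD, hqA⟩ = 1 := by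
        intro n hn o ho hval hcase
        have : f qD = f o := hmk _ _ (by
          rcases hcase with r | r
          · exact Or.inl ((T.M_inj hq₀ hn r).trans ho.symm)
          · refine Or.inr ?_
            rw [ho]
            refine T.M_inj hq₀ (mul_mem hn T.t_M) ?_
            rw [r, Two.π_mul (T.M_C hn) K.t_C, K.t_π, mul_neg_one])
        rw [show (⟨f qD, hqA⟩ : A) = ⟨f o, hcls hn o ho⟩ from Subtype.ext this]
        exact Units.ext hval
      have v0 : (mu ⟨f mD, hcls hm mD rfl⟩ : ℂ) = 1 := by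
        rw [show (⟨f mD, hcls hm mD rfl⟩ : A) = u₀ from Subtype.ext hxm.symm]; exact r0
      have v1 : (mu ⟨f (zD⁻¹ * mD * zD), hcls hm₁M _ rfl⟩ : ℂ) = 1 := by
        rw [show (⟨f (zD⁻¹ * mD * zD), hcls hm₁M _ rfl⟩ : A) = u₁ from Subtype.ext e1.symm]; exact r1
      have v2 : (mu ⟨f (zD⁻¹ * (zD⁻¹ * mD * zD) * zD), hcls hm₂M _ rfl⟩ : ℂ) = 1 := by
        rw [show (⟨f (zD⁻¹ * (zD⁻¹ * mD * zD) * zD), hcls hm₂M _ rfl⟩ : A) = u₂ from Subtype.ext e2.symm]
        exact r2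
      rcases orbit_facts.1 ww γ _ hw3 hw1' hγγ hq4 with c | c | c | c | c | c | c | c
      · exact absurd (hq₀π.symm.trans c) (fun e => absurd hγ₀ (by rw [e]; decide +kernel))
      · exact absurd (hq₀π.symm.trans c) (fun e => absurd hγ₀ (by rw [e]; decide +kernel))
      · exact fin hm mD rfl v0 (Or.inl c)
      · exact fin hm mD rfl v0 (Or.inr c)
      · exact fin hm₁M _ rfl v1 (Or.inl (c.trans (hπc hm).symm))
      · exact fin hm₁M _ rfl v1 (Or.inr (c.trans (congrArg Neg.neg (hπc hm).symm)))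
      · exact fin hm₂M _ rfl v2 (Or.inl (c.trans (((hπc hm₁M).trans (by rw [hπc hm]))).symm))
      · exact fin hm₂M _ rfl v2 (Or.inr (c.trans (congrArg Neg.neg ((hπc hm₁M).trans (by rw [hπc hm])).symm))) }
  letI := Fintype.ofFinite (T.D ⧸ Subgroup.zpowers tD)
  set S' : Set (T.D ⧸ Subgroup.zpowers tD) := f '' {x : T.D | (x : G) ∈ S} with hS'
  obtain ⟨N, hN, hSN, hwN, haN⟩ := Sc.exists_normal (S := S') (by
    rintro _ ⟨x, hx, rfl⟩
    obtain ⟨-, h2, hinv⟩ := hS _ hx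
    refine ⟨?_, fun y => ?_⟩
    · rw [← map_mul]
      refine (hmk (x * x) 1 ?_).trans (map_one f)
      show (x : G) * x = 1 ∨ (x : G) * x = 1 * K.t
      rw [one_mul]; exact h2
    obtain ⟨d, rfl⟩ := hfsurj y
    have hx2 : f x * f x = 1 := by
      rw [← map_mul]
      refine (hmk (x * x) 1 ?_).trans (map_one f)
      show (x : G) * x = 1 ∨ (x : G) * x = 1 * K.t
      rw [one_mul]; exact h2
    have hbar : f d * f x * (f d)⁻¹ = f (d * x * d⁻¹) := by rw [map_mul, map_mul, map_inv]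
    have hinvbar : f (d * x * d⁻¹) = (f (d * x * d⁻¹))⁻¹ := by
      rw [← hbar]
      refine (inv_eq_of_mul_eq_one_left ?_).symm
      rw [show f d * f x * (f d)⁻¹ * (f d * f x * (f d)⁻¹) = f d * (f x * f x) * (f d)⁻¹ by group, hx2, mul_one,
        mul_inv_cancel]
    obtain ⟨n1, n2⟩ := hinv d d.2
    constructor <;> intro e
    · refine n1 ?_
      have e' : f (d * x * d⁻¹) * f vD * (f (d * x * d⁻¹))⁻¹ = (f vD)⁻¹ := by
        rw [← hinvbar, ← hbar]; exact e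
      rw [← map_inv, ← map_inv, ← map_mul, ← map_mul] at e'
      have := congrArg Subtype.val (hexact _ _ (hc3 _ vD hv3) (hi3 _ hv3) e')
      rw [hwinvv] at this
      exact this
    · refine n2 ?_
      have e' : f (d * x * d⁻¹) * f aD * (f (d * x * d⁻¹))⁻¹ = (f aD)⁻¹ := by
        rw [← hinvbar, ← hbar]; exact e
      rw [← map_inv, ← map_inv, ← map_mul, ← map_mul] at e'
      exact congrArg Subtype.val (hexact _ _ (hc3 _ aD ha3) (hi3 _ ha3) e'))
  haveI := hN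
  refine ⟨N.comap f, inferInstance, ?_, fun x hx => hSN ⟨x, hx, rfl⟩, fun x hx hxN => hwN ?_, haN⟩
  · show f tD ∈ N
    rw [show f tD = 1 from (QuotientGroup.eq_one_iff _).2 (Subgroup.mem_zpowers _)]
    exact one_mem _
  · have : x = vD := Subtype.ext hx
    rw [this] at hxN
    exact hxN

end Eight

end Cfsg.Agent.Recog.ThreeCentSp
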