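import Cfsg.Agent.Lib.Recog.ThreeCentSp.EightModelX
import Cfsg.Agent.Lib.Recog.ThreeCentSp.EightY

/-!
Which elements of `C(t)` invert the special elements of `C_J(t)`: none squares to `t`, and such an
involution centralises a subgroup of order nine only in two explicit cases.
-/

set_option autoImplicit false
set_option linter.unusedSectionVars false
set_option linter.style.haveILetI false
set_option maxRecDepth 20000

namespace Cfsg.Agent.Recog.ThreeCentSp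

open Cfsg.Agent.Invol.PSp43Am (V3 act act_add aV xV yV zV fV gV mem_normalizer_of_conj_mem)
open SymNine (S6 pA pB pF pG pT pR)

/-- the codes of the inverters of `(1, 1, 0)` commuting with the swap -/
def ksB' : List (Fin 48) := [24, 28, 3, 7]

/-- the codes of the inverters of the third axis commuting with the swap -/
def ksZ' : List (Fin 48) := [24, 28, 27, 31]

set_option synthInstance.maxSize 1000 in
theorem cyclic_fix :
    (∀ u : V3, act 28 u = u → ∃ n : Fin 3, u = (n : ℕ) • gV) ∧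
    (∀ u : V3, act 31 u = u → ∃ n : Fin 3, u = (n : ℕ) • fV) ∧
    (∀ u : V3, act 1 u = u → ∃ n : Fin 3, u = (n : ℕ) • xV) ∧
    (∀ u : V3, act 4 u = u → act 27 u = u → ∃ n : Fin 3, u = (n : ℕ) • fV) ∧
    (∀ k : Fin 48, act (k : ℕ) gV = gV → cm (cm k k) (cm k k) = 0) ∧
    (∀ k : Fin 48, act (k : ℕ) fV = fV → cm (cm k k) (cm k k) = 0) ∧
    (∀ k : Fin 48, act (k : ℕ) xV = xV → cm (cm k k) (cm k k) = 0) ∧
    (act 28 gV = gV ∧ act 31 fV = fV ∧ act 1 xV = xV ∧ act 27 fV = fV) ∧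
    (∃ k : Fin 48, act (k : ℕ) fV = gV) ∧ (cm 26 27 = 1 ∧ cm 24 4 = 28) :=
  ⟨by decide +kernel, by decide +kernel, by decide +kernel, by decide +kernel, by decide +kernel,
    by decide +kernel, by decide +kernel, by decide +kernel, by decide +kernel, by decide +kernel⟩

set_option synthInstance.maxSize 1000 in
theorem inverter_codes :
    (∀ k : Fin 48, act (k : ℕ) fV = -fV → (∀ v, act (k : ℕ) (act 4 v) = act 4 (act (k : ℕ) v)) → k ∈ ksB') ∧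
    (∀ k : Fin 48, act (k : ℕ) zV = -zV → (∀ v, act (k : ℕ) (act 4 v) = act 4 (act (k : ℕ) v)) → k ∈ ksZ') ∧
    (∀ k ∈ ksB', cm k k = 0 ∧ cm k 4 = cm 4 k) ∧
    (∀ k ∈ ksZ', cm k k = 0 ∧ cm k 4 = cm 4 k) ∧
    (∀ k ∈ ksB' ++ ksZ', ∀ u : V3, u + act (k : ℕ) u = 0 → ∃ w, w - act (k : ℕ) w = u) ∧
    (∀ u w : V3, act 4 u = u → u + act 27 u = 0 → w - act 27 w = u → ∃ n : Fin 3, w - act 27 w =
      (n : ℕ) • zV - act 27 ((n : ℕ) • zV)) ∧
    (cm (cm 16 1) 16 = 3 ∧ cm (cm 25 4) 25 = 7 ∧ cm 16 16 = 0 ∧ cm (cm 16 25) 16 = 27) :=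
  ⟨by decide +kernel, by decide +kernel, by decide +kernel, by decide +kernel, by decide +kernel,
    by decide +kernel, by decide +kernel⟩

set_option synthInstance.maxSize 1000 in
theorem gl_inverters :
    (∀ M : M4, det4 M = 2 → mm4 M M ≠ (2, 0, 0, 2)) ∧
    (∀ M : M4, det4 M = 2 → mm4 M M = (1, 0, 0, 1) → ∃ g : M4, det4 g = 1 ∧ mm4 g M = mm4 (1, 0, 0, 2) g) ∧
    (∃ g : M4, det4 g = 1 ∧ mm4 g (1, 0, 0, 2) = mm4 (2, 0, 0, 1) g) ∧
    mm4 (1, 0, 0, 2) (2, 0, 0, 2) = (2, 0, 0, 1) ∧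
    (∀ d : ZMod 3, ((0, 0, d) : P3) = (0, 0, 2) → d = 2) ∧
    (∀ M N : M4, rep (M.1, M.2.2.1) = rep (N.1, N.2.2.1) → rep (M.2.1, M.2.2.2) = rep (N.2.1, N.2.2.2) → M = N) :=
  ⟨by decide +kernel, by decide +kernel, by decide +kernel, by decide +kernel, by decide +kernel,
    by decide +kernel⟩

set_option synthInstance.maxSize 1000 in
theorem six_inverter_facts :
    (∀ s : S6, s * (pF * pG) = pF * pG * s → s * s * (s * s) = 1) ∧
    (∀ s : S6, s * pT = pT * s → s * s ≠ pT) ∧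
    (∀ s : S6, s * s = 1 → s ≠ 1 → s.cycleType = pF.cycleType ∨ s.cycleType = (pF * pG).cycleType ∨
      s.cycleType = pT.cycleType) ∧
    (cm 26 25 = 3 ∧ cm 1 25 = 24 ∧ cm (cm 16 (cm 20 25)) 16 = 31 ∧ cm (cm 16 20) 16 = 4) :=
  ⟨by decide +kernel, by decide +kernel, by decide +kernel, by decide +kernel⟩

theorem fix25 : ∀ u : V3, u.1 = 0 → act 25 u = u := by decide +kernel

theorem axis_z : ∀ k : Fin 48, act 4 (act (k : ℕ) zV) = act (k : ℕ) zV →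
    act (k : ℕ) zV = zV ∨ act (k : ℕ) zV = -zV := by decide +kernel

theorem cm_comm_act : ∀ k : Fin 48, cm k 4 = cm 4 k → ∀ v, act (k : ℕ) (act 4 v) = act 4 (act (k : ℕ) v) := by
  decide +kernel

theorem comm_act_cm : ∀ k : Fin 48, (∀ v, act (k : ℕ) (act 4 v) = act 4 (act (k : ℕ) v)) → cm k 4 = cm 4 k := by
  decide +kernel

theorem axis_images : (∀ k : Fin 48, act 4 (act (k : ℕ) xV) = act (k : ℕ) xV →
      act (k : ℕ) xV = zV ∨ act (k : ℕ) xV = -zV) ∧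
    (∀ k : Fin 48, act 4 (act (k : ℕ) yV) = act (k : ℕ) yV → act (k : ℕ) yV = zV ∨ act (k : ℕ) yV = -zV) ∧
    (xV ≠ yV ∧ xV ≠ -yV) := by decide +kernel

/-- `x` centralises a subgroup of order nine. -/
def Nine {G : Type*} [Group G] (x : G) : Prop :=
  ∃ U : Subgroup G, Nat.card U = 9 ∧ ∀ u ∈ U, u * x = x * u

theorem Nine.conj {G : Type*} [Group G] {x : G} (hx : Nine x) (g : G) : Nine (g * x * g⁻¹) := by
  obtain ⟨U, hU, hc⟩ := hx
  refine ⟨U.map (MulAut.conj g).toMonoidHom, ?_, ?_⟩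
  · rw [← Nat.card_congr (U.equivMapOfInjective _ (MulAut.conj g).injective).toEquiv, hU]
  · rintro _ ⟨u, hu, rfl⟩
    show g * u * g⁻¹ * (g * x * g⁻¹) = g * x * g⁻¹ * (g * u * g⁻¹)
    rw [conj_mul, conj_mul, hc u hu]

theorem Nine.of_conj {G : Type*} [Group G] {x g : G} (hx : Nine (g * x * g⁻¹)) : Nine x := by
  have := hx.conj g⁻¹
  rwa [show g⁻¹ * (g * x * g⁻¹) * g⁻¹⁻¹ = x by group] at this

namespace Eight

variable {G : Type*} [Group G] [Finite G] {h : Hyp G} {K : Coords h} (T : Eight K)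

include h in
theorem pow_81 {U : Subgroup G} (hU : IsPGroup 3 U) {y : G} (hy : y ∈ U) : y ^ 81 = 1 := by
  obtain ⟨x, hx⟩ := h.exists_conj_le hU
  have := congrArg Subtype.val (pow_card_eq_one' (x := (⟨_, hx y hy⟩ : h.P)))
  rwa [h.card_P, SubgroupClass.coe_pow, Subgroup.coe_one, conj_pow, conj_eq_one_iff] at this

include h in
/-- A subgroup in which only its powers commute with `j` among the 3-elements has Sylow subgroup
`⟨j⟩`. -/
theorem three_sylow {Y : Subgroup G} {j : G} (hj : j ∈ Y) (hj3 : j ^ 3 = 1) (hj1 : j ≠ 1)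
    (hc : ∀ y ∈ Y, y ^ 81 = 1 → y * j = j * y → y ∈ Subgroup.zpowers j) :
    (∀ U : Subgroup G, U ≤ Y → IsPGroup 3 U → Nat.card U ∣ 3) ∧
      ∀ w ∈ Y, w ^ 3 = 1 → ∃ y ∈ Y, y * w * y⁻¹ ∈ Subgroup.zpowers j := by
  haveI := Fact.mk Nat.prime_three
  have hoj : orderOf j = 3 := orderOf_eq_prime hj3 hj1
  have hJp : IsPGroup 3 (Subgroup.zpowers j) :=
    IsPGroup.of_card (n := 1) (by rw [Nat.card_zpowers, hoj, pow_one])
  have hjY : Subgroup.zpowers j ≤ Y := Subgroup.zpowers_le.2 hj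
  obtain ⟨S, hS⟩ := (hJp.of_equiv (Subgroup.subgroupOfEquivOfLe hjY).symm).exists_le_sylow
  have hSle : (S : Subgroup Y) ≤ (Subgroup.zpowers j).subgroupOf Y := by
    by_contra hne
    haveI : Group.IsNilpotent (S : Subgroup Y) := S.isPGroup'.isNilpotent
    set H := ((Subgroup.zpowers j).subgroupOf Y).subgroupOf (S : Subgroup Y)
    have hlt : H < ⊤ := lt_top_iff_ne_top.2 fun e => hne fun y hy =>
      (show (⟨y, hy⟩ : (S : Subgroup Y)) ∈ H from e ▸ Subgroup.mem_top _)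
    obtain ⟨n, hn, hnH⟩ := SetLike.exists_of_lt (Group.normalizerCondition_of_isNilpotent _ hlt)
    refine hnH ?_
    set y : G := ((n : Y) : G)
    have hyY : y ∈ Y := (n : Y).2
    have h81 : y ^ 81 = 1 := pow_81 (h := h) (S.isPGroup'.map Y.subtype) ⟨(n : Y), n.2, rfl⟩
    have hjn : y * j * y⁻¹ ∈ Subgroup.zpowers j :=
      (Subgroup.mem_normalizer_iff.1 hn ⟨⟨j, hj⟩, hS (Subgroup.mem_zpowers j)⟩).1 (Subgroup.mem_zpowers j)
    have h2 : y ^ 2 * j = j * y ^ 2 := by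
      obtain ⟨i, hi⟩ : ∃ i : ℕ, j ^ i = y * j * y⁻¹ := mem_powers_iff_mem_zpowers.2 hjn
      refine mul_inv_eq_iff_eq_mul.1 ?_
      rw [pow_two, show y * y * j * (y * y)⁻¹ = y * (y * j * y⁻¹) * y⁻¹ by group, ← hi, ← conj_pow, ← hi,
        ← pow_mul, ← pow_mod_orderOf, hoj]
      have : i % 3 = 0 ∨ i % 3 = 1 ∨ i % 3 = 2 := by omega
      rcases this with r | r | r
      · exfalso
        refine hj1 ?_
        refine (conj_eq_one_iff (a := y)).1 ?_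
        rw [← hi, ← pow_mod_orderOf, hoj, r, pow_zero]
      · rw [Nat.mul_mod, r, pow_one]
      · rw [Nat.mul_mod, r, pow_one]
    have h2m := hc (y ^ 2) (pow_mem hyY 2) (by rw [← pow_mul, mul_comm, pow_mul, h81, one_pow]) h2
    show y ∈ Subgroup.zpowers j
    have e2 : y = (y ^ 2) ^ 41 := by
      rw [← pow_mul, show 2 * 41 = 81 + 1 from rfl, pow_succ, h81, one_mul]
    rw [e2]
    exact pow_mem h2m 41
  have hSc : Nat.card (S : Subgroup Y) ∣ 3 := by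
    have := Subgroup.card_dvd_of_le hSle
    rwa [Nat.card_congr (Subgroup.subgroupOfEquivOfLe hjY).toEquiv, Nat.card_zpowers, hoj] at this
  refine ⟨fun U hU hUp => ?_, fun w hw hw3 => ?_⟩
  · obtain ⟨Q, hQ⟩ := (hUp.of_equiv (Subgroup.subgroupOfEquivOfLe hU).symm).exists_le_sylow
    have h1 := Subgroup.card_dvd_of_le hQ
    rw [Nat.card_congr (Subgroup.subgroupOfEquivOfLe hU).toEquiv, Q.card_eq_multiplicity, ← S.card_eq_multiplicity] at h1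
    exact h1.trans hSc
  · have hwp : IsPGroup 3 (Subgroup.zpowers (⟨w, hw⟩ : Y)) := by
      rcases (Nat.dvd_prime Nat.prime_three).1 (orderOf_dvd_of_pow_eq_one
        (show (⟨w, hw⟩ : Y) ^ 3 = 1 from Subtype.ext hw3)) with r | r
      · exact IsPGroup.of_card (n := 0) (by rw [Nat.card_zpowers, r, pow_zero])
      · exact IsPGroup.of_card (n := 1) (by rw [Nat.card_zpowers, r, pow_one])
    obtain ⟨Q, hQ⟩ := hwp.exists_le_sylow
    obtain ⟨y, hy⟩ := MulAction.exists_smul_eq Y Q S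
    refine ⟨y, y.2, hSle (show y * ⟨w, hw⟩ * y⁻¹ ∈ (S : Subgroup Y) from ?_)⟩
    rw [← hy, Sylow.coe_subgroup_smul]
    exact Subgroup.smul_mem_pointwise_smul _ (MulAut.conj y) _ (hQ (Subgroup.mem_zpowers _))

include h in
theorem not_nine {x j : G} (hjx : j * x = x * j) (hj3 : j ^ 3 = 1) (hj1 : j ≠ 1)
    (hc : ∀ y, y ^ 81 = 1 → y * x = x * y → y * j = j * y → y ∈ Subgroup.zpowers j) : ¬ Nine x := by
  rintro ⟨U, hU, hUx⟩
  haveI := Fact.mk Nat.prime_three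
  have := (three_sylow (h := h) (Y := Subgroup.centralizer ({x} : Set G))
    (Subgroup.mem_centralizer_singleton_iff.2 hjx) hj3 hj1
    (fun y hy h81 hyj => hc y h81 (Subgroup.mem_centralizer_singleton_iff.1 hy) hyj)).1 U
    (fun u hu => Subgroup.mem_centralizer_singleton_iff.2 (hUx u hu))
    (IsPGroup.of_card (n := 2) (by rw [hU]; norm_num))
  rw [hU] at this
  exact absurd (Nat.le_of_dvd (by norm_num) this) (by norm_num)

include T in
/-- A 3-element of `N(J)` whose code has order dividing four lies in `J`. -/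
theorem three_mem_J {y : G} (hy : y ∈ Subgroup.normalizer (h.J : Set G)) (h81 : y ^ 81 = 1)
    {v : V3} (hv : y * K.ψ v = K.ψ v * y)
    (hfour : ∀ k : Fin 48, act (k : ℕ) v = v → cm (cm k k) (cm k k) = 0) : ∃ u, y = K.ψ u := by
  obtain ⟨u, k, e, hk⟩ := T.decomp hy
  have hk0 := hfour k (T.code_of_comm (u := u) (e ▸ hv))
  have h2 : ∀ w, y ^ 2 * K.ψ w * (y ^ 2)⁻¹ = K.ψ (act (cm k k : Fin 48) w) := fun w => by
    rw [act_cm, pow_two, show y * y * K.ψ w * (y * y)⁻¹ = y * (y * K.ψ w * y⁻¹) * y⁻¹ by group, hk, hk]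
  have h4 : y ^ 4 ∈ h.J := h.cent_J fun j hj => by
    obtain ⟨w, rfl⟩ := K.ψ_surj j hj
    refine mul_inv_eq_iff_eq_mul.1 ?_
    rw [show 4 = 2 + 2 from rfl, pow_add,
      show y ^ 2 * y ^ 2 * K.ψ w * (y ^ 2 * y ^ 2)⁻¹ = y ^ 2 * (y ^ 2 * K.ψ w * (y ^ 2)⁻¹) * (y ^ 2)⁻¹ by group,
      h2, h2, ← act_cm, hk0]
    exact congrArg K.ψ ((code_pow.1 0 w).1)
  have e2 : y = (y ^ 4) ^ 61 := by
    rw [← pow_mul, show 4 * 61 = 81 * 3 + 1 from rfl, pow_succ, pow_mul, h81, one_pow, one_mul]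
  obtain ⟨w, hw⟩ := K.ψ_surj _ (pow_mem h4 61)
  exact ⟨w, by rw [e2, ← hw]⟩

include T in
theorem act_of_comm {k : Fin 48} {u : V3} (e : K.ψ u * T.σ k = T.σ k * K.ψ u) : act (k : ℕ) u = u :=
  (T.comm_iff k u).1 e.symm

theorem nsmul_zpow (n : ℕ) (v : V3) : K.ψ (n • v) ∈ Subgroup.zpowers (K.ψ v) := by
  rw [K.toBase.ψ_nsmul]; exact Subgroup.npow_mem_zpowers _ _

theorem ψ_ne_one {v : V3} (hv : v ≠ 0) : K.ψ v ≠ 1 := fun e => hv (K.ψ_inj (e.trans K.toBase.ψ_zero.symm))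

include T in
theorem not_nine_28 : ¬ Nine (T.σ 28) := by
  obtain ⟨h28, -, -, -, hg, -, -, ⟨e28, -, -, -⟩, ⟨k, hk⟩, -⟩ := cyclic_fix
  refine not_nine (h := h) ((T.comm_iff 28 gV).2 e28).symm (h.J_exp _ (K.ψ_mem _)) (ψ_ne_one (by decide +kernel))
    fun y h81 hy hyg => ?_
  obtain ⟨u, rfl⟩ := T.three_mem_J (T.cent_b' k (by rw [hk]; exact hyg)) h81 hyg hg
  obtain ⟨n, rfl⟩ := h28 u (T.act_of_comm hy)
  exact nsmul_zpow n gV

include T in
theorem not_nine_31 : ¬ Nine (T.σ 31) := by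
  obtain ⟨-, h31, -, -, -, hf, -, ⟨-, e31, -, -⟩, -⟩ := cyclic_fix
  refine not_nine (h := h) ((T.comm_iff 31 fV).2 e31).symm (h.J_exp _ (K.ψ_mem _)) (ψ_ne_one (by decide +kernel))
    fun y h81 hy hyf => ?_
  obtain ⟨u, rfl⟩ := T.three_mem_J (T.cent_b hyf) h81 hyf hf
  obtain ⟨n, rfl⟩ := h31 u (T.act_of_comm hy)
  exact nsmul_zpow n fV

include T in
theorem not_nine_1 : ¬ Nine (T.σ 1) := by
  obtain ⟨-, -, h1, -, -, -, hx, ⟨-, -, e1, -⟩, -, ⟨e2627, -⟩⟩ := cyclic_fix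
  refine not_nine (h := h) ((T.comm_iff 1 xV).2 e1).symm (h.J_exp _ (K.ψ_mem _)) (ψ_ne_one (by decide +kernel))
    fun y h81 hy hyx => ?_
  rcases T.axis_cases with hN | ⟨⟨B⟩⟩
  · obtain ⟨u, rfl⟩ := T.three_mem_J (hN y hyx) h81 hyx hx
    obtain ⟨n, rfl⟩ := h1 u (T.act_of_comm hy)
    exact nsmul_zpow n xV
  obtain ⟨X⟩ := T.exists_xModel B
  obtain ⟨p, rfl⟩ := X.Φ_range.2 hyx
  have hc : X.e (pF * pG) = T.σ 1 := by rw [map_mul, X.eF, X.eG, ← T.σ_mul, e2627]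
  have hΦ : X.Φ (pF * pG, 1) = T.σ 1 := by
    show X.e (pF * pG) * K.ψ (xPt 0) = T.σ 1
    rw [hc, xPt_facts.2.1, K.toBase.ψ_zero, mul_one]
  rw [← hΦ, ← map_mul, ← map_mul] at hy
  have hs := six_inverter_facts.1 p.1 (congrArg Prod.fst (X.Φ_inj hy))
  have hp81 : p.1 ^ 81 = 1 := congrArg Prod.fst (show p ^ 81 = 1 from X.Φ_inj (by rw [map_pow, h81, map_one]))
  have hp1 : p.1 = 1 := by
    rwa [show 81 = 4 * 20 + 1 from rfl, pow_succ, pow_mul,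
      show p.1 ^ 4 = 1 by rw [← hs]; simp [pow_succ, mul_assoc], one_pow, one_mul] at hp81
  show X.e p.1 * K.ψ (xPt p.2.toAdd) ∈ _
  rw [hp1, map_one, one_mul, xPt_facts.2.2.2.1]
  exact nsmul_zpow _ xV

include T in
theorem exists_mu_conj {M N g : M4} (hg : det4 g = 1) (hM : det4 M ≠ 0) (hN : det4 N ≠ 0)
    (e : mm4 g M = mm4 N g) : T.μ N = T.μ g * T.μ M * (T.μ g)⁻¹ := by
  have hg0 : det4 g ≠ 0 := by rw [hg]; decide
  rw [eq_mul_inv_iff_mul_eq, ← T.μ_mul hN hg0, ← e, T.μ_mul hg0 hM]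

include T in
theorem μ_28 : T.μ (2, 0, 0, 1) = T.σ 28 := by
  rw [← gl_inverters.2.2.2.1, T.μ_mul (by decide) (by decide), T.μ_w, T.μ_t, ← T.σ_four, ← T.σ_mul,
    cyclic_fix.2.2.2.2.2.2.2.2.2.2]

include T in
theorem not_nine_24 : ¬ Nine (T.σ 24) := by
  obtain ⟨g, hg, e⟩ := gl_inverters.2.2.1
  intro hn
  refine T.not_nine_28 ?_
  rw [← T.μ_28, T.exists_mu_conj hg (M := (1, 0, 0, 2)) (by decide) (by decide) e, T.μ_w]
  exact hn.conj _

include T in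
theorem not_nine_3 : ¬ Nine (T.σ 3) := by
  obtain ⟨-, -, -, -, -, -, ⟨e, -, e16, -⟩⟩ := inverter_codes
  rw [← e, T.σ_mul, T.σ_mul]
  intro hn
  conv at hn => arg 1; arg 2; rw [← inv_eq_of_mul_eq_one_left (T.σ_invol e16)]
  exact T.not_nine_1 hn.of_conj

include T in
theorem inv_a {x : G} (hxt : x ∈ T.D) (hxa : x * h.a * x⁻¹ = h.a⁻¹) :
    x * x ≠ K.t ∧ (x * x = 1 → ¬ Nine x) := by
  obtain ⟨M, hM⟩ := T.exists_tr (T.mem_D.1 hxt) (Or.inr hxa)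
  have hd : det4 M = 2 := gl_inverters.2.2.2.2.1 _ (T.el_inj (hM.2.2.1.symm.trans (hxa.trans (by
    rw [show ((0, 0, 2) : P3) = elMul (0, 0, 1) (0, 0, 1) by decide +kernel, T.el_mul, T.el_a]
    exact inv_eq_of_mul_eq_one_left (by rw [← h.a_cube]; simp [pow_succ])))))
  have hd0 : det4 M ≠ 0 := hM.2.2.2
  set y := T.μ M
  have hy := (T.μ_spec hd0).2
  have hfix : ∀ r ∈ h.R, y⁻¹ * x * r = r * (y⁻¹ * x) := fun r hr => by
    obtain ⟨p, rfl⟩ := T.exists_el hr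
    refine mul_inv_eq_iff_eq_mul.1 ?_
    calc y⁻¹ * x * T.el p * (y⁻¹ * x)⁻¹ = y⁻¹ * (x * T.el p * x⁻¹) * y := by group
      _ = y⁻¹ * (y * T.el p * y⁻¹) * y := by rw [T.tr_el hM, T.tr_el hy]
      _ = _ := by group
  have hmem := h.cent_R (h.mem_C.2 (hfix _ h.a_mem_R)) hfix
  obtain ⟨i, hi⟩ := Subgroup.mem_zpowers_iff.1 hmem
  have hx : x = y * h.a ^ i := by rw [hi, mul_inv_cancel_left]
  have hya : y * h.a * y⁻¹ = h.a⁻¹ := by
    rw [← hxa, hx, show y * h.a ^ i * h.a * (y * h.a ^ i)⁻¹ = y * h.a * y⁻¹ by group]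
  have hsq : x * x = T.μ (mm4 M M) := by
    rw [T.μ_mul hd0 hd0]
    have e : h.a ^ i * y = y * (h.a ^ i)⁻¹ := by
      have h1 : y * (h.a ^ i)⁻¹ * y⁻¹ = h.a ^ i := by
        rw [← conj_inv, ← conj_zpow, hya, inv_zpow, inv_inv]
      exact (mul_inv_eq_iff_eq_mul.1 h1).symm
    rw [hx, show y * h.a ^ i * (y * h.a ^ i) = y * (h.a ^ i * y) * h.a ^ i by group, e]
    show y * (y * (h.a ^ i)⁻¹) * h.a ^ i = y * y
    group
  have hinj : ∀ N : M4, det4 N ≠ 0 → T.μ (mm4 M M) = T.μ N → mm4 M M = N := fun N hN e => by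
    obtain ⟨a1, a2, -, -⟩ := (T.μ_spec (det_mm M M hd0 hd0)).2
    obtain ⟨b1, b2, -, -⟩ := (T.μ_spec hN).2
    rw [e] at a1 a2
    exact gl_inverters.2.2.2.2.2 _ _ (T.el_inj (a1.symm.trans b1)) (T.el_inj (a2.symm.trans b2))
  refine ⟨fun e => gl_inverters.1 M hd (hinj _ (by decide) (by rw [← hsq, e, T.μ_t])), fun e hn => ?_⟩
  obtain ⟨g, hg, eg⟩ := gl_inverters.2.1 M hd (hinj _ (by decide) (by rw [← hsq, e, T.μ_one]))
  refine T.not_nine_24 ?_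
  rw [← T.μ_w, T.exists_mu_conj hg hd0 (by decide) eg]
  refine Nine.conj (x := T.μ M) ?_ _
  -- remove the translation along `a`
  have e3 : h.a ^ i = h.a ^ (2 * i) * h.a ^ (2 * i) := by
    rw [← zpow_add, show 2 * i + 2 * i = i + 3 * i by ring, zpow_add h.a, zpow_mul, zpow_ofNat, h.a_cube,
      one_zpow, mul_one]
  have e4 : x = (h.a ^ (2 * i))⁻¹ * y * h.a ^ (2 * i) := by
    have h1 : y * h.a ^ (2 * i) * y⁻¹ = (h.a ^ (2 * i))⁻¹ := by rw [← conj_zpow, hya, inv_zpow]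
    rw [← h1, inv_mul_cancel_right, hx, mul_assoc, ← e3]
  exact Nine.of_conj (g := (h.a ^ (2 * i))⁻¹) (by rw [inv_inv, ← e4]; exact hn)

include T in
/-- An inverter of `(1, 1, 0)` or of the axis in `N(J) ∩ C(t)` in coordinates. -/
theorem inv_code {v : V3} {ks : List (Fin 48)} {x : G} (hxt : x ∈ T.D)
    (hx : x ∈ Subgroup.normalizer (h.J : Set G)) (hxv : x * K.ψ v * x⁻¹ = K.ψ (-v))
    (hks : ∀ k : Fin 48, act (k : ℕ) v = -v → (∀ w, act (k : ℕ) (act 4 w) = act 4 (act (k : ℕ) w)) → k ∈ ks)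
    (hsq : ∀ k ∈ ks, cm k k = 0 ∧ cm k 4 = cm 4 k) (hks' : ∀ k ∈ ks, k ∈ ksB' ++ ksZ') :
    x * x ≠ K.t ∧ (x * x = 1 → ∃ u k, k ∈ ks ∧ x = K.ψ u * T.σ k ∧ act 4 u = u ∧ u + act (k : ℕ) u = 0 ∧
      ∃ w, w - act (k : ℕ) w = u ∧ x = K.ψ w * T.σ k * (K.ψ w)⁻¹) := by
  obtain ⟨u, k, e, hk⟩ := T.decomp hx
  have hct : ∀ w, act (k : ℕ) (act 4 w) = act 4 (act (k : ℕ) w) := fun w => K.ψ_inj (by
    rw [← hk, ← K.t_act, ← K.t_act (act (k : ℕ) w), ← hk,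
      show x * (K.t * K.ψ w * K.t⁻¹) * x⁻¹ = x * K.t * K.ψ w * (x * K.t)⁻¹ by group,
      show K.t * (x * K.ψ w * x⁻¹) * K.t⁻¹ = K.t * x * K.ψ w * (K.t * x)⁻¹ by group, T.mem_D.1 hxt])
  have hkm : k ∈ ks := hks k (K.ψ_inj ((hk v).symm.trans hxv)) hct
  obtain ⟨hk2, hk4⟩ := hsq k hkm
  have hσk := T.σ_invol hk2
  have hu : act 4 u = u := by
    refine (Two.comm_iff (K := K) u).1 (mul_right_cancel (b := T.σ k) ?_)
    have h1 := T.mem_D.1 hxt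
    rw [e, mul_assoc, ← T.σ_four, ← T.σ_mul, hk4, T.σ_mul, ← mul_assoc, T.σ_four] at h1
    rw [h1, mul_assoc]
  have hxx : x * x = K.ψ (u + act (k : ℕ) u) := by
    rw [e, K.ψ_add, ← T.σ_conj hk2 u]; group
  refine ⟨fun e' => ?_, fun e' => ?_⟩
  · have htJ : K.t ∈ h.J := e' ▸ hxx ▸ K.ψ_mem _
    have h3 := h.J_exp _ htJ
    rw [pow_succ, pow_two, K.t_sq, one_mul] at h3
    exact h.neg_ne_one K.t_π (h3 ▸ Subgroup.one_mem _)
  have h0 : u + act (k : ℕ) u = 0 := K.ψ_inj ((hxx.symm.trans e').trans K.toBase.ψ_zero.symm)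
  obtain ⟨w, hw⟩ := inverter_codes.2.2.2.2.1 k (hks' k hkm) u h0
  refine ⟨u, k, hkm, e, hu, h0, w, hw, ?_⟩
  have h1 : K.ψ (act (k : ℕ) w) * T.σ k = T.σ k * K.ψ w := by rw [← T.σ_act, inv_mul_cancel_right]
  rw [e, eq_mul_inv_iff_mul_eq, mul_assoc, ← h1, ← mul_assoc, ← K.ψ_add, ← hw, sub_add_cancel]

include T in
/-- Inverters of `(1, 1, 0)`. -/
theorem inv_b {x : G} (hxt : x ∈ T.D) (hxb : x * K.ψ fV * x⁻¹ = K.ψ (-fV)) :
    x * x ≠ K.t ∧ (x * x = 1 → Nine x → IsConj K.t x) := by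
  have hN : T.σ 24 * x ∈ Subgroup.normalizer (h.J : Set G) := T.cent_b (mul_inv_eq_iff_eq_mul.1 (by
    rw [show T.σ 24 * x * K.ψ fV * (T.σ 24 * x)⁻¹ = T.σ 24 * (x * K.ψ fV * x⁻¹) * (T.σ 24)⁻¹ by group, hxb,
      T.w_act, neg_neg]))
  have hx : x ∈ Subgroup.normalizer (h.J : Set G) := by
    have := mul_mem (inv_mem (T.σ_N 24)) hN
    rwa [inv_mul_cancel_left] at this
  obtain ⟨h1, h2⟩ := T.inv_code hxt hx hxb inverter_codes.1 inverter_codes.2.2.1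
    (fun k hk => List.mem_append_left _ hk)
  refine ⟨h1, fun e hn => ?_⟩
  obtain ⟨u, k, hk, -, -, -, w, -, ew⟩ := h2 e
  rw [ew] at hn ⊢
  have hn' := hn.of_conj
  simp only [ksB', List.mem_cons, List.not_mem_nil, or_false] at hk
  rcases hk with rfl | rfl | rfl | rfl
  · exact absurd hn' T.not_nine_24
  · exact absurd hn' T.not_nine_28
  · exact absurd hn' T.not_nine_3
  · obtain ⟨-, -, -, -, -, -, ⟨-, e7, -, -⟩⟩ := inverter_codes
    refine (isConj_iff.2 ⟨T.σ 25, ?_⟩).trans (isConj_iff.2 ⟨K.ψ w, rfl⟩)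
    rw [← T.σ_four, inv_eq_of_mul_eq_one_left (T.σ_invol xModel_codes.1.2.2), ← T.σ_mul, ← T.σ_mul, e7]

include T in
/-- Inverters of the third axis. -/
theorem inv_z {x : G} (hxt : x ∈ T.D) (hxz : x * K.ψ zV * x⁻¹ = K.ψ (-zV)) :
    x * x ≠ K.t ∧ (x * x = 1 → Nine x →
      ∃ n : ℕ, x = K.ψ (n • zV) * T.σ 27 * (K.ψ (n • zV))⁻¹) := by
  obtain ⟨-, -, -, -, -, hfix27, ⟨-, -, e16, e27⟩⟩ := inverter_codes
  rcases T.axis_cases with hsmall | ⟨⟨B⟩⟩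
  · have hx : x ∈ Subgroup.normalizer (h.J : Set G) := by
      have hy : (T.σ 16 * T.σ 24 * x * T.σ 16) * K.ψ xV = K.ψ xV * (T.σ 16 * T.σ 24 * x * T.σ 16) := by
        refine mul_inv_eq_iff_eq_mul.1 ?_
        rw [mul_inv_rev, mul_inv_rev, mul_inv_rev, inv_eq_of_mul_eq_one_left (T.σ_invol e16)]
        calc T.σ 16 * T.σ 24 * x * T.σ 16 * K.ψ xV * (T.σ 16 * (x⁻¹ * ((T.σ 24)⁻¹ * T.σ 16)))
            = T.σ 16 * (T.σ 24 * (x * (T.σ 16 * K.ψ xV * T.σ 16) * x⁻¹) * (T.σ 24)⁻¹) * T.σ 16 := by group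
          _ = K.ψ xV := by
            rw [T.σ_conj e16, show act ((16 : Fin 48) : ℕ) xV = zV by decide +kernel, hxz, T.w_act, neg_neg,
              T.σ_conj e16]
            exact congrArg K.ψ (by decide +kernel)
      have := mul_mem (mul_mem (mul_mem (inv_mem (T.σ_N 24)) (inv_mem (T.σ_N 16))) (hsmall _ hy))
        (inv_mem (T.σ_N 16))
      rwa [show (T.σ 24)⁻¹ * (T.σ 16)⁻¹ * (T.σ 16 * T.σ 24 * x * T.σ 16) * (T.σ 16)⁻¹ = x by group] at this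
    obtain ⟨h1, h2⟩ := T.inv_code hxt hx hxz inverter_codes.2.1 inverter_codes.2.2.2.1
      (fun k hk => List.mem_append_right _ hk)
    refine ⟨h1, fun e hn => ?_⟩
    obtain ⟨u, k, hk, eu, hu4, hu0, w, hw, ew⟩ := h2 e
    have hn' : Nine (T.σ k) := (ew ▸ hn).of_conj
    simp only [ksZ', List.mem_cons, List.not_mem_nil, or_false] at hk
    rcases hk with rfl | rfl | rfl | rfl
    · exact absurd hn' T.not_nine_24
    · exact absurd hn' T.not_nine_28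
    · obtain ⟨n, hn⟩ := hfix27 u w hu4 hu0 hw
      refine ⟨(n : ℕ), ?_⟩
      rw [eq_mul_inv_iff_mul_eq, eu, mul_assoc,
        show T.σ 27 * K.ψ ((n : ℕ) • zV) = K.ψ (act 27 ((n : ℕ) • zV)) * T.σ 27 from
          (mul_inv_eq_iff_eq_mul.1 (T.σ_act 27 _)),
        ← mul_assoc, ← K.ψ_add, ← hw]
      erw [hn]
      rw [sub_add_cancel]
    · exact absurd hn' T.not_nine_31
  -- the larger case: transfer to the first axis
  obtain ⟨X⟩ := T.exists_xModel B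
  obtain ⟨hs4, hsT, hcls, ⟨c3, c24, c31, c4⟩⟩ := six_inverter_facts
  have h16 : (T.σ 16)⁻¹ = T.σ 16 := inv_eq_of_mul_eq_one_left (T.σ_invol e16)
  have hc25 := T.σ_invol xModel_codes.1.2.2
  set x' := T.σ 16 * x * T.σ 16 with hx'
  have hxx' : x = T.σ 16 * x' * (T.σ 16)⁻¹ := by
    rw [hx', h16]
    calc x = (T.σ 16 * T.σ 16) * x * (T.σ 16 * T.σ 16) := by rw [T.σ_invol e16, one_mul, mul_one]
      _ = _ := by group
  have hy : x' * T.σ 25 * K.ψ xV = K.ψ xV * (x' * T.σ 25) := by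
    refine mul_inv_eq_iff_eq_mul.1 ?_
    rw [show x' * T.σ 25 * K.ψ xV * (x' * T.σ 25)⁻¹ = x' * (T.σ 25 * K.ψ xV * (T.σ 25)⁻¹) * x'⁻¹ by group,
      T.σ_act, show act ((25 : Fin 48) : ℕ) xV = -xV by decide +kernel, hx', mul_inv_rev, mul_inv_rev, h16]
    calc T.σ 16 * x * T.σ 16 * K.ψ (-xV) * (T.σ 16 * (x⁻¹ * T.σ 16))
        = T.σ 16 * (x * (T.σ 16 * K.ψ (-xV) * T.σ 16) * x⁻¹) * T.σ 16 := by group
      _ = K.ψ xV := by
        rw [T.σ_conj e16, show act ((16 : Fin 48) : ℕ) (-xV) = -zV by decide +kernel, K.toBase.ψ_neg,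
          ← conj_inv, hxz, ← K.toBase.ψ_neg, T.σ_conj e16]
        exact congrArg K.ψ (by decide +kernel)
  obtain ⟨s, i, hsi⟩ := X.cover _ hy
  have hex : x' = X.e s * K.ψ (xPt i) * T.σ 25 := by rw [← hsi, mul_assoc, hc25, mul_one]
  have hsq : x' * x' = X.e (s * s) := by
    rw [hex, map_mul]
    have h1 : Commute (T.σ 25) (X.e s) := X.e25 s
    have h2 := X.e_comm_x s i
    calc X.e s * K.ψ (xPt i) * T.σ 25 * (X.e s * K.ψ (xPt i) * T.σ 25)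
        = X.e s * K.ψ (xPt i) * (T.σ 25 * X.e s) * K.ψ (xPt i) * T.σ 25 := by group
      _ = X.e s * (K.ψ (xPt i) * X.e s) * (T.σ 25 * K.ψ (xPt i)) * T.σ 25 := by rw [h1.eq]; group
      _ = X.e s * X.e s * (K.ψ (xPt i) * K.ψ (xPt (-i))) * (T.σ 25 * T.σ 25) := by
          rw [← h2.eq, T.sr_r i]; group
      _ = _ := by
          rw [hc25, (xPt_facts.2.2.1 i).2.1, K.toBase.ψ_neg, mul_inv_cancel, mul_one, mul_one]
  have ht20 : T.σ 16 * K.t * T.σ 16 = T.σ 20 := by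
    rw [← T.σ_four, ← c4, T.σ_mul, T.σ_mul]
    calc T.σ 16 * (T.σ 16 * T.σ 20 * T.σ 16) * T.σ 16
        = (T.σ 16 * T.σ 16) * T.σ 20 * (T.σ 16 * T.σ 16) := by group
      _ = _ := by rw [T.σ_invol e16, one_mul, mul_one]
  have hct : s * pT = pT * s := by
    have hx20 : x' * T.σ 20 = T.σ 20 * x' := by
      rw [hx', ← ht20]
      calc T.σ 16 * x * T.σ 16 * (T.σ 16 * K.t * T.σ 16)
          = T.σ 16 * (x * (T.σ 16 * T.σ 16) * K.t) * T.σ 16 := by group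
        _ = T.σ 16 * (K.t * (T.σ 16 * T.σ 16) * x) * T.σ 16 := by
            rw [T.σ_invol e16, mul_one, mul_one, T.mem_D.1 hxt]
        _ = _ := by group
    have hp : Commute (X.e pT) (K.ψ (xPt i) * T.σ 25) := by
      refine (X.e_comm_x pT i).mul_right ?_
      exact (show Commute (T.σ 25) (X.e pT) from X.e25 pT).symm
    rw [hex, ← X.eT, mul_assoc (X.e s)] at hx20
    refine X.inj (mul_right_cancel (b := K.ψ (xPt i) * T.σ 25) ?_)
    rw [map_mul, map_mul, mul_assoc, hp.eq, ← mul_assoc, hx20, mul_assoc]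
  have hxsq : x * x = T.σ 16 * (x' * x') * (T.σ 16)⁻¹ := by rw [hxx']; group
  refine ⟨fun e => hsT s hct (X.inj ?_), fun e hn => ?_⟩
  · rw [← hsq, X.eT, ← ht20, ← e, hxsq, h16]
    calc x' * x' = (T.σ 16 * T.σ 16) * (x' * x') * (T.σ 16 * T.σ 16) := by
          rw [T.σ_invol e16, one_mul, mul_one]
      _ = _ := by group
  have hs2 : s * s = 1 := X.inj (by
    rw [← hsq, map_one]
    rw [hxsq] at e
    exact conj_eq_one_iff.1 e)
  -- remove the translation along the axis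
  have h3 : X.e s * K.ψ (xPt i) * T.σ 25 = K.ψ (xPt (2 * i)) * (X.e s * T.σ 25) * (K.ψ (xPt (2 * i)))⁻¹ := by
    have h2 := X.e_comm_x s (2 * i)
    rw [eq_mul_inv_iff_mul_eq, mul_assoc, T.sr_r (2 * i), ← mul_assoc (X.e s * K.ψ (xPt i)),
      mul_assoc (X.e s), ← K.ψ_add, ← xPt_facts.1,
      show i + -(2 * i) = 2 * i from (show ∀ i : ZMod 3, i + -(2 * i) = 2 * i by decide +kernel) i,
      ← mul_assoc, h2.eq]
  have hnx : Nine (X.e s * T.σ 25) := by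
    refine Nine.of_conj (g := K.ψ (xPt (2 * i))) ?_
    rw [← h3, ← hex]
    exact (hxx' ▸ hn).of_conj
  by_cases hs : s = 1
  · refine ⟨(2 * i).val, ?_⟩
    have hz : T.σ 16 * K.ψ (xPt (2 * i)) * (T.σ 16)⁻¹ = K.ψ ((2 * i).val • zV) := by
      rw [T.σ_act]
      exact congrArg K.ψ ((show ∀ j : ZMod 3, act 16 (xPt j) = j.val • zV by decide +kernel) (2 * i))
    rw [← hz, hxx', hex, h3, hs, map_one, one_mul, ← e27, T.σ_mul, T.σ_mul, h16]
    calc T.σ 16 * (K.ψ (xPt (2 * i)) * T.σ 25 * (K.ψ (xPt (2 * i)))⁻¹) * T.σ 16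
        = T.σ 16 * K.ψ (xPt (2 * i)) * (T.σ 16 * T.σ 16) * T.σ 25 * (T.σ 16 * T.σ 16) *
            ((K.ψ (xPt (2 * i)))⁻¹ * T.σ 16) := by rw [T.σ_invol e16]; group
      _ = _ := by
        rw [mul_inv_rev, mul_inv_rev, h16]; group
  exfalso
  have key : ∀ c : S6, s.cycleType = c.cycleType → Nine (X.e c * T.σ 25) := fun c hc => by
    obtain ⟨g, hg⟩ := isConj_iff.1 (Equiv.Perm.isConj_iff_cycleType_eq.2 hc)
    rw [← hg, map_mul, map_mul, map_inv, mul_assoc,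
      ← ((show Commute (T.σ 25) (X.e g) from X.e25 g).inv_right).eq]
    rw [show X.e g * X.e s * (T.σ 25 * (X.e g)⁻¹) = X.e g * (X.e s * T.σ 25) * (X.e g)⁻¹ by group]
    exact hnx.conj _
  rcases hcls s hs2 hs with r | r | r
  · have := key _ r
    rw [X.eF, ← T.σ_mul, c3] at this
    exact T.not_nine_3 this
  · have := key _ r
    rw [map_mul, X.eF, X.eG, ← T.σ_mul, cyclic_fix.2.2.2.2.2.2.2.2.2.1, ← T.σ_mul, c24] at this
    exact T.not_nine_24 this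
  · have := (key _ r).conj (T.σ 16)
    rw [X.eT, ← T.σ_mul, h16, ← T.σ_mul, ← T.σ_mul, c31] at this
    exact T.not_nine_31 this

include T in
theorem nine_t : Nine K.t :=
  ⟨T.E, T.E_card, fun u hu => Subgroup.mem_centralizer_singleton_iff.1 hu.2⟩

/-- the translations with vanishing first coordinate -/
def Jx (_T : Eight K) : Subgroup G where
  carrier := {g | ∃ u : V3, u.1 = 0 ∧ g = K.ψ u}
  one_mem' := ⟨0, rfl, K.toBase.ψ_zero.symm⟩
  inv_mem' := by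
    rintro _ ⟨u, hu, rfl⟩
    exact ⟨-u, by simp [hu], (K.toBase.ψ_neg u).symm⟩
  mul_mem' := by
    rintro _ _ ⟨u, hu, rfl⟩ ⟨v, hv, rfl⟩
    exact ⟨u + v, by simp [hu, hv], (K.ψ_add u v).symm⟩

theorem Jx_card : Nat.card T.Jx = 9 := by
  let f : Fin 3 × Fin 3 → T.Jx := fun q => ⟨K.ψ ((q.1 : ℕ) • yV + (q.2 : ℕ) • zV), _,
    (ksX_facts.2.2.2.2.1 _).2 ⟨q.1, q.2, rfl⟩, rfl⟩
  have hf : Function.Bijective f := by
    refine ⟨fun p q e => inj_x p q (K.ψ_inj (congrArg Subtype.val e)), ?_⟩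
    rintro ⟨_, u, hu, rfl⟩
    obtain ⟨j, n, rfl⟩ := (ksX_facts.2.2.2.2.1 u).1 hu
    exact ⟨(j, n), rfl⟩
  rw [← Nat.card_eq_of_bijective f hf, Nat.card_eq_fintype_card]; rfl

include T in
theorem nine_25 : Nine (T.σ 25) :=
  ⟨T.Jx, T.Jx_card, by
    rintro _ ⟨u, hu, rfl⟩
    exact ((T.comm_iff 25 u).2 (fix25 u hu)).symm⟩

include T in
theorem conj_27_25 : IsConj (T.σ 25) (T.σ 27) := by
  obtain ⟨-, -, -, -, -, -, ⟨-, -, e16, e27⟩⟩ := inverter_codes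
  exact isConj_iff.2 ⟨T.σ 16, by rw [inv_eq_of_mul_eq_one_left (T.σ_invol e16), ← T.σ_mul, ← T.σ_mul, e27]⟩

include T in
theorem nine_27 : Nine (T.σ 27) := by
  obtain ⟨g, hg⟩ := isConj_iff.1 T.conj_27_25
  rw [← hg]
  exact T.nine_25.conj g

include T in
/-- The reflection is not conjugate to the swap. -/
theorem not_conj_t : ¬ IsConj (T.σ 25) K.t := by
  intro hh
  obtain ⟨g, hg⟩ := isConj_iff.1 hh
  haveI := Fact.mk Nat.prime_three
  set U := T.Jx.map (MulAut.conj g).toMonoidHom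
  have hUp : IsPGroup 3 U :=
    IsPGroup.map (IsPGroup.of_card (n := 2) (by rw [T.Jx_card]; norm_num)) _
  have hUD : U ≤ T.D := by
    rintro _ ⟨_, ⟨u, hu, rfl⟩, rfl⟩
    refine T.mem_D.2 ?_
    show g * K.ψ u * g⁻¹ * K.t = K.t * (g * K.ψ u * g⁻¹)
    rw [← hg, conj_mul, conj_mul,
      (T.comm_iff 25 u).2 (fix25 u hu)]
  obtain ⟨S, hS⟩ := T.exists_sylow_E (show T.E ≤ T.D from inf_le_right) le_rfl
  obtain ⟨Q, hQ⟩ := (hUp.of_equiv (Subgroup.subgroupOfEquivOfLe hUD).symm).exists_le_sylow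
  obtain ⟨d, hd⟩ := MulAction.exists_smul_eq T.D Q S
  have himg : ∀ u : V3, u.1 = 0 → ∃ w, act 4 w = w ∧ (d : G) * g * K.ψ u * ((d : G) * g)⁻¹ = K.ψ w := fun u hu => by
    have hmem : g * K.ψ u * g⁻¹ ∈ U := ⟨_, ⟨u, hu, rfl⟩, rfl⟩
    have h1 : d * ⟨_, hUD hmem⟩ * d⁻¹ ∈ (S : Subgroup T.D) := by
      rw [← hd, Sylow.coe_subgroup_smul]
      exact Subgroup.smul_mem_pointwise_smul _ (MulAut.conj d) _ (hQ hmem)
    obtain ⟨w, hw, e⟩ := T.exists_of_mem_E (hS.le h1)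
    refine ⟨w, hw, ?_⟩
    rw [← e]
    show (d : G) * g * K.ψ u * ((d : G) * g)⁻¹ = (d : G) * (g * K.ψ u * g⁻¹) * (d : G)⁻¹
    group
  have hy : ∃ w, (w = zV ∨ w = -zV) ∧ (d : G) * g * K.ψ yV * ((d : G) * g)⁻¹ = K.ψ w := by
    obtain ⟨w, hw, e⟩ := himg yV rfl
    obtain ⟨n, hn, en⟩ := h.fusion_J (K.ψ_mem _) (K.ψ_mem _) e
    obtain ⟨k, hk⟩ := K.acts n hn
    rw [hk] at en
    exact ⟨w, (K.ψ_inj en) ▸ axis_images.2.1 k (by rw [K.ψ_inj en]; exact hw), e⟩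
  have hz : ∃ w, (w = zV ∨ w = -zV) ∧ (d : G) * g * K.ψ zV * ((d : G) * g)⁻¹ = K.ψ w := by
    obtain ⟨w, hw, e⟩ := himg zV rfl
    obtain ⟨n, hn, en⟩ := h.fusion_J (K.ψ_mem _) (K.ψ_mem _) e
    obtain ⟨k, hk⟩ := K.acts n hn
    rw [hk] at en
    exact ⟨w, axis_z k (by rw [K.ψ_inj en]; exact hw) |>.imp
        (fun r => (K.ψ_inj en).symm.trans r) (fun r => (K.ψ_inj en).symm.trans r), e⟩
  obtain ⟨p, hp, ey⟩ := hy
  obtain ⟨q, hq, ez⟩ := hz
  obtain ⟨zy, zy'⟩ : zV ≠ yV ∧ zV ≠ -yV := ⟨xModel_codes.2.2.2.2.2.2.1, xModel_codes.2.2.2.2.2.2.2⟩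
  have hinjc : ∀ u v : V3, (d : G) * g * K.ψ u * ((d : G) * g)⁻¹ = (d : G) * g * K.ψ v * ((d : G) * g)⁻¹ → u = v :=
    fun u v e => K.ψ_inj (mul_left_cancel (mul_right_cancel e))
  have hneg : (d : G) * g * K.ψ (-yV) * ((d : G) * g)⁻¹ = K.ψ (-p) := by
    rw [K.toBase.ψ_neg, ← conj_inv, ey, K.toBase.ψ_neg]
  rcases hp with rfl | rfl <;> rcases hq with rfl | rfl
  · exact zy (hinjc _ _ (ez.trans ey.symm))
  · exact zy' (hinjc _ _ (ez.trans hneg.symm))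
  · rw [neg_neg] at hneg
    exact zy' (hinjc _ _ (ez.trans hneg.symm))
  · exact zy (hinjc _ _ (ez.trans ey.symm))

include T in
/-- A 3-element of `C(t)` centralising the third reflection is conjugate there into `⟨(1, 1, 0)⟩`. -/
theorem cent_27 {w : G} (hwt : w ∈ T.D) (hw : w * T.σ 27 = T.σ 27 * w) (hw3 : w ^ 3 = 1) :
    ∃ y ∈ T.D, y * w * y⁻¹ ∈ Subgroup.zpowers (K.ψ fV) := by
  obtain ⟨-, -, -, h27, -, hf, -, ⟨-, -, -, e27⟩, -⟩ := cyclic_fix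
  obtain ⟨-, hh⟩ := three_sylow (h := h) (Y := T.D ⊓ Subgroup.centralizer ({T.σ 27} : Set G)) (j := K.ψ fV)
    ⟨T.ψ_D fixed_types.2.2.1.1, Subgroup.mem_centralizer_singleton_iff.2 ((T.comm_iff 27 fV).2 e27).symm⟩
    (h.J_exp _ (K.ψ_mem _)) (ψ_ne_one (by decide +kernel)) (fun y hy h81 hyf => by
      obtain ⟨u, rfl⟩ := T.three_mem_J (T.cent_b hyf) h81 hyf hf
      obtain ⟨n, rfl⟩ := h27 u ((Two.comm_iff (K := K) u).1 (T.mem_D.1 hy.1))
        (T.act_of_comm (Subgroup.mem_centralizer_singleton_iff.1 hy.2))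
      exact nsmul_zpow n fV)
  obtain ⟨y, hy, e⟩ := hh w ⟨hwt, Subgroup.mem_centralizer_singleton_iff.2 hw⟩ hw3
  exact ⟨y, hy.1, e⟩

end Eight

end Cfsg.Agent.Recog.ThreeCentSp
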