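import Cfsg.Agent.Lib.Recog.ThreeCentSp.EightCore

/-!
The generators satisfy the relations of the certificates.
-/

set_option autoImplicit false
set_option linter.unusedSectionVars false
set_option linter.style.haveILetI false
set_option maxRecDepth 20000

namespace Cfsg.Agent.Recog.ThreeCentSp

open Cfsg.Agent.Invol.PSp43Am (V3 act act_add aV xV yV zV fV gV mem_normalizer_of_conj_mem)
open SymNine (S6 pA pB pF pG pT pR)
open Cert (ev flat alphaA alphaX relJ relA relC relX relR wAz wR RelS RelF)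

/-- the three transpositions moved by the exchange, multiplied out -/
def octL : List S6 :=
  [1, Equiv.swap 0 3, Equiv.swap 1 4, Equiv.swap 2 5, Equiv.swap 0 3 * Equiv.swap 1 4,
    Equiv.swap 0 3 * Equiv.swap 2 5, Equiv.swap 1 4 * Equiv.swap 2 5, pT]

set_option synthInstance.maxSize 1000 in
theorem oct_facts :
    (∀ s : S6, s * pT = pT * s → s ^ 12 = 1) ∧
    (∀ s : S6, s * pT = pT * s → s ^ 4 = 1 → s ∈ octL ∨ ∃ g ∈ octL ++ [pF * pG, pA * pB, (pA * pB) * (pF * pG)],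
      (s * (g * s * g⁻¹)) ^ 4 ≠ 1) ∧
    (∀ g ∈ octL ++ [pF * pG, pA * pB, (pA * pB) * (pF * pG)], g * pT = pT * g) ∧
    (∀ s ∈ octL, s ≠ 1 → s ≠ pT → ∀ u ∈ octL, u = 1 ∨ u = pT ∨
      ∃ i : Fin 3, u = (pA * pB) ^ (i : ℕ) * s * ((pA * pB) ^ (i : ℕ))⁻¹ ∨
        u = (pA * pB) ^ (i : ℕ) * s * ((pA * pB) ^ (i : ℕ))⁻¹ * pT) ∧
    (pR * pR = 1 ∧ pR * pT = pT * pR ∧ pT * pR * pT = pR ∧ (pA * pB) * pT = pT * (pA * pB) ∧
      pR.cycleType = pF.cycleType) :=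
  ⟨by decide +kernel, by decide +kernel, by decide +kernel, by decide +kernel, by decide +kernel⟩

set_option synthInstance.maxSize 1000 in
theorem rel_codes :
    (∀ p ∈ relC, (∀ i ∈ p.1, i < 5) ∧ (∀ i ∈ p.2, i < 5) ∧
      Eight.naEv p.1 = ((0, 0, 0), (0, 1, 2, 0)) ∧ Eight.naEv p.2 = ((0, 0, 0), (0, 1, 2, 0))) ∧
    (∀ w ∈ relR, (∀ i ∈ w, i < 5) ∧ Eight.naEv w = ((0, 0, 0), (1, 1, 1, 2))) ∧
    (monEv wAz = (0, 27) ∧ ∀ i ∈ wAz, i < 4) ∧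
    (cm 20 4 = cm 16 20 ∧ cm 4 20 = cm 20 16 ∧ cm (cm 4 25) 4 = 26) ∧
    (det4 (0, 1, 2, 0) = 1 ∧ det4 (1, 1, 1, 2) = 1 ∧ mm4 (mm4 (0, 1, 2, 0) (0, 1, 2, 0)) (mm4 (0, 1, 2, 0) (0, 1, 2, 0)) = (1, 0, 0, 1) ∧
      mm4 (mm4 (1, 1, 1, 2) (1, 1, 1, 2)) (mm4 (1, 1, 1, 2) (1, 1, 1, 2)) = (1, 0, 0, 1)) :=
  ⟨by decide +kernel, by decide +kernel, by decide +kernel, by decide +kernel, by decide +kernel⟩

namespace Eight

variable {G : Type*} [Group G] [Finite G] {h : Hyp G} {K : Coords h} (T : Eight K)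

/-- the centraliser of the third axis normalises `J` -/
def SmallCase (_T : Eight K) : Prop :=
  ∀ x : G, x * K.ψ zV = K.ψ zV * x → x ∈ Subgroup.normalizer (h.J : Set G)

include T in
theorem small_or_model : T.SmallCase ∨ Nonempty (XModel T) := by
  rcases T.axis_cases with hN | ⟨⟨B⟩⟩
  · left
    intro x hx
    have hσ := T.σ_invol act16_x.2.2.1
    have h1 : T.σ 16 * x * T.σ 16 ∈ Subgroup.normalizer (h.J : Set G) := hN _ (by
      have e : K.ψ xV = T.σ 16 * K.ψ zV * T.σ 16 :=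
        ((T.σ_conj act16_x.2.2.1 zV).trans (congrArg K.ψ act16_x.2.1)).symm
      rw [e]
      calc T.σ 16 * x * T.σ 16 * (T.σ 16 * K.ψ zV * T.σ 16)
          = T.σ 16 * (x * (T.σ 16 * T.σ 16) * K.ψ zV) * T.σ 16 := by group
        _ = T.σ 16 * (K.ψ zV * (T.σ 16 * T.σ 16) * x) * T.σ 16 := by rw [hσ, mul_one, mul_one, hx]
        _ = _ := by group)
    have h2 := mul_mem (mul_mem (T.σ_N 16) h1) (T.σ_N 16)
    rwa [show T.σ 16 * (T.σ 16 * x * T.σ 16) * T.σ 16 = (T.σ 16 * T.σ 16) * x * (T.σ 16 * T.σ 16) by group,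
      hσ, one_mul, mul_one] at h2
  · exact Or.inr (T.exists_xModel B)

include T in
theorem μ_M {M : M4} (hd : det4 M = 1) (h4 : mm4 (mm4 M M) (mm4 M M) = (1, 0, 0, 1)) : T.μ M ∈ T.M := by
  have hd0 : det4 M ≠ 0 := by rw [hd]; decide
  obtain ⟨hL, -, -, h3, -⟩ := T.μ_spec hd0
  rw [hd, T.el_a] at h3
  refine T.mem_M.2 ⟨⟨h.mem_C.2 (mul_inv_eq_iff_eq_mul.1 h3), T.L_t hL⟩, ?_⟩
  rw [show T.μ M ^ 4 = T.μ M * T.μ M * (T.μ M * T.μ M) by simp only [pow_succ, pow_zero, one_mul, mul_assoc],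
    ← T.μ_mul hd0 hd0, ← T.μ_mul (det_mm M M hd0 hd0) (det_mm M M hd0 hd0), h4, T.μ_one]

namespace XModel

variable {T} (X : XModel T)

/-- the model of the centraliser of the third axis -/
def gz : S6 × M3 →* G := (MulAut.conj (T.σ 16)).toMonoidHom.comp X.Φ

theorem gz_apply (p : S6 × M3) : X.gz p = T.σ 16 * X.Φ p * T.σ 16 := by
  show T.σ 16 * X.Φ p * (T.σ 16)⁻¹ = _
  rw [inv_eq_of_mul_eq_one_left (T.σ_invol act16_x.2.2.1)]

theorem gz_inj : Function.Injective X.gz := (MulAut.conj (T.σ 16)).injective.comp X.Φ_inj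

theorem gz_t : X.gz (pT, 1) = K.t := by
  rw [X.gz_apply]
  show T.σ 16 * (X.e pT * K.ψ (xPt 0)) * T.σ 16 = K.t
  rw [X.eT, xPt_facts.2.1, K.toBase.ψ_zero, mul_one, ← T.σ_mul, ← T.σ_mul, act16_x.2.2.2.1, T.σ_four]

theorem gz_axis (i : M3) : X.gz (1, i) = K.ψ (act 16 (xPt i.toAdd)) := by
  rw [X.gz_apply]
  show T.σ 16 * (X.e 1 * K.ψ (xPt i.toAdd)) * T.σ 16 = _
  rw [map_one, one_mul, T.σ_conj act16_x.2.2.1]; rfl

theorem gz_z : X.gz (1, Multiplicative.ofAdd 1) = K.ψ zV := by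
  rw [X.gz_axis, toAdd_ofAdd, xPt_facts.2.2.2.2.1, act16_x.1]

theorem gz_comm (p : S6 × M3) : X.gz p * K.ψ zV = K.ψ zV * X.gz p := by
  rw [← X.gz_z, ← map_mul, ← map_mul]
  exact congrArg X.gz (Prod.ext (by simp) (mul_comm _ _))

theorem gz_cover {x : G} (hx : x * K.ψ zV = K.ψ zV * x) : ∃ p, x = X.gz p := by
  have hσ := T.σ_invol act16_x.2.2.1
  have hy : T.σ 16 * x * T.σ 16 ∈ X.Φ.range := X.Φ_range.2 (by
    have e : K.ψ xV = T.σ 16 * K.ψ zV * T.σ 16 :=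
      ((T.σ_conj act16_x.2.2.1 zV).trans (congrArg K.ψ act16_x.2.1)).symm
    rw [e]
    calc T.σ 16 * x * T.σ 16 * (T.σ 16 * K.ψ zV * T.σ 16)
        = T.σ 16 * (x * (T.σ 16 * T.σ 16) * K.ψ zV) * T.σ 16 := by group
      _ = T.σ 16 * (K.ψ zV * (T.σ 16 * T.σ 16) * x) * T.σ 16 := by rw [hσ, mul_one, mul_one, hx]
      _ = _ := by group)
  obtain ⟨p, hp⟩ := hy
  refine ⟨p, ?_⟩
  rw [X.gz_apply, hp]
  calc x = (T.σ 16 * T.σ 16) * x * (T.σ 16 * T.σ 16) := by rw [hσ, one_mul, mul_one]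
    _ = _ := by group

theorem gz_D {p : S6 × M3} : X.gz p ∈ T.D ↔ p.1 * pT = pT * p.1 := by
  rw [T.mem_D, ← X.gz_t, ← map_mul, ← map_mul, X.gz_inj.eq_iff]
  exact ⟨congrArg Prod.fst, fun e => Prod.ext e (by simp)⟩

theorem wR_val : ev (T.gen X.r) wR = X.gz (pR, 1) := by
  obtain ⟨-, -, -, ⟨c1, c2, -⟩, -⟩ := rel_codes
  have h3 : T.gen X.r 3 = T.σ 20 := by
    show K.ψ 0 * T.σ 20 = _
    rw [K.toBase.ψ_zero, one_mul]
  have h2 : T.gen X.r 2 = T.σ 4 := by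
    show K.ψ 0 * T.σ 4 = _
    rw [K.toBase.ψ_zero, one_mul]
  show T.gen X.r 3 * (T.gen X.r 2 * (X.r * (T.gen X.r 2 * (T.gen X.r 3 * 1)))) = _
  rw [h3, h2, mul_one, X.gz_apply]
  show _ = T.σ 16 * (X.e pR * K.ψ (xPt 0)) * T.σ 16
  rw [xPt_facts.2.1, K.toBase.ψ_zero, mul_one, ← mul_assoc, ← T.σ_mul, c1, T.σ_mul]
  calc T.σ 16 * T.σ 20 * (X.r * (T.σ 4 * T.σ 20)) = T.σ 16 * (T.σ 20 * X.r * T.σ 20) * T.σ 16 := by
        rw [← T.σ_mul 4 20, c2, T.σ_mul]; group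
    _ = _ := by
        rw [r, ← X.eT, ← map_mul, ← map_mul, oct_facts.2.2.2.2.2.2.1]

theorem wR_facts : X.gz (pR, 1) ∈ T.D ∧ X.gz (pR, 1) * X.gz (pR, 1) = 1 ∧ Nine (X.gz (pR, 1)) ∧
    IsConj (T.σ 25) (X.gz (pR, 1)) := by
  obtain ⟨r1, r2, -, -, r5⟩ := oct_facts.2.2.2.2
  have hc : IsConj (T.σ 25) (X.gz (pR, 1)) := by
    obtain ⟨g, hg⟩ := isConj_iff.1 (Equiv.Perm.isConj_iff_cycleType_eq.2 r5.symm)
    have h4 := inv_eq_of_mul_eq_one_left (T.σ_invol code_pow.2.2.2.2)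
    have e1 : IsConj (T.σ 25) (T.σ 26) := isConj_iff.2 ⟨T.σ 4, by
      rw [h4, ← T.σ_mul, ← T.σ_mul, rel_codes.2.2.2.1.2.2]⟩
    refine e1.trans (isConj_iff.2 ⟨T.σ 16 * X.e g, ?_⟩)
    rw [X.gz_apply]
    show _ = T.σ 16 * (X.e pR * K.ψ (xPt 0)) * T.σ 16
    rw [xPt_facts.2.1, K.toBase.ψ_zero, mul_one, ← hg, map_mul, map_mul, map_inv, X.eF, mul_inv_rev,
      inv_eq_of_mul_eq_one_left (T.σ_invol act16_x.2.2.1)]
    group
  obtain ⟨g, hg⟩ := isConj_iff.1 hc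
  exact ⟨X.gz_D.2 r2, by rw [← map_mul, Prod.mk_mul_mk, r1, mul_one, Prod.mk_one_one, map_one],
    hg ▸ T.nine_25.conj g, hc⟩

end XModel

namespace Kers

variable {T} (k : Kers T)

theorem C_z_small (hs : T.SmallCase) {x : G} (hx : x ∈ k.O) (hxz : x * K.ψ zV = K.ψ zV * x) : x = 1 ∨ x = K.t :=
  k.O_NJ hx (hs x hxz)

include k in
theorem rel_s (hs : T.SmallCase) (r : G) : RelS relJ relA relC (T.gen r) := by
  refine ⟨T.rel_sq r, T.rel_mon r, T.rel_na r, ?_, T.rel_ne r⟩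
  intro p hp
  obtain ⟨h1, h2, e1, e2⟩ := rel_codes.1 p hp
  obtain ⟨eaz, haz⟩ := rel_codes.2.2.1
  obtain ⟨hd, -, h4, -⟩ := rel_codes.2.2.2.2
  have hm : T.μ (0, 1, 2, 0) ∈ T.M := T.μ_M hd h4
  have hA : ∀ w : List ℕ, (∀ i ∈ w, i < 5) → naEv w = ((0, 0, 0), (0, 1, 2, 0)) →
      ev (T.gen r) (flat alphaA w) = T.μ (0, 1, 2, 0) := fun w hw e => by
    rw [T.ev_alpha r w hw, e]
    show T.el (0, 0, 0) * T.μ _ = _
    rw [T.el_zero, one_mul]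
  have hz : ev (T.gen r) wAz = T.σ 27 := by
    rw [T.ev_mon _ (T.gen_mon r) wAz haz, eaz]
    show K.ψ 0 * T.σ 27 = _
    rw [K.toBase.ψ_zero, one_mul]
  rw [hA _ h1 e1, hA _ h2 e2, hz]
  set m := T.μ (0, 1, 2, 0)
  have hpO : T.σ 27 * m * T.σ 27 ∈ k.O := by
    have := k.conj_O T.σ27_D (k.M_O hm)
    rwa [T.σ27_inv] at this
  have hpw : T.σ 27 * m * T.σ 27 * K.ψ (act 27 aV) = K.ψ (act 27 aV) * (T.σ 27 * m * T.σ 27) := by
    have e : K.ψ (act 27 aV) = T.σ 27 * h.a * (T.σ 27)⁻¹ := by rw [← K.ψ_a, T.σ_act]; rfl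
    have e' : T.σ 27 * m * T.σ 27 = T.σ 27 * m * (T.σ 27)⁻¹ := by rw [T.σ27_inv]
    rw [e, e', conj_mul, conj_mul, h.mem_C.1 (T.M_C hm)]
  refine k.comm_exact hm (Or.inl rfl) (fun q hq _ => ?_) hpO hpw
  rcases k.central_cases with hc | ⟨x, hc, x1, xt, hxz⟩
  · exact (hc m hm).2 q hq
  · exact ((k.C_z_small hs hc.1 hxz).elim x1 xt).elim

theorem wR_mem (X : XModel T) : X.gz (pR, 1) ∈ k.O := by
  obtain ⟨hD, hsq, h9, hc⟩ := X.wR_facts
  refine k.mem_O.2 ⟨hD, k.invol₁ _ hsq h9 fun ht => T.not_conj_t (hc.trans ht.symm), k.invol₂ _ hsq h9 ?_⟩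
  intro d hd e
  set w := d * K.ψ zV * d⁻¹
  have hwD : w ∈ T.D := mul_mem (mul_mem hd (T.ψ_D fixed_types.2.2.1.2.1)) (inv_mem hd)
  have hw3 : w ^ 3 = 1 := by rw [conj_pow, h.J_exp _ (K.ψ_mem _), mul_one, mul_inv_cancel]
  obtain ⟨y, hy, hyw⟩ := T.cent_27 hwD (by rw [← e, conj_mul, conj_mul, X.gz_comm]) hw3
  obtain ⟨i, hi⟩ : ∃ i : ℕ, K.ψ fV ^ i = y * w * y⁻¹ := mem_powers_iff_mem_zpowers.2 hyw
  rw [← K.toBase.ψ_nsmul] at hi
  have hu : act 4 (i • fV) = i • fV := by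
    refine (Two.comm_iff (K := K) (i • fV)).1 ?_
    rw [K.toBase.ψ_nsmul]
    exact ((show Commute (K.ψ fV) K.t from (Two.comm_iff (K := K) fV).2 fixed_types.2.2.1.1).pow_left i).eq
  have e' : y * d * K.ψ zV * (y * d)⁻¹ = K.ψ (i • fV) := by rw [hi]; simp only [w]; group
  obtain ⟨n1, n2⟩ := (show ∀ n : Fin 3, (n : ℕ) • fV ≠ zV ∧ (n : ℕ) • fV ≠ -zV by decide +kernel)
    ⟨i % 3, Nat.mod_lt _ (by norm_num)⟩
  have hn : i • fV = (i % 3) • fV := by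
    conv_lhs => rw [← Nat.mod_add_div i 3, add_smul, mul_smul, (line_facts.2.2.2.1 ((i / 3) • fV)).2, add_zero]
  rcases T.fixed_fusion hu (Or.inl rfl) e' with r | r <;> rw [hn] at r
  exacts [n1 r, n2 r]

/-- the part of `O` centralising the third axis, in the model -/
theorem O_z (X : XModel T) {p : G} (hp : p ∈ k.O) (hpz : p * K.ψ zV = K.ψ zV * p) :
    ∃ s ∈ octL, p = X.gz (s, 1) := by
  obtain ⟨⟨s, i⟩, rfl⟩ := X.gz_cover hpz
  have hs := X.gz_D.1 (k.O_le hp)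
  obtain ⟨h12, hoct, hg, -, -⟩ := oct_facts
  have key : ∀ q : S6, q * pT = pT * q → X.gz (q, i) ∈ k.O → q ^ 4 = 1 ∧ i = 1 := by
    intro q hq hqO
    have h4 : X.gz (q ^ 4, i) ∈ k.O := by
      have := pow_mem hqO 4
      rwa [← map_pow, show (q, i) ^ 4 = (q ^ 4, i) from Prod.ext rfl (six_sections.2.2.2.2.1 i).1] at this
    have h1 : X.gz (q ^ 4, i) = 1 := k.O_no_three h4 (by
      rw [← map_pow, show (q ^ 4, i) ^ 3 = 1 from
        Prod.ext (by show (q ^ 4) ^ 3 = 1; rw [← pow_mul, h12 q hq]) (m3_cube i), map_one])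
    have h2 := X.gz_inj (h1.trans (map_one _).symm)
    exact ⟨congrArg Prod.fst h2, congrArg Prod.snd h2⟩
  obtain ⟨hs4, rfl⟩ := key s hs hp
  refine ⟨s, (hoct s hs hs4).resolve_right ?_, rfl⟩
  rintro ⟨g, hgm, hne⟩
  have hgT := hg g hgm
  refine hne (key (s * (g * s * g⁻¹)) ?_ ?_).1
  · exact ((show Commute s pT from hs).mul_left (((show Commute g pT from hgT).mul_left (show Commute s pT from hs)).mul_left
      (show Commute g pT from hgT).inv_left)).eq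
  · have := mul_mem hp (k.conj_O (X.gz_D.2 (show (g, (1 : M3)).1 * pT = pT * g from hgT)) hp)
    rwa [← map_inv, ← map_mul, ← map_mul, ← map_mul,
      show (s, (1 : M3)) * ((g, 1) * (s, 1) * (g, 1)⁻¹) = (s * (g * s * g⁻¹), 1) from
        Prod.ext rfl (by simp)] at this

include k in
theorem rel_f (X : XModel T) : RelF relJ relA relX relR (T.gen X.r) := by
  refine ⟨fun i hi => ?_, T.rel_mon _, T.rel_na _, X.rel_x, ?_, T.rel_ne _⟩
  · rcases Nat.lt_succ_iff_lt_or_eq.1 hi with r | r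
    · exact T.rel_sq _ i r
    · subst r; exact X.r_sq
  intro u hu
  obtain ⟨hlt, e⟩ := rel_codes.2.1 u hu
  obtain ⟨-, hd, -, h4⟩ := rel_codes.2.2.2.2
  set m := T.μ (1, 1, 1, 2)
  have hm : m ∈ T.M := T.μ_M hd h4
  have hev : ev (T.gen X.r) (flat alphaA u) = m := by
    rw [T.ev_alpha _ u hlt, e]
    show T.el (0, 0, 0) * T.μ _ = _
    rw [T.el_zero, one_mul]
  rw [X.wR_val, hev]
  refine (k.comm_exact hm (Or.inr rfl) (fun q hq hqz => ?_) (k.wR_mem X) (X.gz_comm _)).symm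
  rcases k.central_cases with hc | ⟨x, hc, x1, xt, hxz⟩
  · exact (hc m hm).2 q hq
  have hq' : k.Central q := by
    obtain ⟨s, hs, rfl⟩ := k.O_z X hc.1 hxz
    obtain ⟨v, hv, rfl⟩ := k.O_z X hq hqz
    have hs1 : s ≠ 1 := fun r => x1 (by rw [r]; exact map_one _)
    have hst : s ≠ pT := fun r => xt (by rw [r, X.gz_t])
    have hbD : ∀ i : ℕ, X.gz ((pA * pB) ^ i, 1) ∈ T.D := fun i =>
      X.gz_D.2 ((show Commute (pA * pB) pT from oct_facts.2.2.2.2.2.2.2.1).pow_left i).eq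
    have hcc : ∀ i : ℕ, k.Central (X.gz ((pA * pB) ^ i * s * ((pA * pB) ^ i)⁻¹, 1)) := fun i => by
      have := Central.conj k hc (hbD i)
      rwa [← map_inv, ← map_mul, ← map_mul,
        show ((pA * pB) ^ i, (1 : M3)) * (s, 1) * ((pA * pB) ^ i, 1)⁻¹ = ((pA * pB) ^ i * s * ((pA * pB) ^ i)⁻¹, 1)
          from Prod.ext rfl (by simp)] at this
    rcases oct_facts.2.2.2.1 s hs hs1 hst v hv with r | r | ⟨i, r | r⟩ <;> rw [r]
    · rw [show ((1 : S6), (1 : M3)) = 1 from rfl, map_one]; exact k.central_one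
    · rw [X.gz_t]; exact k.central_t
    · exact hcc i
    · have := Central.mul_t k (hcc i)
      rwa [← X.gz_t, ← map_mul, Prod.mk_mul_mk, mul_one] at this
  rcases hq'.2 m (k.M_O hm) with r | r
  · exact Or.inl r.symm
  · right
    rw [r, mul_assoc (m * q), K.t_sq, mul_one]

end Kers

end Eight

end Cfsg.Agent.Recog.ThreeCentSp
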