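import Cfsg.Agent.Lib.Recog.ThreeCentSp.EightNine

/-!
The two kernels in `C(t)`: one avoiding `a` and `(1, 1, 0)`, the other avoiding `a` and the third axis.
-/

set_option autoImplicit false
set_option linter.unusedSectionVars false
set_option linter.style.haveILetI false
set_option maxRecDepth 20000

namespace Cfsg.Agent.Recog.ThreeCentSp

open Cfsg.Agent.Invol.PSp43Am (V3 act act_add aV xV yV zV fV gV mem_normalizer_of_conj_mem)
open SymNine (S6 pA pB pF pG pT pR)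

/-- the codes of the fixers of the third axis commuting with the swap -/
def ksZt : List (Fin 48) := [0, 3, 4, 7]

/-- the codes carrying `a` to its conjugates in `C(t)` -/
def ksA : List (Fin 48) := [0, 24, 27, 3]

/-- the coefficient of `(1, 1, 0)` on the fixed points of the swap -/
def cB (u : V3) : ZMod 3 := u.1

/-- the coefficient of the third axis -/
def cZ (u : V3) : ZMod 3 := u.2.2

/-- the conditions on a coefficient with codes -/
abbrev CoefFacts (v : V3) (ks : List (Fin 48)) (c : V3 → ZMod 3) : Prop :=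
  ((∀ k : Fin 48, act (k : ℕ) v = v → cm k 4 = cm 4 k → k ∈ ks) ∧
    (∀ k ∈ ks, act (k : ℕ) v = v ∧ cm k k = 0 ∧ cm k 4 = cm 4 k) ∧ (0 ∈ ks ∧ 4 ∈ ks)) ∧
  ((∀ u w : V3, c (u + w) = c u + c w) ∧ c 0 = 0 ∧ c v ≠ 0 ∧ (∀ u : V3, c (-u) = -c u)) ∧
  (∀ k ∈ ks, ∀ u : V3, act 4 u = u → c (act (k : ℕ) u) = c u) ∧
  (∀ k ∈ ks, ∀ u : V3, act 4 u = u → c u ≠ 0 →
    (u + act (k : ℕ) u) + (u + act (k : ℕ) u) = v ∨ (u + act (k : ℕ) u) + (u + act (k : ℕ) u) = -v ∨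
      ((k = 0 ∨ k = 4) ∧ ∃ d ∈ ksA, u = act (d : ℕ) aV)) ∧
  (∀ d ∈ ksA, act 4 (act (d : ℕ) aV) = act (d : ℕ) aV ∧ c (act (d : ℕ) aV) ≠ 0) ∧
  Fintype.card {u : V3 // ∃ d ∈ ksA, u = act (d : ℕ) aV} = 4 ∧
  Fintype.card {u : V3 // act 4 u = u} * Fintype.card {k : Fin 48 // k ∈ ks} = 36

set_option synthInstance.maxSize 1000 in
theorem coef_b : CoefFacts fV ksB cB :=
  ⟨⟨by decide +kernel, by decide +kernel, by decide +kernel⟩,
    ⟨by decide +kernel, by decide +kernel, by decide +kernel, by decide +kernel⟩,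
    by decide +kernel, by decide +kernel, by decide +kernel, by decide +kernel, by decide +kernel⟩

set_option synthInstance.maxSize 1000 in
theorem coef_z : CoefFacts zV ksZt cZ :=
  ⟨⟨by decide +kernel, by decide +kernel, by decide +kernel⟩,
    ⟨by decide +kernel, by decide +kernel, by decide +kernel, by decide +kernel⟩,
    by decide +kernel, by decide +kernel, by decide +kernel, by decide +kernel, by decide +kernel⟩

theorem code_twenty_four : ∀ k : Fin 48, cm (cm 24 k) 24 = k := by decide +kernel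

theorem act_four_neg : ∀ u : V3, act 4 u = u → act 4 (-u) = -u := by decide +kernel

theorem codeA_t : ∀ d ∈ ksA, cm d 4 = cm 4 d := by decide +kernel

/-- the element of order three moved by nothing in the centraliser of the exchange -/
def pAB : S6 := pA * pB

set_option synthInstance.maxSize 1000 in
theorem six_sections :
    (∀ s : S6, s * pT = pT * s → s ^ 24 = 1) ∧
    (∀ s : S6, s * pT = pT * s → s ^ 4 = 1 ∨ ∃ g : S6, g * pT = pT * g ∧
      (s = g * pAB * g⁻¹ ∨ s = g * pAB * g⁻¹ * pT)) ∧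
    Fintype.card {p : S6 × M3 // p.1 * pT = pT * p.1} = 144 ∧
    Fintype.card {p : S6 × M3 // p.1 * pT = pT * p.1 ∧ p.1 ≠ 1 ∧ p.1 * p.1 * p.1 = 1 ∧ p.2 ≠ 1} = 16 ∧
    (∀ i : M3, i ^ 4 = i ∧ i ^ 24 = 1) ∧
    (∀ i : M3, i ≠ 1 → act 16 (yV + zV + xPt i.toAdd) = aV ∨ act 16 (yV + zV + xPt i.toAdd) = act 27 aV) ∧
    (∀ i : M3, i ≠ 1 → act 16 (xPt i.toAdd) = zV ∨ act 16 (xPt i.toAdd) = -zV) :=
  ⟨by decide +kernel, by decide +kernel, by decide +kernel, by decide +kernel, by decide +kernel,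
    by decide +kernel, by decide +kernel⟩

theorem act16_x : act 16 xV = zV ∧ act 16 zV = xV ∧ cm 16 16 = 0 ∧ cm (cm 16 20) 16 = 4 ∧
    cm (cm 25 26) 27 = 24 ∧ cm (cm 16 24) 16 = 24 := by decide +kernel

namespace Eight

variable {G : Type*} [Group G] [Finite G] {h : Hyp G} {K : Coords h} (T : Eight K)

/-- the requirements for the kernel theorem -/
def HasSection (v : V3) : Prop :=
  ∃ (PW : Subgroup T.D) (s : PW →* M3),
    (∀ x : T.D, x ∈ PW ↔ (x : G) * K.ψ v = K.ψ v * x) ∧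
    (∀ hh : (⟨K.t, T.t_D⟩ : T.D) ∈ PW, s ⟨_, hh⟩ = 1) ∧
    (∀ x : PW, ((x : T.D) : G) = K.ψ v → s x ≠ 1) ∧
    (∀ x y : PW, ((y : T.D) : G) = T.σ 24 * ((x : T.D) : G) * T.σ 24 → s y = (s x)⁻¹) ∧
    (∀ x : PW, s x ≠ 1 → ((x : T.D) : G) ^ 24 = 1 ∧
      ((∃ u, (u = v ∨ u = -v) ∧ (((x : T.D) : G) ^ 4 = K.ψ u ∨ ((x : T.D) : G) ^ 4 = K.ψ u * K.t)) ∨
        ∃ d ∈ T.D, ((x : T.D) : G) = d * h.a * d⁻¹ ∨ ((x : T.D) : G) = d * h.a * d⁻¹ * K.t)) ∧
    Nat.card {x : PW // s x ≠ 1 ∧ ∃ d ∈ T.D, ((x : T.D) : G) = d * h.a * d⁻¹} * 72 = 8 * Nat.card PW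

include T in
theorem σ_D {k : Fin 48} (hk : cm k 4 = cm 4 k) : T.σ k ∈ T.D :=
  T.mem_D.2 (by rw [← T.σ_four, ← T.σ_mul, ← T.σ_mul, hk])

include T in
theorem code_D {u : V3} {k : Fin 48} (hx : K.ψ u * T.σ k ∈ T.D) : act 4 u = u ∧ cm k 4 = cm 4 k := by
  have h1 := T.mem_D.1 hx
  rw [← T.σ_four] at h1
  have e : T.φ (monMul (u, k) (0, 4)) = T.φ (monMul (0, 4) (u, k)) := by
    rw [T.φ_mul, T.φ_mul]
    show K.ψ u * T.σ k * (K.ψ 0 * T.σ 4) = K.ψ 0 * T.σ 4 * (K.ψ u * T.σ k)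
    rw [K.toBase.ψ_zero, one_mul, h1]
  have e' := T.φ_inj e
  refine ⟨?_, congrArg Prod.snd e'⟩
  have := congrArg Prod.fst e'
  simp only [monMul] at this
  rw [(show ∀ k : Fin 48, act (k : ℕ) (0 : V3) = 0 from Invol.PSp43Am.act_neg_zero) k] at this
  simp only [add_zero, zero_add] at this
  exact this.symm

include T in
/-- The section when the centraliser normalises `J`. -/
theorem section_code {v : V3} {ks : List (Fin 48)} {c : V3 → ZMod 3} (hf : CoefFacts v ks c)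
    (hv : v = zV ∨ v = fV) (hv4 : act 4 v = v)
    (hcent : ∀ x : G, x * K.ψ v = K.ψ v * x → x ∈ Subgroup.normalizer (h.J : Set G)) :
    T.HasSection v := by
  classical
  obtain ⟨⟨hfix, hks, hk0, hk4⟩, ⟨hadd, hc0, hcv, hneg⟩, hinvc, hsq, hA, hA4, hcard⟩ := hf
  let PW : Subgroup T.D := (Subgroup.centralizer ({K.ψ v} : Set G)).subgroupOf T.D
  have hPW : ∀ x : T.D, x ∈ PW ↔ (x : G) * K.ψ v = K.ψ v * x := fun x => Subgroup.mem_centralizer_singleton_iff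
  have hdec : ∀ x : PW, ∃ u, ∃ k ∈ ks, ((x : T.D) : G) = K.ψ u * T.σ k ∧ act 4 u = u := fun x => by
    obtain ⟨u, k, e, -⟩ := T.decomp (hcent _ ((hPW _).1 x.2))
    obtain ⟨hu, hk⟩ := T.code_D (u := u) (k := k) (e ▸ (x : T.D).2)
    exact ⟨u, k, hfix k (T.code_of_comm (u := u) (e ▸ (hPW _).1 x.2)) hk, e, hu⟩
  choose U C hC hx hU using hdec
  have huniq : ∀ {u w : V3} {j k : Fin 48}, K.ψ u * T.σ j = K.ψ w * T.σ k → u = w ∧ j = k := fun {u w j k} e => by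
    have := T.φ_inj (p := (u, j)) (q := (w, k)) e
    exact ⟨congrArg Prod.fst this, congrArg Prod.snd this⟩
  let s : PW →* M3 := MonoidHom.mk' (fun x => Multiplicative.ofAdd (c (U x))) fun x y => by
    have e : K.ψ (U (x * y)) * T.σ (C (x * y)) = T.φ (monMul (U x, C x) (U y, C y)) := by
      rw [T.φ_mul, ← hx]
      show ((x : T.D) : G) * (y : T.D) = K.ψ (U x) * T.σ (C x) * (K.ψ (U y) * T.σ (C y))
      rw [← hx, ← hx]
    rw [(huniq (u := U (x * y)) e).1]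
    show Multiplicative.ofAdd (c (U x + act (C x : ℕ) (U y))) = _
    rw [hadd, hinvc _ (hC x) _ (hU y), ofAdd_add]
  have hs : ∀ x : PW, ∀ {u : V3} {k : Fin 48}, ((x : T.D) : G) = K.ψ u * T.σ k →
      s x = Multiplicative.ofAdd (c u) := fun x {u k} e => by
    show Multiplicative.ofAdd (c (U x)) = _
    rw [(huniq ((hx x).symm.trans e)).1]
  have hne : ∀ x : PW, s x ≠ 1 ↔ c (U x) ≠ 0 := fun x => by
    show Multiplicative.ofAdd (c (U x)) ≠ 1 ↔ _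
    rw [Ne, ofAdd_eq_one]
  have hda : ∀ d ∈ ksA, ∃ g ∈ T.D, K.ψ (act (d : ℕ) aV) = g * h.a * g⁻¹ := fun d hd =>
    ⟨T.σ d, T.σ_D (codeA_t d hd), by rw [← K.ψ_a, T.σ_act]⟩
  refine ⟨PW, s, hPW, fun hh => ?_, fun x e => ?_, fun x y e => ?_, fun x hxs => ?_, ?_⟩
  · rw [hs ⟨_, hh⟩ (u := 0) (k := 4) (by rw [K.toBase.ψ_zero, one_mul, T.σ_four]), hc0]; rfl
  · rw [hs x (u := v) (k := 0) (by rw [e, T.σ_zero, mul_one]), Ne, ofAdd_eq_one]; exact hcv
  · have h24 : T.σ 24 * (K.ψ (U x) * T.σ (C x)) * T.σ 24 = K.ψ (-U x) * T.σ (C x) := by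
      conv_rhs => rw [← T.w_act (U x), T.w_inv, ← code_twenty_four (C x), T.σ_mul, T.σ_mul]
      calc T.σ 24 * (K.ψ (U x) * T.σ (C x)) * T.σ 24
          = T.σ 24 * K.ψ (U x) * (T.σ 24 * T.σ 24) * T.σ (C x) * T.σ 24 := by rw [T.w_sq]; group
        _ = _ := by group
    rw [hs y (u := -U x) (k := C x) (by rw [e, hx x, h24]), hneg, hs x (hx x), ofAdd_neg]
  · obtain ⟨-, hk2, -⟩ := hks _ (hC x)
    have h2 : ((x : T.D) : G) ^ 2 = K.ψ (U x + act (C x : ℕ) (U x)) := by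
      rw [hx, pow_two, K.ψ_add, ← T.σ_conj hk2]; group
    have h4 : ((x : T.D) : G) ^ 4 =
        K.ψ ((U x + act (C x : ℕ) (U x)) + (U x + act (C x : ℕ) (U x))) := by
      rw [show 4 = 2 + 2 from rfl, pow_add, h2, ← K.ψ_add]
    refine ⟨?_, ?_⟩
    · rw [show 24 = 2 * 3 * 4 from rfl, pow_mul, pow_mul, h2, h.J_exp _ (K.ψ_mem _), one_pow]
    rcases hsq _ (hC x) _ (hU x) ((hne x).1 hxs) with r | r | ⟨hk, d, hd, r⟩
    · exact Or.inl ⟨v, Or.inl rfl, Or.inl (by rw [h4, r])⟩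
    · exact Or.inl ⟨-v, Or.inr rfl, Or.inl (by rw [h4, r])⟩
    · right
      obtain ⟨g, hg, eg⟩ := hda d hd
      refine ⟨g, hg, ?_⟩
      rcases hk with k0 | k0
      · left; rw [hx, k0, T.σ_zero, mul_one, r, eg]
      · right; rw [hx, k0, T.σ_four, r, eg]
  · -- the count
    have hmem : ∀ (u : V3) (k : Fin 48), k ∈ ks → act 4 u = u → K.ψ u * T.σ k ∈ T.D := fun u k hk hu =>
      mul_mem (T.ψ_D hu) (T.σ_D (hks k hk).2.2)
    have hmemP : ∀ (u : V3) (k : Fin 48) (hk : k ∈ ks) (hu : act 4 u = u),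
        (⟨_, hmem u k hk hu⟩ : T.D) ∈ PW := fun u k hk hu => (hPW _).2
      (((show Commute (K.ψ u) (K.ψ v) from K.toBase.ψ_comm u v)).mul_left ((T.comm_iff k v).2 (hks k hk).1)).eq
    have hP : Nat.card PW = 36 := by
      let F : {u : V3 // act 4 u = u} × {k : Fin 48 // k ∈ ks} → PW := fun q =>
        ⟨⟨_, hmem q.1.1 q.2.1 q.2.2 q.1.2⟩, hmemP q.1.1 q.2.1 q.2.2 q.1.2⟩
      have hF : Function.Bijective F := by
        refine ⟨fun p q e => ?_, fun x => ⟨(⟨U x, hU x⟩, ⟨C x, hC x⟩), Subtype.ext (Subtype.ext (hx x).symm)⟩⟩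
        obtain ⟨e1, e2⟩ := huniq (congrArg (fun z : PW => ((z : T.D) : G)) e)
        exact Prod.ext (Subtype.ext e1) (Subtype.ext e2)
      rw [← Nat.card_eq_of_bijective F hF, Nat.card_prod, Nat.card_eq_fintype_card, Nat.card_eq_fintype_card,
        hcard]
    have hN : Nat.card {x : PW // s x ≠ 1 ∧ ∃ d ∈ T.D, ((x : T.D) : G) = d * h.a * d⁻¹} = 4 := by
      rw [← hA4, ← Nat.card_eq_fintype_card (α := {u : V3 // ∃ d ∈ ksA, u = act (d : ℕ) aV})]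
      symm
      have hA' : ∀ {u : V3}, (∃ d ∈ ksA, u = act (d : ℕ) aV) → act 4 u = u ∧ c u ≠ 0 := by
        rintro u ⟨d, hd, rfl⟩; exact hA d hd
      let F : {u : V3 // ∃ d ∈ ksA, u = act (d : ℕ) aV} →
          {x : PW // s x ≠ 1 ∧ ∃ d ∈ T.D, ((x : T.D) : G) = d * h.a * d⁻¹} := fun u =>
        ⟨⟨⟨_, hmem u.1 0 hk0 (hA' u.2).1⟩, hmemP u.1 0 hk0 (hA' u.2).1⟩, by
          rw [hs _ (u := u.1) (k := 0) rfl, Ne, ofAdd_eq_one]; exact (hA' u.2).2, by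
          obtain ⟨d, hd, r⟩ := u.2
          obtain ⟨g, hg, eg⟩ := hda d hd
          exact ⟨g, hg, by show K.ψ u.1 * T.σ 0 = _; rw [T.σ_zero, mul_one, r, eg]⟩⟩
      refine Nat.card_eq_of_bijective F ⟨fun p q e => ?_, ?_⟩
      · exact Subtype.ext (huniq (congrArg (fun z : {x : PW // _} => (((z : PW) : T.D) : G)) e)).1
      rintro ⟨x, hxs, g, hg, e⟩
      have h3 : ((x : T.D) : G) ^ 3 = 1 := by rw [e, conj_pow, h.a_cube, mul_one, mul_inv_cancel]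
      obtain ⟨-, hk2, -⟩ := hks _ (hC x)
      have h2 : ((x : T.D) : G) ^ 2 = K.ψ (U x + act (C x : ℕ) (U x)) := by
        rw [hx, pow_two, K.ψ_add, ← T.σ_conj hk2]; group
      have hxJ : K.ψ (U x) * T.σ (C x) = K.ψ (-(U x + act (C x : ℕ) (U x))) * T.σ 0 := by
        rw [← hx, T.σ_zero, mul_one, K.toBase.ψ_neg, ← h2]
        exact eq_inv_of_mul_eq_one_right (by rw [← pow_succ, h3])
      obtain ⟨-, hk⟩ := huniq hxJ
      have hx0 : ((x : T.D) : G) = K.ψ (U x) := by rw [hx, hk, T.σ_zero, mul_one]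
      rcases hsq _ (hC x) _ (hU x) ((hne x).1 hxs) with r | r | ⟨-, d, hd, r⟩
      rotate_left 2
      · exact ⟨⟨U x, d, hd, r⟩, Subtype.ext (Subtype.ext (Subtype.ext (by
          show K.ψ (U x) * T.σ 0 = _; rw [T.σ_zero, mul_one, hx0])))⟩
      all_goals
        exfalso
        rw [hk, show act ((0 : Fin 48) : ℕ) (U x) = U x from (code_pow.1 0 _).1,
          (show ∀ u : V3, u + u + (u + u) = u by decide +kernel) (U x)] at r
        rw [hx0, r] at e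
      · have e' : g⁻¹ * K.ψ v * g⁻¹⁻¹ = K.ψ aV := by rw [e, K.ψ_a]; group
        obtain ⟨-, -, -, -, -, n5, n6, n7, n8⟩ := neg_fixed
        rcases T.fixed_fusion fixed_types.2.2.1.2.2 hv e' with q | q <;> rcases hv with rfl | rfl <;>
          first | exact n5 q | exact n6 q | exact n7 q | exact n8 q
      · have e' : g⁻¹ * K.ψ v * g⁻¹⁻¹ = K.ψ (-aV) := by
          rw [K.toBase.ψ_neg, K.ψ_a, ← neg_neg v, K.toBase.ψ_neg, e]; group
        obtain ⟨-, n1, n2, n3, n4, -, -, -, -⟩ := neg_fixed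
        rcases T.fixed_fusion neg_fixed.1.2.2.1 hv e' with q | q <;> rcases hv with rfl | rfl <;>
          first | exact n1 q | exact n2 q | exact n3 q | exact n4 q
    rw [hP, hN]

include T in
/-- The section at the third axis in the larger case. -/
theorem section_big (X : XModel T) : T.HasSection zV := by
  classical
  obtain ⟨a16, b16, c16, d16, -, -⟩ := act16_x
  obtain ⟨h24, hcls, hc144, hc16, hM4, hva, hvz⟩ := six_sections
  have hσ := T.σ_invol c16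
  have h16 : (T.σ 16)⁻¹ = T.σ 16 := inv_eq_of_mul_eq_one_left hσ
  let g : S6 × M3 →* G := (MulAut.conj (T.σ 16)).toMonoidHom.comp X.Φ
  have hg : ∀ p, g p = T.σ 16 * X.Φ p * T.σ 16 := fun p => by
    show T.σ 16 * X.Φ p * (T.σ 16)⁻¹ = _; rw [h16]
  have hginj : Function.Injective g := (MulAut.conj (T.σ 16)).injective.comp X.Φ_inj
  have hgT : g (pT, 1) = K.t := by
    rw [hg]
    show T.σ 16 * (X.e pT * K.ψ (xPt 0)) * T.σ 16 = K.t
    rw [X.eT, xPt_facts.2.1, K.toBase.ψ_zero, mul_one, ← T.σ_mul, ← T.σ_mul, d16, T.σ_four]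
  have hgψ : ∀ i : M3, g (1, i) = K.ψ (act 16 (xPt i.toAdd)) := fun i => by
    rw [hg]
    show T.σ 16 * (X.e 1 * K.ψ (xPt i.toAdd)) * T.σ 16 = _
    rw [map_one, one_mul, T.σ_conj c16]; rfl
  have hgz : g (1, Multiplicative.ofAdd 1) = K.ψ zV := by
    rw [hgψ, toAdd_ofAdd, xPt_facts.2.2.2.2.1, a16]
  let Q : Subgroup (S6 × M3) := Subgroup.centralizer {(pT, (1 : M3))}
  have hQ : ∀ p : S6 × M3, p ∈ Q ↔ p.1 * pT = pT * p.1 := fun p => by
    rw [Subgroup.mem_centralizer_singleton_iff]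
    exact ⟨congrArg Prod.fst, fun e => Prod.ext e (by simp)⟩
  have hgD : ∀ p ∈ Q, g p ∈ T.D := fun p hp => T.mem_D.2 (by
    rw [← hgT, ← map_mul, ← map_mul, Subgroup.mem_centralizer_singleton_iff.1 hp])
  have hgzc : ∀ p, g p * K.ψ zV = K.ψ zV * g p := fun p => by
    rw [← hgz, ← map_mul, ← map_mul]
    exact congrArg g (Prod.ext (by simp) (mul_comm _ _))
  let PW : Subgroup T.D := (Subgroup.centralizer ({K.ψ zV} : Set G)).subgroupOf T.D
  have hPW : ∀ x : T.D, x ∈ PW ↔ (x : G) * K.ψ zV = K.ψ zV * x := fun x => Subgroup.mem_centralizer_singleton_iff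
  let F : Q →* PW := MonoidHom.codRestrict (MonoidHom.codRestrict (g.comp Q.subtype) T.D fun p => hgD p p.2) PW
    fun p => (hPW _).2 (hgzc p)
  have hF : Function.Bijective F := by
    refine ⟨fun p q e => Subtype.ext (hginj (congrArg (fun z : PW => ((z : T.D) : G)) e)), fun x => ?_⟩
    have hy : T.σ 16 * ((x : T.D) : G) * T.σ 16 ∈ X.Φ.range := X.Φ_range.2 (by
      have e : K.ψ xV = T.σ 16 * K.ψ zV * T.σ 16 := (T.σ_conj c16 zV).trans (congrArg K.ψ b16) |>.symm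
      rw [e]
      calc T.σ 16 * ((x : T.D) : G) * T.σ 16 * (T.σ 16 * K.ψ zV * T.σ 16)
          = T.σ 16 * (((x : T.D) : G) * (T.σ 16 * T.σ 16) * K.ψ zV) * T.σ 16 := by group
        _ = T.σ 16 * (K.ψ zV * (T.σ 16 * T.σ 16) * ((x : T.D) : G)) * T.σ 16 := by
            rw [hσ, mul_one, mul_one, (hPW _).1 x.2]
        _ = _ := by group)
    obtain ⟨p, hp⟩ := hy
    have hgp : g p = ((x : T.D) : G) := by
      rw [hg, hp]
      calc T.σ 16 * (T.σ 16 * ((x : T.D) : G) * T.σ 16) * T.σ 16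
          = (T.σ 16 * T.σ 16) * ((x : T.D) : G) * (T.σ 16 * T.σ 16) := by group
        _ = _ := by rw [hσ, one_mul, mul_one]
    have hpQ : p ∈ Q := Subgroup.mem_centralizer_singleton_iff.2 (hginj (by
      rw [map_mul, map_mul, hgp, hgT]; exact T.mem_D.1 (x : T.D).2))
    exact ⟨⟨p, hpQ⟩, Subtype.ext (Subtype.ext hgp)⟩
  let E := MulEquiv.ofBijective F hF
  let s : PW →* M3 := ((MonoidHom.snd S6 M3).comp Q.subtype).comp E.symm.toMonoidHom
  have hs : ∀ x : PW, ∀ p : S6 × M3, ((x : T.D) : G) = g p → s x = p.2 := fun x p e => by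
    have h1 : g ((E.symm x : Q) : S6 × M3) = ((x : T.D) : G) :=
      congrArg (fun z : PW => ((z : T.D) : G)) (E.apply_symm_apply x)
    show ((E.symm x : Q) : S6 × M3).2 = p.2
    rw [hginj (h1.trans e)]
  have hex : ∀ x : PW, ∃ p : S6 × M3, p ∈ Q ∧ ((x : T.D) : G) = g p := fun x =>
    ⟨_, (E.symm x).2, (congrArg (fun z : PW => ((z : T.D) : G)) (E.apply_symm_apply x)).symm⟩
  have ha : ∀ i : M3, i ≠ 1 → ∃ d ∈ T.D, g (pAB, i) = d * h.a * d⁻¹ := fun i hi => by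
    have e : g (pAB, i) = K.ψ (act 16 (yV + zV + xPt i.toAdd)) := by
      rw [hg]
      show T.σ 16 * (X.e (pA * pB) * K.ψ (xPt i.toAdd)) * T.σ 16 = _
      rw [map_mul, X.eA, X.eB, ← K.ψ_add, ← K.ψ_add, T.σ_conj c16]; rfl
    rcases hva i hi with r | r <;> rw [e, r]
    · exact ⟨1, one_mem _, by rw [K.ψ_a]; group⟩
    · exact ⟨T.σ 27, T.σ_D (by decide +kernel), by rw [← K.ψ_a, T.σ_act]; rfl⟩
  refine ⟨PW, s, hPW, fun hh => ?_, fun x e => ?_, fun x y e => ?_, fun x hxs => ?_, ?_⟩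
  · exact hs _ (pT, 1) hgT.symm
  · rw [hs x _ (e.trans hgz.symm)]; decide
  · obtain ⟨p, -, hp⟩ := hex x
    have h24' : T.σ 24 = T.σ 16 * (T.σ 25 * X.e (pF * pG)) * T.σ 16 := by
      rw [map_mul, X.eF, X.eG, ← mul_assoc (T.σ 25), ← T.σ_mul, ← T.σ_mul, act16_x.2.2.2.2.1, ← T.σ_mul,
        ← T.σ_mul, act16_x.2.2.2.2.2]
    set c := pF * pG
    have hc : c⁻¹ = c := by simp only [c]; decide +kernel
    have he : ((y : T.D) : G) = g (c * p.1 * c, p.2⁻¹) := by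
      rw [e, hp, hg, hg, h24']
      show T.σ 16 * (T.σ 25 * X.e c) * T.σ 16 * (T.σ 16 * (X.e p.1 * K.ψ (xPt p.2.toAdd)) * T.σ 16) *
          (T.σ 16 * (T.σ 25 * X.e c) * T.σ 16) =
        T.σ 16 * (X.e (c * p.1 * c) * K.ψ (xPt p.2⁻¹.toAdd)) * T.σ 16
      have hcc : Commute (T.σ 25) (X.e c) := X.e25 c
      have h1 : Commute (X.e c) (K.ψ (xPt p.2.toAdd)) := X.e_comm_x _ _
      have h3 : Commute (T.σ 25) (X.e (c * p.1 * c)) := X.e25 _
      calc T.σ 16 * (T.σ 25 * X.e c) * T.σ 16 * (T.σ 16 * (X.e p.1 * K.ψ (xPt p.2.toAdd)) * T.σ 16) *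
            (T.σ 16 * (T.σ 25 * X.e c) * T.σ 16)
          = T.σ 16 * (T.σ 25 * X.e c * (T.σ 16 * T.σ 16) * (X.e p.1 * K.ψ (xPt p.2.toAdd)) *
              (T.σ 16 * T.σ 16) * (T.σ 25 * X.e c)) * T.σ 16 := by group
        _ = T.σ 16 * (T.σ 25 * (X.e c * X.e p.1 * (K.ψ (xPt p.2.toAdd) * X.e c)) * T.σ 25) * T.σ 16 := by
            rw [hσ, mul_one, mul_one]; nth_rewrite 2 [hcc.eq]; group
        _ = T.σ 16 * (T.σ 25 * X.e (c * p.1 * c) * (K.ψ (xPt p.2.toAdd) * T.σ 25)) * T.σ 16 := by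
            rw [← h1.eq, map_mul X.e (c * p.1) c, map_mul X.e c p.1]; group
        _ = _ := by
            rw [h3.eq, toAdd_inv]
            have h4 : T.σ 25 * (K.ψ (xPt p.2.toAdd) * T.σ 25) = K.ψ (xPt (-p.2.toAdd)) := by
              rw [← mul_assoc, T.sr_r, mul_assoc, T.σ_invol xModel_codes.1.2.2, mul_one]
            rw [mul_assoc (X.e _), h4]
    rw [hs y _ he, hs x p hp]
  · obtain ⟨⟨p1, i⟩, hpQ, hp⟩ := hex x
    have hi : i ≠ 1 := fun e => hxs (by rw [hs x _ hp]; exact e)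
    have hc := (hQ _).1 hpQ
    refine ⟨?_, ?_⟩
    · rw [hp, ← map_pow, show (p1, i) ^ 24 = 1 from Prod.ext (h24 p1 hc) (hM4 i).2, map_one]
    rcases hcls p1 hc with r | ⟨q, hq, r⟩
    · left
      have h4 : ((x : T.D) : G) ^ 4 = K.ψ (act 16 (xPt i.toAdd)) := by
        rw [hp, ← map_pow, show (p1, i) ^ 4 = (1, i) from Prod.ext r (hM4 i).1, hgψ]
      exact ⟨_, hvz i hi, Or.inl h4⟩
    · right
      obtain ⟨d, hd, ed⟩ := ha i hi
      refine ⟨g (q, 1) * d, mul_mem (hgD _ ((hQ _).2 hq)) hd, ?_⟩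
      have e1 : g (q, 1) * d * h.a * (g (q, 1) * d)⁻¹ = g (q * pAB * q⁻¹, i) := by
        rw [show g (q, 1) * d * h.a * (g (q, 1) * d)⁻¹ = g (q, 1) * (d * h.a * d⁻¹) * (g (q, 1))⁻¹ by group,
          ← ed, ← map_inv, ← map_mul, ← map_mul]
        exact congrArg g (Prod.ext rfl (by simp))
      rw [e1, hp]
      rcases r with r | r <;> rw [r]
      · exact Or.inl rfl
      · exact Or.inr (by rw [← hgT, ← map_mul]; exact congrArg g (Prod.ext rfl (by simp)))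
  · have hP : Nat.card PW = 144 := by
      rw [← Nat.card_congr E.toEquiv, ← hc144, ← Nat.card_eq_fintype_card (α := {p : S6 × M3 // p.1 * pT = pT * p.1})]
      exact Nat.card_congr (Equiv.subtypeEquivRight fun p => hQ p)
    have hN : Nat.card {x : PW // s x ≠ 1 ∧ ∃ d ∈ T.D, ((x : T.D) : G) = d * h.a * d⁻¹} = 16 := by
      rw [← hc16, ← Nat.card_eq_fintype_card
        (α := {p : S6 × M3 // p.1 * pT = pT * p.1 ∧ p.1 ≠ 1 ∧ p.1 * p.1 * p.1 = 1 ∧ p.2 ≠ 1})]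
      symm
      let Fc : {p : S6 × M3 // p.1 * pT = pT * p.1 ∧ p.1 ≠ 1 ∧ p.1 * p.1 * p.1 = 1 ∧ p.2 ≠ 1} →
          {x : PW // s x ≠ 1 ∧ ∃ d ∈ T.D, ((x : T.D) : G) = d * h.a * d⁻¹} := fun p =>
        ⟨F ⟨p.1, (hQ _).2 p.2.1⟩, by rw [hs _ p.1 rfl]; exact p.2.2.2.2, by
          obtain ⟨⟨q, i⟩, hq, hq1, hq3, hi⟩ := p
          rcases hcls q hq with r | ⟨g', hg', r⟩
          · exact absurd (by rwa [pow_succ, pow_succ, pow_two, hq3, one_mul] at r) hq1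
          obtain ⟨d, hd, ed⟩ := ha i hi
          refine ⟨g (g', 1) * d, mul_mem (hgD _ ((hQ _).2 hg')) hd, ?_⟩
          have hr : q = g' * pAB * g'⁻¹ := by
            refine r.resolve_right fun r => ?_
            have hcm : Commute (g' * pAB * g'⁻¹) pT :=
              ((show Commute g' pT from hg').mul_left (show Commute pAB pT from by unfold Commute SemiconjBy; decide +kernel)).mul_left
                (show Commute g' pT from hg').inv_left
            have h3 : (g' * pAB * g'⁻¹) * (g' * pAB * g'⁻¹) * (g' * pAB * g'⁻¹) = 1 := by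
              rw [show (g' * pAB * g'⁻¹) * (g' * pAB * g'⁻¹) * (g' * pAB * g'⁻¹) = g' * (pAB * pAB * pAB) * g'⁻¹ by group,
                show pAB * pAB * pAB = 1 by decide +kernel, mul_one, mul_inv_cancel]
            have h3' : q ^ 3 = 1 := by rw [pow_succ, pow_two]; exact hq3
            rw [r, hcm.mul_pow, show (g' * pAB * g'⁻¹) ^ 3 = 1 by rw [pow_succ, pow_two]; exact h3, one_mul] at h3'
            exact absurd h3' (by decide +kernel)
          show g (q, i) = _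
          rw [show g (g', 1) * d * h.a * (g (g', 1) * d)⁻¹ = g (g', 1) * (d * h.a * d⁻¹) * (g (g', 1))⁻¹ by group,
            ← ed, ← map_inv, ← map_mul, ← map_mul, hr]
          exact congrArg g (Prod.ext rfl (by simp))⟩
      refine Nat.card_eq_of_bijective Fc ⟨fun p q e => ?_, ?_⟩
      · exact Subtype.ext (congrArg (fun z : Q => (z : S6 × M3)) (hF.1 (congrArg Subtype.val e)))
      rintro ⟨x, hxs, d, hd, e⟩
      obtain ⟨⟨q, i⟩, hq, hp⟩ := hex x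
      have hi : i ≠ 1 := fun ee => hxs (by rw [hs x _ hp]; exact ee)
      have h3 : q * q * q = 1 := by
        have h0 : g ((q, i) ^ 3) = g 1 := by
          rw [map_pow, map_one, ← hp, e, conj_pow, h.a_cube, mul_one, mul_inv_cancel]
        have := congrArg Prod.fst (hginj h0)
        rwa [Prod.pow_fst, pow_succ, pow_two] at this
      have hq1 : q ≠ 1 := by
        intro hq1
        rw [hp, hq1, hgψ] at e
        have e' : d⁻¹ * K.ψ (act 16 (xPt i.toAdd)) * d⁻¹⁻¹ = h.a := by rw [e]; group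
        obtain ⟨-, n1, n2, -, -, n5, n6, -, -⟩ := neg_fixed
        rcases hvz i hi with r | r <;> rw [r] at e'
        · rw [← K.ψ_a] at e'
          rcases T.fixed_fusion fixed_types.2.2.1.2.2 (Or.inl rfl) e' with u | u
          exacts [n5 u, n6 u]
        · have e'' : d⁻¹ * K.ψ zV * d⁻¹⁻¹ = K.ψ (-aV) := by
            rw [K.toBase.ψ_neg, K.ψ_a, ← e', K.toBase.ψ_neg, ← conj_inv, inv_inv, inv_inv]
          rcases T.fixed_fusion neg_fixed.1.2.2.1 (Or.inl rfl) e'' with u | u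
          exacts [n1 u, n2 u]
      refine ⟨⟨(q, i), (hQ _).1 hq, hq1, h3, hi⟩, Subtype.ext (Subtype.ext (Subtype.ext hp.symm))⟩
    rw [hP, hN]

/-- The two kernels. -/
structure Kers (T : Eight K) where
  N₁ : Subgroup T.D
  N₂ : Subgroup T.D
  normal₁ : N₁.Normal
  normal₂ : N₂.Normal
  t₁ : (⟨K.t, T.t_D⟩ : T.D) ∈ N₁
  t₂ : (⟨K.t, T.t_D⟩ : T.D) ∈ N₂
  sq₁ : ∀ x : T.D, (x : G) * x = K.t → x ∈ N₁
  sq₂ : ∀ x : T.D, (x : G) * x = K.t → x ∈ N₂
  invol₁ : ∀ x : T.D, (x : G) * x = 1 → Nine (x : G) → ¬ IsConj K.t (x : G) → x ∈ N₁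
  invol₂ : ∀ x : T.D, (x : G) * x = 1 → Nine (x : G) →
    (∀ d ∈ T.D, d * (x : G) * d⁻¹ ≠ T.σ 27) → x ∈ N₂
  b_not : ∀ x : T.D, (x : G) = K.ψ fV → x ∉ N₁
  z_not : ∀ x : T.D, (x : G) = K.ψ zV → x ∉ N₂
  a_not₁ : (⟨h.a, T.a_D⟩ : T.D) ∉ N₁
  a_not₂ : (⟨h.a, T.a_D⟩ : T.D) ∉ N₂

include T in
theorem exists_kers : Nonempty (Kers T) := by
  classical
  have hb : T.HasSection fV := T.section_code coef_b (Or.inr rfl) fixed_types.2.2.1.1 fun x hx => T.cent_b hx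
  have hz : T.HasSection zV := by
    rcases T.axis_cases with hN | ⟨⟨B⟩⟩
    · refine T.section_code coef_z (Or.inl rfl) fixed_types.2.2.1.2.1 fun x hx => ?_
      have hσ := T.σ_invol act16_x.2.2.1
      have h1 : T.σ 16 * x * T.σ 16 ∈ Subgroup.normalizer (h.J : Set G) := hN _ (by
        have e : K.ψ xV = T.σ 16 * K.ψ zV * T.σ 16 :=
          ((T.σ_conj act16_x.2.2.1 zV).trans (congrArg K.ψ act16_x.2.1)).symm
        rw [e]
        calc T.σ 16 * x * T.σ 16 * (T.σ 16 * K.ψ zV * T.σ 16)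
            = T.σ 16 * (x * (T.σ 16 * T.σ 16) * K.ψ zV) * T.σ 16 := by group
          _ = T.σ 16 * (K.ψ zV * (T.σ 16 * T.σ 16) * x) * T.σ 16 := by rw [hσ, mul_one, mul_one, hx]
          _ = _ := by group)
      have h2 := mul_mem (mul_mem (T.σ_N 16) h1) (T.σ_N 16)
      rwa [show T.σ 16 * (T.σ 16 * x * T.σ 16) * T.σ 16 = (T.σ 16 * T.σ 16) * x * (T.σ 16 * T.σ 16) by group,
        hσ, one_mul, mul_one] at h2
    · obtain ⟨X⟩ := T.exists_xModel B
      exact T.section_big X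
  have hsq : ∀ {x d : G}, d ∈ T.D → x * K.t = K.t * x → x * x = K.t → d * x * d⁻¹ * (d * x * d⁻¹) = K.t := by
    intro x d hd _ e
    rw [conj_mul, e, T.mem_D.1 hd, mul_inv_cancel_right]
  have hD : ∀ {x d : G}, d ∈ T.D → x * K.t = K.t * x → d * x * d⁻¹ ∈ T.D := fun hd hx =>
    mul_mem (mul_mem hd (T.mem_D.2 hx)) (inv_mem hd)
  have hinv : ∀ {x d : G}, x * x = 1 → d * x * d⁻¹ * (d * x * d⁻¹) = 1 := fun {x d} e => by
    rw [conj_mul, e, mul_one, mul_inv_cancel]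
  obtain ⟨PW, s, p1, p2, p3, p4, p5, p6⟩ := hb
  obtain ⟨N₁, hN₁, ht₁, hS₁, hb₁, ha₁⟩ := T.exists_kernel (Or.inr rfl) PW p1 s p2 p3 p4 p5 p6
    (S := {x | x * K.t = K.t * x ∧ (x * x = K.t ∨ (x * x = 1 ∧ Nine x ∧ ¬ IsConj K.t x))}) (by
    rintro x ⟨hxt, hx⟩
    refine ⟨hxt, hx.elim Or.inr (fun r => Or.inl r.1), fun d hd => ⟨fun e => ?_, fun e => ?_⟩⟩
    · obtain ⟨n1, n2⟩ := T.inv_b (hD hd hxt) e
      rcases hx with r | ⟨r, r9, rc⟩
      · exact n1 (hsq hd hxt r)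
      · exact rc ((n2 (hinv r) (r9.conj d)).trans (isConj_iff.2 ⟨d, rfl⟩).symm)
    · obtain ⟨n1, n2⟩ := T.inv_a (hD hd hxt) e
      rcases hx with r | ⟨r, r9, -⟩
      · exact n1 (hsq hd hxt r)
      · exact n2 (hinv r) (r9.conj d))
  obtain ⟨PW, s, p1, p2, p3, p4, p5, p6⟩ := hz
  obtain ⟨N₂, hN₂, ht₂, hS₂, hz₂, ha₂⟩ := T.exists_kernel (Or.inl rfl) PW p1 s p2 p3 p4 p5 p6
    (S := {x | x * K.t = K.t * x ∧ (x * x = K.t ∨ (x * x = 1 ∧ Nine x ∧ ∀ d ∈ T.D, d * x * d⁻¹ ≠ T.σ 27))}) (by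
    rintro x ⟨hxt, hx⟩
    refine ⟨hxt, hx.elim Or.inr (fun r => Or.inl r.1), fun d hd => ⟨fun e => ?_, fun e => ?_⟩⟩
    · obtain ⟨n1, n2⟩ := T.inv_z (hD hd hxt) e
      rcases hx with r | ⟨r, r9, rc⟩
      · exact n1 (hsq hd hxt r)
      · obtain ⟨n, en⟩ := n2 (hinv r) (r9.conj d)
        refine rc ((K.ψ (n • zV))⁻¹ * d) (mul_mem (inv_mem (T.mem_D.2 (zV_smul_t n))) hd) ?_
        rw [show (K.ψ (n • zV))⁻¹ * d * x * ((K.ψ (n • zV))⁻¹ * d)⁻¹ =
          (K.ψ (n • zV))⁻¹ * (d * x * d⁻¹) * K.ψ (n • zV) by group, en]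
        group
    · obtain ⟨n1, n2⟩ := T.inv_a (hD hd hxt) e
      rcases hx with r | ⟨r, r9, -⟩
      · exact n1 (hsq hd hxt r)
      · exact n2 (hinv r) (r9.conj d))
  exact ⟨{
    N₁ := N₁, N₂ := N₂, normal₁ := hN₁, normal₂ := hN₂, t₁ := ht₁, t₂ := ht₂
    sq₁ := fun x hx => hS₁ x ⟨T.mem_D.1 x.2, Or.inl hx⟩
    sq₂ := fun x hx => hS₂ x ⟨T.mem_D.1 x.2, Or.inl hx⟩
    invol₁ := fun x hx h9 hc => hS₁ x ⟨T.mem_D.1 x.2, Or.inr ⟨hx, h9, hc⟩⟩
    invol₂ := fun x hx h9 hc => hS₂ x ⟨T.mem_D.1 x.2, Or.inr ⟨hx, h9, hc⟩⟩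
    b_not := hb₁, z_not := hz₂, a_not₁ := ha₁, a_not₂ := ha₂ }⟩

end Eight

end Cfsg.Agent.Recog.ThreeCentSp
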