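import Cfsg.Agent.Lib.Recog.ThreeCentSp.EightControl
import Cfsg.Agent.S3333

/-!
In the smaller case the generated group contains the centraliser of the reflection: modulo the reflection
it is the symmetric group of degree six, or normalises a Sylow subgroup of order nine.
-/

set_option autoImplicit false
set_option linter.unusedSectionVars false
set_option linter.style.haveILetI false
set_option maxRecDepth 20000

namespace Cfsg.Agent.Recog.ThreeCentSp

open Cfsg.Agent.Invol.PSp43Am (V3 act act_add aV xV yV zV fV gV mem_normalizer_of_conj_mem)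

/-- the four signed axes other than the first -/
def axes4 : List V3 := [yV, -yV, zV, -zV]

set_option synthInstance.maxSize 1000 in
theorem small_codes :
    (∀ k : Fin 48, act (k : ℕ) yV = yV → act (k : ℕ) zV = zV → k = 0 ∨ k = 25) ∧
    (∀ k : Fin 48, (act (k : ℕ) yV).1 = 0 → act (k : ℕ) yV ∈ axes4) ∧
    (∀ k : Fin 48, (act (k : ℕ) zV).1 = 0 → act (k : ℕ) zV ∈ axes4) ∧
    (∀ p ∈ axes4, ∀ q ∈ axes4, p ≠ q → p ≠ -q → ∃ j ∈ ksX, act (j : ℕ) yV = p ∧ act (j : ℕ) zV = q) ∧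
    (∀ j ∈ ksX, cm j 25 = cm 25 j ∧ cm 25 j ∉ ksX) ∧ (25 ∉ ksX) ∧
    (∀ u : V3, act 25 u = u ↔ u.1 = 0) ∧ cm 20 20 = 0 ∧ act 20 yV = zV ∧
    (∀ u : V3, u.1 = 0 → ∃ i n : Fin 3, u = (i : ℕ) • yV + (n : ℕ) • zV) :=
  ⟨by decide +kernel, by decide +kernel, by decide +kernel, by decide +kernel, by decide +kernel,
    by decide +kernel, by decide +kernel, by decide +kernel, by decide +kernel, by decide +kernel⟩

theorem dCode_zero : ∀ p : DihedralGroup 4, (dCode p = 0 ∨ dCode p = 25) → p = 1 := by decide +kernel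

theorem dCode_surj : ∀ j ∈ ksX, ∃ p, dCode p = j := by decide +kernel

theorem dCode_one : dCode 1 = 0 := by decide +kernel

theorem yz_ne : yV ≠ 0 ∧ zV ≠ 0 ∧ yV ≠ zV ∧ yV ≠ -zV := by decide +kernel

theorem small_ne : ((0 : Fin 48) ≠ 25) ∧ det4 (1, 0, 0, 1) ≠ 0 ∧ det4 (2, 0, 0, 2) ≠ 0 ∧
    ((0, 1, 2, 0) : M4) ≠ (1, 0, 0, 1) ∧ ((0, 1, 2, 0) : M4) ≠ (2, 0, 0, 2) := by decide +kernel

namespace Eight

variable {G : Type*} [Group G] [Finite G] {h : Hyp G} {K : Coords h} (T : Eight K)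

include T in
theorem small_y (hs : T.SmallCase) {x : G} (hx : x * K.ψ yV = K.ψ yV * x) :
    x ∈ Subgroup.normalizer (h.J : Set G) := by
  obtain ⟨-, -, -, -, -, -, -, c20, e20, -⟩ := small_codes
  have hσ := T.σ_invol c20
  have h1 : T.σ 20 * x * T.σ 20 ∈ Subgroup.normalizer (h.J : Set G) := hs _ (by
    have e : K.ψ zV = T.σ 20 * K.ψ yV * T.σ 20 := ((T.σ_conj c20 yV).trans (congrArg K.ψ e20)).symm
    rw [e]
    calc T.σ 20 * x * T.σ 20 * (T.σ 20 * K.ψ yV * T.σ 20)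
        = T.σ 20 * (x * (T.σ 20 * T.σ 20) * K.ψ yV) * T.σ 20 := by group
      _ = T.σ 20 * (K.ψ yV * (T.σ 20 * T.σ 20) * x) * T.σ 20 := by rw [hσ, mul_one, mul_one, hx]
      _ = _ := by group)
  have h2 := mul_mem (mul_mem (T.σ_N 20) h1) (T.σ_N 20)
  rwa [show T.σ 20 * (T.σ 20 * x * T.σ 20) * T.σ 20 = (T.σ 20 * T.σ 20) * x * (T.σ 20 * T.σ 20) by group,
    hσ, one_mul, mul_one] at h2

include T in
theorem cent_pair (hs : T.SmallCase) {x : G} (h25 : x * T.σ 25 = T.σ 25 * x)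
    (hy : x * K.ψ yV = K.ψ yV * x) (hz : x * K.ψ zV = K.ψ zV * x) :
    ∃ u : V3, u.1 = 0 ∧ (x = K.ψ u ∨ x = K.ψ u * T.σ 25) := by
  obtain ⟨u, j, e, hj⟩ := T.decomp (hs x hz)
  have hjy : act (j : ℕ) yV = yV := K.ψ_inj (by rw [← hj, hy, mul_inv_cancel_right])
  have hjz : act (j : ℕ) zV = zV := K.ψ_inj (by rw [← hj, hz, mul_inv_cancel_right])
  have hc25 := T.σ_invol xModel_codes.1.2.2
  have hu : act 25 u = u := by
    have h1 : K.ψ u * T.σ 25 = T.σ 25 * K.ψ u := by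
      rcases small_codes.1 j hjy hjz with r | r <;> rw [e, r] at h25
      · rwa [T.σ_zero, mul_one] at h25
      · rw [mul_assoc, hc25, mul_one, ← mul_assoc] at h25
        calc K.ψ u * T.σ 25 = (T.σ 25 * K.ψ u * T.σ 25) * T.σ 25 := by rw [← h25]
          _ = _ := by rw [mul_assoc _ (T.σ 25), hc25, mul_one]
    exact T.act_of_comm h1
  refine ⟨u, (small_codes.2.2.2.2.2.2.1 u).1 hu, ?_⟩
  rcases small_codes.1 j hjy hjz with r | r <;> rw [e, r]
  · exact Or.inl (by rw [T.σ_zero, mul_one])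
  · exact Or.inr rfl

include T in
theorem norm_pair (hs : T.SmallCase) {x : G} (h25 : x * T.σ 25 = T.σ 25 * x)
    (hN : ∀ u : V3, u.1 = 0 → ∃ w : V3, w.1 = 0 ∧ x * K.ψ u * x⁻¹ = K.ψ w) :
    ∃ j ∈ ksX, ∃ u : V3, u.1 = 0 ∧ (x = T.σ j * K.ψ u ∨ x = T.σ j * K.ψ u * T.σ 25) := by
  obtain ⟨p, hp, ep⟩ := hN yV rfl
  obtain ⟨q, hq, eq'⟩ := hN zV rfl
  have hinj : ∀ u v : V3, x * K.ψ u * x⁻¹ = x * K.ψ v * x⁻¹ → u = v := fun u v e =>
    K.ψ_inj (mul_left_cancel (mul_right_cancel e))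
  have hp4 : p ∈ axes4 := by
    obtain ⟨n, hn, en⟩ := h.fusion_J (K.ψ_mem _) (K.ψ_mem _) ep
    obtain ⟨j, hj⟩ := K.acts n hn
    rw [hj] at en
    have e' := K.ψ_inj en
    rw [← e'] at hp ⊢
    exact small_codes.2.1 j hp
  have hq4 : q ∈ axes4 := by
    obtain ⟨n, hn, en⟩ := h.fusion_J (K.ψ_mem _) (K.ψ_mem _) eq'
    obtain ⟨j, hj⟩ := K.acts n hn
    rw [hj] at en
    have e' := K.ψ_inj en
    rw [← e'] at hq ⊢
    exact small_codes.2.2.1 j hq
  obtain ⟨-, -, yz, yz'⟩ := yz_ne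
  have n1 : p ≠ q := fun r => yz (hinj _ _ (by rw [ep, eq', r]))
  have n2 : p ≠ -q := fun r => yz' (hinj _ _ (by
    rw [ep, r, K.toBase.ψ_neg zV, ← conj_inv, eq', K.toBase.ψ_neg]))
  obtain ⟨j, hj, ejy, ejz⟩ := small_codes.2.2.2.1 p hp4 q hq4 n1 n2
  have hj25 : Commute (T.σ j) (T.σ 25) :=
    (T.σ_mul j 25).symm.trans ((congrArg T.σ (small_codes.2.2.2.2.1 j hj).1).trans (T.σ_mul 25 j))
  have hfix : ∀ v r, x * K.ψ v * x⁻¹ = K.ψ r → act (j : ℕ) v = r →
      (T.σ j)⁻¹ * x * K.ψ v = K.ψ v * ((T.σ j)⁻¹ * x) := fun v r e er => by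
    refine mul_inv_eq_iff_eq_mul.1 ?_
    rw [show (T.σ j)⁻¹ * x * K.ψ v * ((T.σ j)⁻¹ * x)⁻¹ = (T.σ j)⁻¹ * (x * K.ψ v * x⁻¹) * T.σ j by group, e, ← er,
      ← T.σ_act]
    group
  obtain ⟨u, hu, hcase⟩ := T.cent_pair hs (x := (T.σ j)⁻¹ * x)
    (hj25.inv_left.mul_left (show Commute x (T.σ 25) from h25)).eq (hfix _ _ ep ejy) (hfix _ _ eq' ejz)
  refine ⟨j, hj, u, hu, ?_⟩
  rcases hcase with r | r
  · exact Or.inl (inv_mul_eq_iff_eq_mul.1 r)
  · exact Or.inr ((inv_mul_eq_iff_eq_mul.1 r).trans (mul_assoc _ _ _).symm)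

include T in
theorem norm_of_cent (hs : T.SmallCase) {w : V3} (hw : w.1 = 0) (hw0 : w ≠ 0) {x : G}
    (hxw : x * K.ψ w = K.ψ w * x) : x ∈ Subgroup.normalizer (h.J : Set G) := by
  obtain ⟨e, he, r | r | ⟨j, r⟩⟩ := ksX_facts.2.2.2.2.2.2 w hw hw0 <;> rw [r] at hxw <;>
    have hc := nsmul_comm e he hxw
  · exact T.small_y hs hc
  · exact hs x hc
  · exact T.cent_b' j hc

include T in
/-- The centraliser of the reflection lies in the generated group. -/
theorem cent_25_le (hs : T.SmallCase) (r : G) {x : G} (hx : x * T.σ 25 = T.σ 25 * x) :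
    x ∈ T.genH r 5 := by
  classical
  haveI := Fact.mk Nat.prime_three
  obtain ⟨k⟩ := T.exists_kers
  have hc25 := T.σ_invol xModel_codes.1.2.2
  have h25i : (T.σ 25)⁻¹ = T.σ 25 := inv_eq_of_mul_eq_one_left hc25
  set Y := Subgroup.centralizer ({T.σ 25} : Set G) with hYdef
  have hY : ∀ {g : G}, g ∈ Y ↔ g * T.σ 25 = T.σ 25 * g := fun {g} => Subgroup.mem_centralizer_singleton_iff
  have h25Y : T.σ 25 ∈ Y := hY.2 rfl
  set sD : Y := ⟨T.σ 25, h25Y⟩
  have hcen : ∀ d : Y, d * sD = sD * d := fun d => Subtype.ext (hY.1 d.2)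
  haveI : (Subgroup.zpowers sD).Normal := ⟨fun y hy d => by
    obtain ⟨i, rfl⟩ := Subgroup.mem_zpowers_iff.1 hy
    rw [(Commute.zpow_right (hcen d) i).eq, mul_inv_cancel_right]
    exact Subgroup.zpow_mem _ (Subgroup.mem_zpowers _) i⟩
  set f := QuotientGroup.mk' (Subgroup.zpowers sD) with hf
  have hfsurj : Function.Surjective f := QuotientGroup.mk'_surjective _
  have hfs : f sD = 1 := (QuotientGroup.eq_one_iff _).2 (Subgroup.mem_zpowers _)
  have h251 : T.σ 25 ≠ 1 := fun e => small_codes.2.2.2.2.2.1 (by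
    have := T.φ_inj (p := (0, 25)) (q := (0, 0)) (by
      show K.ψ 0 * T.σ 25 = K.ψ 0 * T.σ 0
      rw [e, T.σ_zero])
    exact absurd (congrArg Prod.snd this) small_ne.1.symm)
  have hfk : ∀ p q : Y, f p = f q → (q : G) = p ∨ (q : G) = p * T.σ 25 := by
    intro p q e
    have hm : p⁻¹ * q ∈ Subgroup.zpowers sD := QuotientGroup.eq.1 e
    have ho : orderOf sD = 2 := by
      rw [← Subgroup.orderOf_coe]
      exact orderOf_eq_prime (by rw [pow_two]; exact hc25) h251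
    rw [mem_zpowers_iff_mem_range_orderOf, ho] at hm
    simp only [Finset.mem_image, Finset.mem_range] at hm
    obtain ⟨i, hi, e'⟩ := hm
    have hq : q = p * sD ^ i := by rw [e', mul_inv_cancel_left]
    interval_cases i
    · exact Or.inl (by rw [hq, pow_zero, mul_one])
    · exact Or.inr (by rw [hq, pow_one]; rfl)
  have hJY : ∀ {u : V3}, u.1 = 0 → K.ψ u ∈ Y := fun {u} hu =>
    hY.2 ((T.comm_iff 25 u).2 ((small_codes.2.2.2.2.2.2.1 u).2 hu)).symm
  have hσY : ∀ {j : Fin 48}, j ∈ ksX → T.σ j ∈ Y := fun {j} hj => hY.2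
    ((T.σ_mul j 25).symm.trans ((congrArg T.σ (small_codes.2.2.2.2.1 j hj).1).trans (T.σ_mul 25 j)))
  -- conjugation modulo the reflection is exact on elements of order three
  have hexact : ∀ {g : Y} {u w : V3} (hu : u.1 = 0) (hw : w.1 = 0),
      f (g * ⟨K.ψ u, hJY hu⟩ * g⁻¹) = f ⟨K.ψ w, hJY hw⟩ → (g : G) * K.ψ u * (g : G)⁻¹ = K.ψ w := by
    intro g u w hu hw e
    rcases hfk _ _ e.symm with r | r
    · exact r
    exfalso
    have r' : (g : G) * K.ψ u * (g : G)⁻¹ = K.ψ w * T.σ 25 := r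
    have h3 : ((g : G) * K.ψ u * (g : G)⁻¹) ^ 3 = 1 := by
      rw [conj_pow, h.J_exp _ (K.ψ_mem u), mul_one, mul_inv_cancel]
    rw [r', (show Commute (K.ψ w) (T.σ 25) from hY.1 (hJY hw)).mul_pow, h.J_exp _ (K.ψ_mem w), one_mul,
      pow_succ, pow_two, hc25, one_mul] at h3
    exact h251 h3
  set S : Subgroup (Y ⧸ Subgroup.zpowers sD) := (T.Jx.subgroupOf Y).map f with hSdef
  have hS : ∀ {y}, y ∈ S ↔ ∃ u : V3, ∃ hu : u.1 = 0, y = f ⟨K.ψ u, hJY hu⟩ := by
    intro y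
    constructor
    · rintro ⟨p, ⟨u, hu, e⟩, rfl⟩
      exact ⟨u, hu, congrArg f (Subtype.ext e)⟩
    · rintro ⟨u, hu, rfl⟩
      exact ⟨_, ⟨u, hu, rfl⟩, rfl⟩
  have hS9 : Nat.card S = 9 := by
    rw [← T.Jx_card, ← Nat.card_congr (Subgroup.subgroupOfEquivOfLe (show T.Jx ≤ Y from by
      rintro _ ⟨u, hu, rfl⟩; exact hJY hu)).toEquiv]
    symm
    refine Nat.card_eq_of_bijective (f.subgroupMap _) ⟨?_, f.subgroupMap_surjective _⟩
    refine (injective_iff_map_eq_one _).2 fun p hp => ?_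
    have e' : f (1 : Y) = f (p : Y) := (map_one f).trans (congrArg Subtype.val hp).symm
    obtain ⟨u, hu, eu⟩ := (show ((p : Y) : G) ∈ T.Jx from p.2)
    rcases hfk _ _ e' with q | q
    · exact Subtype.ext (Subtype.ext q)
    · have h3 : ((p : Y) : G) ^ 3 = 1 := eu ▸ h.J_exp _ (K.ψ_mem u)
      rw [show ((p : Y) : G) = T.σ 25 from q.trans (one_mul _), pow_succ, pow_two, hc25, one_mul] at h3
      exact absurd h3 h251
  -- the normaliser
  have hnorm : ∀ g : Y, f g ∈ Subgroup.normalizer (S : Set (Y ⧸ Subgroup.zpowers sD)) →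
      ∃ j ∈ ksX, ∃ u : V3, u.1 = 0 ∧ ((g : G) = T.σ j * K.ψ u ∨ (g : G) = T.σ j * K.ψ u * T.σ 25) := by
    intro g hg
    refine T.norm_pair hs (hY.1 g.2) fun u hu => ?_
    obtain ⟨w, hw, e⟩ := hS.1 ((Subgroup.mem_normalizer_iff.1 hg _).1 (hS.2 ⟨u, hu, rfl⟩))
    rw [← map_inv, ← map_mul, ← map_mul] at e
    exact ⟨w, hw, hexact hu hw e⟩
  have hσN : ∀ {j : Fin 48} (hj : j ∈ ksX),
      f ⟨T.σ j, hσY hj⟩ ∈ Subgroup.normalizer (S : Set (Y ⧸ Subgroup.zpowers sD)) := fun {j} hj =>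
    mem_normalizer_of_conj_mem fun y hy => by
      obtain ⟨u, hu, rfl⟩ := hS.1 hy
      refine hS.2 ⟨act (j : ℕ) u, ksX_facts.2.2.2.2.2.1 j hj u hu, ?_⟩
      rw [← map_inv, ← map_mul, ← map_mul]
      exact congrArg f (Subtype.ext (T.σ_act j u))
  have hnorm' : ∀ g : Y, f g ∈ Subgroup.normalizer (S : Set (Y ⧸ Subgroup.zpowers sD)) →
      ∃ j, ∃ hj : j ∈ ksX, ∃ s ∈ S, f g = f ⟨T.σ j, hσY hj⟩ * s := by
    intro g hg
    obtain ⟨j, hj, u, hu, hcase⟩ := hnorm g hg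
    refine ⟨j, hj, _, hS.2 ⟨u, hu, rfl⟩, ?_⟩
    rw [← map_mul]
    rcases hcase with q | q
    · exact congrArg f (Subtype.ext q)
    · rw [show g = ⟨T.σ j, hσY hj⟩ * ⟨K.ψ u, hJY hu⟩ * sD from Subtype.ext q, map_mul, hfs, mul_one]
  have hSp : IsPGroup 3 S := IsPGroup.of_card (n := 2) (by rw [hS9]; norm_num)
  obtain ⟨P, hP⟩ := hSp.exists_le_sylow
  have hPS : (P : Subgroup (Y ⧸ Subgroup.zpowers sD)) = S := by
    refine le_antisymm ?_ hP
    by_contra hne
    haveI : Group.IsNilpotent (P : Subgroup (Y ⧸ Subgroup.zpowers sD)) := P.isPGroup'.isNilpotent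
    set H := S.subgroupOf (P : Subgroup (Y ⧸ Subgroup.zpowers sD))
    have hlt : H < ⊤ := lt_top_iff_ne_top.2 fun e => hne fun y hy =>
      (show (⟨y, hy⟩ : (P : Subgroup (Y ⧸ Subgroup.zpowers sD))) ∈ H from e ▸ Subgroup.mem_top _)
    obtain ⟨n, hn, hnH⟩ := SetLike.exists_of_lt (Group.normalizerCondition_of_isNilpotent _ hlt)
    refine hnH ?_
    obtain ⟨g, hg⟩ := hfsurj (n : Y ⧸ Subgroup.zpowers sD)
    obtain ⟨j, hj, s, hsS, e⟩ := hnorm' g (mem_normalizer_of_conj_mem fun y hy => by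
      rw [hg]
      exact (Subgroup.mem_normalizer_iff.1 hn ⟨y, hP hy⟩).1 hy)
    have hjP : f ⟨T.σ j, hσY hj⟩ ∈ (P : Subgroup (Y ⧸ Subgroup.zpowers sD)) := by
      rw [show f ⟨T.σ j, hσY hj⟩ = f g * s⁻¹ by rw [e, mul_inv_cancel_right], hg]
      exact mul_mem n.2 (inv_mem (hP hsS))
    obtain ⟨m, hm⟩ := P.isPGroup' ⟨_, hjP⟩
    have h4 : f ⟨T.σ j, hσY hj⟩ ^ 4 = 1 := by
      rw [← map_pow, ← map_one f]
      refine congrArg f (Subtype.ext ?_)
      show T.σ j ^ 4 = 1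
      rw [← T.σ_zero, ← ksX_facts.2.1 j hj, T.σ_mul, T.σ_mul]; simp [pow_succ, mul_assoc]
    have h1 : f ⟨T.σ j, hσY hj⟩ = 1 := orderOf_eq_one_iff.1 (Nat.eq_one_of_dvd_coprimes
      (((Nat.Prime.coprime_iff_not_dvd Nat.prime_three).2 (by norm_num : ¬ 3 ∣ 4)).pow_left m)
      (orderOf_dvd_of_pow_eq_one (congrArg Subtype.val hm)) (orderOf_dvd_of_pow_eq_one h4))
    show (n : Y ⧸ Subgroup.zpowers sD) ∈ S
    rw [← hg, e, h1, one_mul]
    exact hsS
  set N := Subgroup.normalizer (S : Set (Y ⧸ Subgroup.zpowers sD)) with hNdef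
  haveI : (S.subgroupOf N).Normal := Subgroup.normal_in_normalizer
  have hσdY : ∀ p : DihedralGroup 4, T.σ (dCode p) ∈ Y := fun p => hσY (dCode_facts.2.2 p)
  let f0 : DihedralGroup 4 →* N :=
    { toFun := fun p => ⟨f ⟨_, hσdY p⟩, hσN (dCode_facts.2.2 p)⟩
      map_one' := Subtype.ext (by
        show f ⟨T.σ (dCode 1), _⟩ = 1
        rw [← map_one f]
        exact congrArg f (Subtype.ext (by show T.σ (dCode 1) = 1; rw [dCode_one, T.σ_zero])))
      map_mul' := fun p q => Subtype.ext (by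
        show f ⟨T.σ (dCode (p * q)), _⟩ = f ⟨_, hσdY p⟩ * f ⟨_, hσdY q⟩
        rw [← map_mul]
        exact congrArg f (Subtype.ext (by
          show T.σ (dCode (p * q)) = T.σ (dCode p) * T.σ (dCode q)
          rw [dCode_facts.1, T.σ_mul]))) }
  set F := (QuotientGroup.mk' (S.subgroupOf N)).comp f0
  have hF : Function.Bijective F := by
    refine ⟨(injective_iff_map_eq_one _).2 fun p hp => ?_, fun q => ?_⟩
    · obtain ⟨u, hu, e⟩ := hS.1 (show ((f0 p : N) : Y ⧸ Subgroup.zpowers sD) ∈ S from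
        (QuotientGroup.eq_one_iff (f0 p)).1 hp)
      refine dCode_zero p ?_
      rcases hfk _ _ e.symm with q | q
      · refine Or.inl (congrArg Prod.snd (T.φ_inj (p := (0, dCode p)) (q := (u, 0)) ?_))
        show K.ψ 0 * T.σ (dCode p) = K.ψ u * T.σ 0
        rw [K.toBase.ψ_zero, one_mul, T.σ_zero, mul_one]; exact q
      · refine Or.inr (congrArg Prod.snd (T.φ_inj (p := (0, dCode p)) (q := (u, 25)) ?_))
        show K.ψ 0 * T.σ (dCode p) = K.ψ u * T.σ 25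
        rw [K.toBase.ψ_zero, one_mul]; exact q
    · obtain ⟨n, rfl⟩ := QuotientGroup.mk'_surjective _ q
      obtain ⟨g, hg⟩ := hfsurj (n : Y ⧸ Subgroup.zpowers sD)
      obtain ⟨j, hj, s, hsS, e⟩ := hnorm' g (hg ▸ n.2)
      obtain ⟨p, rfl⟩ := dCode_surj j hj
      refine ⟨p, QuotientGroup.eq.2 ?_⟩
      show (f ⟨_, hσdY p⟩)⁻¹ * (n : Y ⧸ Subgroup.zpowers sD) ∈ S
      rw [← hg, e, inv_mul_cancel_left]
      exact hsS
  have hNle : ∀ g : Y, f g ∈ N → (g : G) ∈ T.genH r 5 := fun g hg => by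
    obtain ⟨j, hj, u, hu, hcase⟩ := hnorm g hg
    rcases hcase with q | q <;> rw [q]
    · exact mul_mem (T.σ_mem (r := r) le_rfl j) (T.ψ_mem (r := r) le_rfl u)
    · exact mul_mem (mul_mem (T.σ_mem (r := r) le_rfl j) (T.ψ_mem (r := r) le_rfl u)) (T.σ_mem (r := r) le_rfl 25)
  have hcentS : Subgroup.centralizer (S : Set (Y ⧸ Subgroup.zpowers sD)) = S := by
    refine le_antisymm (fun y hy => ?_) fun y hy => Subgroup.mem_centralizer_iff.2 fun w hw => ?_
    · obtain ⟨g, rfl⟩ := hfsurj y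
      have hc : ∀ {u : V3} (hu : u.1 = 0), (g : G) * K.ψ u = K.ψ u * g := fun {u} hu =>
        mul_inv_eq_iff_eq_mul.1 (hexact hu hu (by
          rw [map_mul, map_mul, map_inv, ← Subgroup.mem_centralizer_iff.1 hy _ (hS.2 ⟨u, hu, rfl⟩),
            mul_inv_cancel_right]))
      obtain ⟨u, hu, hcase⟩ := T.cent_pair hs (hY.1 g.2) (hc (u := yV) rfl) (hc (u := zV) rfl)
      refine hS.2 ⟨u, hu, ?_⟩
      rcases hcase with q | q
      · exact congrArg f (Subtype.ext q)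
      · rw [show g = ⟨K.ψ u, hJY hu⟩ * sD from Subtype.ext q, map_mul, hfs, mul_one]
    · obtain ⟨u, hu, rfl⟩ := hS.1 hy
      obtain ⟨v, hv, rfl⟩ := hS.1 hw
      rw [← map_mul, ← map_mul]
      exact congrArg f (Subtype.ext (K.toBase.ψ_comm v u))
  have hcentx : ∀ y ∈ S, y ≠ 1 → Subgroup.centralizer ({y} : Set (Y ⧸ Subgroup.zpowers sD)) ≤ N := by
    intro y hy hy1 z hz
    obtain ⟨u, hu, rfl⟩ := hS.1 hy
    obtain ⟨g, rfl⟩ := hfsurj z
    have hu0 : u ≠ 0 := fun q => hy1 (by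
      rw [← map_one f]; exact congrArg f (Subtype.ext ((congrArg K.ψ q).trans K.toBase.ψ_zero)))
    have hcg : (g : G) * K.ψ u = K.ψ u * g := mul_inv_eq_iff_eq_mul.1 (hexact hu hu (by
      rw [map_mul, map_mul, map_inv, Subgroup.mem_centralizer_singleton_iff.1 hz, mul_inv_cancel_right]))
    have hgN := T.norm_of_cent hs hu hu0 hcg
    refine mem_normalizer_of_conj_mem fun w hw => ?_
    obtain ⟨v, hv, rfl⟩ := hS.1 hw
    obtain ⟨q, hq⟩ := K.ψ_surj _ ((Subgroup.mem_normalizer_iff.1 hgN _).1 (K.ψ_mem v))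
    have hq0 : q.1 = 0 := (small_codes.2.2.2.2.2.2.1 q).1 (by
      refine T.act_of_comm (k := 25) ?_
      rw [hq]
      exact (((show Commute (g : G) (T.σ 25) from hY.1 g.2).mul_left
        (show Commute (K.ψ v) (T.σ 25) from hY.1 (hJY hv))).mul_left
          (show Commute (g : G) (T.σ 25) from hY.1 g.2).inv_left).eq)
    refine hS.2 ⟨q, hq0, ?_⟩
    rw [← map_inv, ← map_mul, ← map_mul]
    exact congrArg f (Subtype.ext hq.symm)
  rcases Cfsg.Agent.S3333.result P S hPS.symm hS9 hcentS (MulEquiv.ofBijective F hF).symm hcentx with hSn | ⟨⟨e6⟩⟩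
  · exact hNle ⟨x, hY.2 hx⟩ (show f ⟨x, hY.2 hx⟩ ∈ N by
      rw [hNdef, Subgroup.normalizer_eq_top]; exact Subgroup.mem_top _)
  -- the subgroup of the generated group covers the quotient
  set Hb : Subgroup (Y ⧸ Subgroup.zpowers sD) := ((T.genH r 5).subgroupOf Y).map f with hHb
  have hNHb : N ≤ Hb := fun y hy => by
    obtain ⟨g, rfl⟩ := hfsurj y
    exact ⟨g, hNle g hy, rfl⟩
  have hcN : Nat.card N = 72 := by
    rw [Subgroup.card_eq_card_quotient_mul_card_subgroup (S.subgroupOf N),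
      Nat.card_congr (MulEquiv.ofBijective F hF).symm.toEquiv, DihedralGroup.nat_card,
      Nat.card_congr (Subgroup.subgroupOfEquivOfLe Subgroup.le_normalizer).toEquiv, hS9]
  -- an element outside the normaliser
  obtain ⟨y₀, hy₀, hy₀N⟩ : ∃ g : Y, (g : G) ∈ T.genH r 5 ∧ f g ∉ N := by
    obtain ⟨hd, -, h4, -⟩ := rel_codes.2.2.2.2
    set m := T.μ (0, 1, 2, 0)
    have hm : m ∈ T.M := T.μ_M hd h4
    have h27i := T.σ27_inv
    have h16 : (T.σ 16)⁻¹ = T.σ 16 := inv_eq_of_mul_eq_one_left (T.σ_invol act16_x.2.2.1)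
    set m' := T.σ 27 * m * (T.σ 27)⁻¹ with hm'
    have hm'O : m' ∈ k.O := k.conj_O T.σ27_D (k.M_O hm)
    have hm'a : m' * K.ψ (act 27 aV) = K.ψ (act 27 aV) * m' := by
      have e : K.ψ (act 27 aV) = T.σ 27 * h.a * (T.σ 27)⁻¹ := by rw [← K.ψ_a, T.σ_act]; rfl
      rw [e, hm', conj_mul, conj_mul, h.mem_C.1 (T.M_C hm)]
    have hcomm : m * m' = m' * m := k.comm_exact hm (Or.inl rfl) (fun q hq _ => by
      rcases k.central_cases with hc | ⟨y, hc, y1, yt, hyz⟩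
      · exact (hc m hm).2 q hq
      · exact ((k.C_z_small hs hc.1 hyz).elim y1 yt).elim) hm'O hm'a
    have he27 : m * m' * T.σ 27 = T.σ 27 * (m * m') := by
      calc m * m' * T.σ 27 = m * (T.σ 27 * m) := by simp only [m']; group
        _ = m * (T.σ 27 * m) * (T.σ 27 * T.σ 27) := by rw [T.σ_invol core_lines.2.2.2.1.2.2.2.2.2.1, mul_one]
        _ = (m * m') * T.σ 27 := by simp only [m', h27i]; group
        _ = m' * m * T.σ 27 := by rw [hcomm]
        _ = T.σ 27 * m * (T.σ 27 * m * T.σ 27) := by simp only [m', h27i]; group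
        _ = _ := by
          rw [← mul_assoc (T.σ 27) m m']
          simp only [m', h27i]
    have hp : T.σ 16 * (m * m') * T.σ 16 ∈ Y := hY.2 (by
      have e : T.σ 25 = T.σ 16 * T.σ 27 * T.σ 16 := by
        rw [← inverter_codes.2.2.2.2.2.2.2.2.2, T.σ_mul, T.σ_mul]
        calc T.σ 25 = (T.σ 16 * T.σ 16) * T.σ 25 * (T.σ 16 * T.σ 16) := by
              rw [T.σ_invol act16_x.2.2.1, one_mul, mul_one]
          _ = _ := by group
      rw [e]
      calc T.σ 16 * (m * m') * T.σ 16 * (T.σ 16 * T.σ 27 * T.σ 16)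
          = T.σ 16 * (m * m' * (T.σ 16 * T.σ 16) * T.σ 27) * T.σ 16 := by group
        _ = T.σ 16 * (T.σ 27 * (T.σ 16 * T.σ 16) * (m * m')) * T.σ 16 := by
            rw [T.σ_invol act16_x.2.2.1, mul_one, mul_one, he27]
        _ = _ := by group)
    have hH : T.σ 16 * (m * m') * T.σ 16 ∈ T.genH r 5 :=
      mul_mem (mul_mem (T.σ_mem (r := r) le_rfl 16) (mul_mem (T.M_le (r := r) le_rfl hm)
        (mul_mem (mul_mem (T.σ_mem (r := r) le_rfl 27) (T.M_le (r := r) le_rfl hm))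
          (inv_mem (T.σ_mem (r := r) le_rfl 27))))) (T.σ_mem (r := r) le_rfl 16)
    refine ⟨⟨_, hp⟩, hH, fun hN' => ?_⟩
    obtain ⟨j, hj, u, -, hcase⟩ := hnorm _ hN'
    have hNJ : T.σ 16 * (m * m') * T.σ 16 ∈ Subgroup.normalizer (h.J : Set G) := by
      rcases hcase with q | q
      · rw [show T.σ 16 * (m * m') * T.σ 16 = T.σ j * K.ψ u from q]
        exact mul_mem (T.σ_N j) (K.toBase.ψ_N u)
      · rw [show T.σ 16 * (m * m') * T.σ 16 = T.σ j * K.ψ u * T.σ 25 from q]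
        exact mul_mem (mul_mem (T.σ_N j) (K.toBase.ψ_N u)) (T.σ_N 25)
    have hmm : m * m' ∈ Subgroup.normalizer (h.J : Set G) := by
      have := mul_mem (mul_mem (T.σ_N 16) hNJ) (T.σ_N 16)
      rwa [show T.σ 16 * (T.σ 16 * (m * m') * T.σ 16) * T.σ 16 = (T.σ 16 * T.σ 16) * (m * m') * (T.σ 16 * T.σ 16) by group,
        T.σ_invol act16_x.2.2.1, one_mul, mul_one] at this
    have hne : m ≠ 1 ∧ m ≠ K.t := by
      have hinj : ∀ N : M4, det4 N ≠ 0 → T.μ (0, 1, 2, 0) = T.μ N → ((0, 1, 2, 0) : M4) = N := fun N hN e => by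
        obtain ⟨a1, a2, -, -⟩ := (T.μ_spec (M := (0, 1, 2, 0)) (by rw [hd]; exact one_ne_zero)).2
        obtain ⟨b1, b2, -, -⟩ := (T.μ_spec hN).2
        rw [e] at a1 a2
        exact gl_inverters.2.2.2.2.2 _ _ (T.el_inj (a1.symm.trans b1)) (T.el_inj (a2.symm.trans b2))
      constructor
      · intro e
        exact small_ne.2.2.2.1 (hinj (1, 0, 0, 1) small_ne.2.1 (e.trans T.μ_one.symm))
      · intro e
        exact small_ne.2.2.2.2 (hinj (2, 0, 0, 2) small_ne.2.2.1 (e.trans T.μ_t.symm))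
    have hma' : m * K.ψ (act 27 aV) = K.ψ (act 27 aV) * m := by
      have hta : Commute K.t (K.ψ (act 27 aV)) := ((Two.comm_iff (K := K) _).2 core_lines.2.2.1.2.1).symm
      have hi : Commute m'⁻¹ (K.ψ (act 27 aV)) := (show Commute m' _ from hm'a).inv_left
      rcases k.O_NJ (mul_mem (k.M_O hm) hm'O) hmm with q | q
      · rw [show m = m'⁻¹ from eq_inv_of_mul_eq_one_left q]; exact hi.eq
      · rw [show m = K.t * m'⁻¹ from eq_mul_inv_of_mul_eq q]; exact (hta.mul_left hi).eq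
    rcases k.C_b (k.M_O hm) (Kers.C_line (Or.inl rfl) (h.mem_C.1 (T.M_C hm)) hma') with q | q
    exacts [hne.1 q, hne.2 q]
  have hHb0 : f y₀ ∈ Hb := ⟨y₀, hy₀, rfl⟩
  have hSH : S ≤ Hb := le_trans Subgroup.le_normalizer hNHb
  have hcardY : Nat.card (Y ⧸ Subgroup.zpowers sD) = 720 := by
    rw [Nat.card_congr e6.toEquiv, Nat.card_eq_fintype_card, Fintype.card_perm, Fintype.card_fin]; rfl
  have htop : Hb = ⊤ := by
    set I := N.subgroupOf Hb
    have hI : Subgroup.normalizer ((S.subgroupOf Hb : Subgroup Hb) : Set Hb) = I := by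
      ext g
      constructor
      · intro hg
        exact mem_normalizer_of_conj_mem fun y hy => (Subgroup.mem_normalizer_iff.1 hg ⟨y, hSH hy⟩).1 hy
      · intro hg
        exact mem_normalizer_of_conj_mem fun y hy => (Subgroup.mem_normalizer_iff.1 (show (g : Y ⧸ _) ∈ N from hg) _).1 hy
    obtain ⟨Q, hQ⟩ := (hSp.of_equiv (Subgroup.subgroupOfEquivOfLe hSH).symm).exists_le_sylow
    have hQS : (Q : Subgroup Hb) = S.subgroupOf Hb := by
      refine le_antisymm (fun y hy => ?_) hQ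
      obtain ⟨P', hP'⟩ := (Q.isPGroup'.map Hb.subtype).exists_le_sylow
      have h1 : Nat.card ((Q : Subgroup Hb).map Hb.subtype) ≤ 9 :=
        (Subgroup.card_le_of_le hP').trans (le_of_eq (by
          rw [P'.card_eq_multiplicity, ← P.card_eq_multiplicity, hPS, hS9]))
      rw [Subgroup.card_map_of_injective Hb.subtype_injective] at h1
      have := Subgroup.eq_of_le_of_card_ge hQ (by
        rw [Nat.card_congr (Subgroup.subgroupOfEquivOfLe hSH).toEquiv, hS9]; exact h1)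
      exact this ▸ hy
    have hn3 := Q.card_eq_index_normalizer
    rw [show (Q : Set Hb) = ((S.subgroupOf Hb : Subgroup Hb) : Set Hb) from congrArg SetLike.coe hQS, hI] at hn3
    have hmod := card_sylow_modEq_one 3 Hb
    rw [hn3] at hmod
    have hcI : Nat.card I = 72 := by
      rw [Nat.card_congr (Subgroup.subgroupOfEquivOfLe hNHb).toEquiv, hcN]
    have hmul := I.card_mul_index
    rw [hcI] at hmul
    have hdvd : Nat.card Hb ∣ 720 := hcardY ▸ Subgroup.card_subgroup_dvd_card Hb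
    rw [← hmul] at hdvd
    have hne1 : I.index ≠ 1 := fun q => hy₀N
      (show (⟨f y₀, hHb0⟩ : Hb) ∈ I by rw [Subgroup.index_eq_one.1 q]; exact Subgroup.mem_top _)
    have h10 : I.index = 10 := by
      have hd10 : I.index ∣ 10 := Nat.dvd_of_mul_dvd_mul_left (by norm_num : 0 < 72) (by simpa using hdvd)
      have hle := Nat.le_of_dvd (by norm_num) hd10
      unfold Nat.ModEq at hmod
      interval_cases h : I.index <;> first | omega | (exfalso; revert hd10; decide) | rfl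
    refine Subgroup.eq_top_of_card_eq _ ?_
    rw [hcardY, ← hmul, h10]
  obtain ⟨g, hg, e⟩ : f ⟨x, hY.2 hx⟩ ∈ Hb := htop ▸ Subgroup.mem_top _
  rcases hfk _ _ e with q | q
  · exact (show x = (g : G) from q) ▸ hg
  · rw [show x = (g : G) * T.σ 25 from q]
    exact mul_mem hg (T.σ_mem (r := r) le_rfl 25)

end Eight

end Cfsg.Agent.Recog.ThreeCentSp
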