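import Cfsg.Agent.Lib.Recog.ThreeCentSp.Fusion
import Cfsg.Agent.Lib.Invol.PSp43Am.Table
import Cfsg.Agent.Lib.Invol.PSp43Am.NoTwo
import Cfsg.Agent.Lib.Invol.PSp43.Iso
import Cfsg.Agent.Lib.Classical.SympSimple
import Cfsg.Agent.S0814

/-!
The case of four conjugates: the amalgam of `PSp(4,3)`. A group with such a subgroup of index two is
the automorphism group.
-/

set_option autoImplicit false
set_option linter.unusedSectionVars false
set_option linter.style.haveILetI false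
set_option maxRecDepth 20000

namespace Cfsg.Agent.Recog.ThreeCentSp

open Cfsg.Agent.Invol.PSp43Am (V3 act aV xV yV zV Frame)

theorem code_facts : (∀ k : Fin 24, cols (act k) = cp (cols (act ((k : ℕ) % 4))) (cols (act (4 * ((k : ℕ) / 4)))) ∧
      cols (act (4 * ((k : ℕ) / 4))) ∈ sixM) ∧
    (∀ k : Fin 48, 24 ≤ (k : ℕ) → ∃ j : Fin 24, cp (cols (act k)) (cols (act j)) = cols (act 24)) ∧
    cp (cols (act 24)) (cols (act 1)) = cols (act 25) ∧ cp (cols (act 25)) (cols (act 1)) = cols (act 24) ∧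
    cp (cols (act 25)) (cp cM (cp (cols (act 25)) (cp cM cM))) = cols (act 3) ∧
    cp cM (cp (cols (act 3)) (cp cM cM)) = cols (act 1) := by
  refine ⟨?_, ?_, ?_, ?_, ?_, ?_⟩ <;> decide +kernel

namespace Coords

variable {G : Type*} [Group G] [Finite G] {h : Hyp G} (K : Coords h)

theorem odd_mem_of_index_two {H : Subgroup G} (hH : H.index = 2) {x : G} {n : ℕ} (hx : x ^ n = 1)
    (hn : Odd n) : x ∈ H := by
  obtain ⟨m, rfl⟩ := hn
  have e := pow_mem (Subgroup.sq_mem_of_index_two hH x) (m + 1)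
  rwa [← pow_mul, show 2 * (m + 1) = 2 * m + 1 + 1 by ring, pow_succ, hx, one_mul] at e

theorem C_gen : h.C ≤ Subgroup.closure {x : G | x ∈ h.C ∧ x ^ 81 = 1} := by
  intro x hx
  have hlift : ∀ w : SL3, w ^ 3 = 1 → ∃ y : h.C, h.π y = w ∧ (y : G) ^ 81 = 1 := by
    intro w hw
    obtain ⟨y, hy⟩ := h.π_surj w
    refine ⟨y ^ 64, by rw [map_pow, hy, sl_neg_facts.2.2 w hw], ?_⟩
    rw [← SubgroupClass.coe_pow, ← pow_mul, show 64 * 81 = 648 * 8 from rfl, pow_mul,
      show y ^ 648 = 1 by rw [← h.card_C]; exact pow_card_eq_one', one_pow]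
    rfl
  obtain ⟨u, v, w, hu, hv, hw, huvw⟩ := sl_three_gen' (h.π ⟨x, hx⟩)
  obtain ⟨u', eu, hu'⟩ := hlift u hu
  obtain ⟨v', ev, hv'⟩ := hlift v hv
  obtain ⟨w', ew, hw'⟩ := hlift w hw
  have hr : (((u' * v' * w')⁻¹ * ⟨x, hx⟩ : h.C) : G) ∈ h.R := (h.mem_R_iff _).2 (by
    rw [map_mul, map_inv, map_mul, map_mul, eu, ev, ew, huvw, inv_mul_cancel])
  have hr81 : (((u' * v' * w')⁻¹ * ⟨x, hx⟩ : h.C) : G) ^ 81 = 1 := by
    rw [show 81 = 3 * 27 from rfl, pow_mul, h.R_exp _ hr, one_pow]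
  have hcl : ∀ {y : G}, y ∈ h.C → y ^ 81 = 1 → y ∈ Subgroup.closure {x : G | x ∈ h.C ∧ x ^ 81 = 1} :=
    fun h1 h2 => Subgroup.subset_closure ⟨h1, h2⟩
  have := mul_mem (mul_mem (mul_mem (hcl u'.2 hu') (hcl v'.2 hv')) (hcl w'.2 hw')) (hcl (h.R_le hr) hr81)
  simp only [Subgroup.coe_mul, Subgroup.coe_inv] at this
  rwa [mul_inv_cancel_left] at this

theorem C_le_of_index_two {H : Subgroup G} (hH : H.index = 2) : h.C ≤ H :=
  C_gen.trans ((Subgroup.closure_le _).2 fun _ hx => odd_mem_of_index_two hH hx.2 (by decide))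

/-- a code induced by an element of `H ∩ N(J)` -/
def RealIn (H : Subgroup G) (M : Map3) : Prop :=
  ∃ g ∈ Subgroup.normalizer (h.J : Set G), g ∈ H ∧ ∃ L : V3 →+ V3, K.toBase.ActsAs g L ∧ cols L = M

theorem realIn_cp {H : Subgroup G} {M N : Map3} (hM : K.RealIn H M) (hN : K.RealIn H N) :
    K.RealIn H (cp M N) := by
  obtain ⟨g, hg, hgH, L, hL, rfl⟩ := hM
  obtain ⟨k, hk, hkH, L', hL', rfl⟩ := hN
  exact ⟨g * k, mul_mem hg hk, mul_mem hgH hkH, _, K.toBase.actsAs_mul hL hL', cols_comp L L'⟩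

theorem realIn_six {H : Subgroup G} (hC : h.C ≤ H) {p : Map3} (hp : p ∈ sixM) : K.RealIn H p := by
  have hid : K.RealIn H idM := ⟨1, one_mem _, one_mem _, AddMonoidHom.id V3, fun v => by simp, six_mem.1⟩
  have hc : K.RealIn H cM := ⟨K.c, K.toBase.c_mem_N, hC (h.R_le K.c_R), actH 8, K.toBase.c_actsAs, rfl⟩
  have ht : K.RealIn H tM := ⟨K.t, K.toBase.t_mem_N, hC K.t_C, actH 4, K.toBase.t_actsAs, rfl⟩
  simp only [sixM, List.mem_cons, List.not_mem_nil, or_false] at hp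
  rcases hp with rfl | rfl | rfl | rfl | rfl | rfl
  exacts [hid, hc, K.realIn_cp hc hc, ht, K.realIn_cp ht hc, K.realIn_cp ht (K.realIn_cp hc hc)]

/-- The amalgam of `PSp(4, 3)` inside `H`. -/
theorem exists_frame_in (H : Subgroup G) (hC : h.C ≤ H) (hev : K.RealIn H (cols (act 1)))
    (hno : ¬ K.RealIn H (cols (act 24))) : Nonempty (Frame H) := by
  have hJH : h.J ≤ H := h.J_le.trans hC
  have hreal : ∀ k : Fin 24, K.RealIn H (cols (act k)) := by
    intro k
    obtain ⟨e, hp⟩ := code_facts.1 k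
    rw [e]
    refine K.realIn_cp ?_ (K.realIn_six hC hp)
    have hc := K.realIn_six hC six_mem.2.2.1
    obtain ⟨q0, q1, q2, q3, -⟩ := evens_gen
    have h4 : (k : ℕ) % 4 = 0 ∨ (k : ℕ) % 4 = 1 ∨ (k : ℕ) % 4 = 2 ∨ (k : ℕ) % 4 = 3 := by omega
    rcases h4 with e | e | e | e <;> rw [e]
    · exact q0 ▸ K.realIn_six hC six_mem.2.1
    · exact hev
    · exact q2 ▸ K.realIn_cp hc (K.realIn_cp (q1 ▸ hev) (K.realIn_cp hc hc))
    · exact q3 ▸ K.realIn_cp (K.realIn_cp hc hc) (K.realIn_cp (q1 ▸ hev) hc)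
  have hacts : ∀ g : G, g ∈ H → g ∈ Subgroup.normalizer (h.J : Set G) →
      ∃ k : Fin 24, ∀ v, g * K.ψ v * g⁻¹ = K.ψ (act k v) := by
    intro g hgH hg
    obtain ⟨k, hk⟩ := K.acts g hg
    by_cases h24 : (k : ℕ) < 24
    · exact ⟨⟨k, h24⟩, hk⟩
    obtain ⟨j, hj⟩ := code_facts.2.1 k (by omega)
    exact absurd (hj ▸ K.realIn_cp ⟨g, hg, hgH, actH k, hk, rfl⟩ (hreal j)) hno
  let A2 : Subgroup H := h.C.subgroupOf H
  let e2 : A2 ≃* h.C := Subgroup.subgroupOfEquivOfLe hC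
  refine ⟨{ A1 := (Subgroup.normalizer (h.J : Set G)).subgroupOf H
            A2 := A2
            ψ := fun v => ⟨K.ψ v, hJH (K.ψ_mem v)⟩
            ψ_add := fun u v => Subtype.ext (K.ψ_add u v)
            ψ_inj := fun u v e => K.ψ_inj (congrArg Subtype.val e)
            self := fun x _ hc => ?_, real := fun k => ?_, acts := fun x hx => ?_, norm := fun x hx => ?_
            sig := fun S hS hn => ?_, centA := fun x => ?_
            π := h.π.comp e2.toMonoidHom
            π_surj := h.π_surj.comp e2.surjective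
            card_ker := ?_, ker_max := fun x hx => ?_, ker_nonab := ?_ }⟩
  · obtain ⟨v, hv⟩ := K.ψ_surj _ (h.cent_J (x := (x : G)) fun j hj => by
      obtain ⟨u, rfl⟩ := K.ψ_surj j hj
      exact congrArg Subtype.val (hc u))
    exact ⟨v, Subtype.ext hv⟩
  · obtain ⟨g, hg, hgH, L, hL, e⟩ := hreal k
    refine ⟨⟨g, hgH⟩, hg, fun v => Subtype.ext ?_⟩
    show g * K.ψ v * g⁻¹ = K.ψ (act k v)
    rw [hL v, eq_of_cols (L := L) (M := actH ⟨k, by omega⟩) e v]
    rfl
  · obtain ⟨k, hk⟩ := hacts x x.2 hx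
    exact ⟨k, fun v => Subtype.ext (hk v)⟩
  · refine Cfsg.Agent.Invol.PSp43Am.mem_normalizer_of_conj_mem fun y hy => ?_
    obtain ⟨v, rfl⟩ := K.ψ_surj y hy
    obtain ⟨w, hw⟩ := hx v
    have e : (x : G) * K.ψ v * (x : G)⁻¹ = K.ψ w := congrArg Subtype.val hw
    show (x : G) * K.ψ v * (x : G)⁻¹ ∈ h.J
    rw [e]
    exact K.ψ_mem w
  · have hmap := h.sig (S.map H.subtype) (by
      rwa [Subgroup.card_map_of_injective H.subtype_injective]) fun j hj => by
      obtain ⟨v, rfl⟩ := K.ψ_surj j hj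
      refine Subgroup.eq_of_le_of_card_ge ?_ (le_of_eq ?_)
      · rintro _ ⟨_, ⟨y, hy, rfl⟩, rfl⟩
        exact ⟨_, hn v y hy, rfl⟩
      · rw [Subgroup.card_map_of_injective (f := (MulAut.conj (K.ψ v)).toMonoidHom) (MulEquiv.injective _)]
    rw [eq_bot_iff]
    intro y hy
    have h1 : (y : G) ∈ S.map H.subtype := ⟨y, hy, rfl⟩
    rw [hmap, Subgroup.mem_bot] at h1
    exact Subtype.ext h1
  · show x * (⟨K.ψ aV, _⟩ : H) = ⟨K.ψ aV, _⟩ * x ↔ (x : G) ∈ h.C
    rw [Subtype.ext_iff, h.mem_C]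
    show (x : G) * K.ψ aV = K.ψ aV * x ↔ _
    rw [K.ψ_a]
  · rw [← h.R_card, ← Nat.card_congr (Subgroup.subgroupOfEquivOfLe h.R_le).toEquiv, ← h.π_ker]
    exact Nat.card_congr
      { toFun := fun p => ⟨e2 p, p.2⟩
        invFun := fun r => ⟨e2.symm r, by
          show h.π (e2 (e2.symm r)) = 1
          rw [e2.apply_symm_apply]; exact r.2⟩
        left_inv := fun p => Subtype.ext (e2.symm_apply_apply _)
        right_inv := fun r => Subtype.ext (e2.apply_symm_apply _) }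
  · show h.π (e2 x) = 1
    refine (h.mem_R_iff (e2 x)).1 (h.natural (e2 x).2 fun r hr => ?_)
    have hq := hx (e2.symm ⟨r, h.R_le hr⟩) (by
      show h.π (e2 (e2.symm _)) = 1
      rw [e2.apply_symm_apply]
      exact (h.mem_R_iff _).1 hr)
    obtain ⟨i, hi⟩ := Subgroup.mem_zpowers_iff.1 hq
    refine Subgroup.mem_zpowers_iff.2 ⟨i, ?_⟩
    have := congrArg Subtype.val hi
    simp only [SubgroupClass.coe_zpow, K.ψ_a] at this
    exact this
  · obtain ⟨r, hr, s, hs, hne⟩ : ∃ r ∈ h.R, ∃ s ∈ h.R, r * s ≠ s * r := by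
      by_contra hab
      push Not at hab
      have := Subgroup.card_le_of_le (show h.R ≤ Subgroup.zpowers h.a from fun r hr =>
        h.center_R hr fun q hq => hab r hr q hq)
      rw [h.R_card, h.card_zpow_a] at this
      omega
    have hk : ∀ {q : G} (hq : q ∈ h.R), e2.symm ⟨q, h.R_le hq⟩ ∈ (h.π.comp e2.toMonoidHom).ker := fun hq => by
      show h.π (e2 (e2.symm _)) = 1
      rw [e2.apply_symm_apply]
      exact (h.mem_R_iff _).1 hq
    exact ⟨_, hk hr, _, hk hs, fun e => hne (congrArg (fun q : A2 => ((q : H) : G)) e)⟩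

theorem iso_of_frame {X : Type*} [Group X] [Finite X] (Fr : Frame X) (hX : ∀ H : Subgroup X, H.index ≠ 2)
    (F : Type*) [Field F] [Fintype F] (hF : Fintype.card F = 3) : Nonempty (X ≃* Cfsg.PSp 2 F) := by
  obtain ⟨D⟩ := Fr.exists_pair
  obtain ⟨hS⟩ := D.exists_setting
  haveI : Fact (Nat.Prime 3) := ⟨Nat.prime_three⟩
  haveI : CharP F 3 := charP_of_card_eq_prime (by rw [hF])
  let φ : ZMod 3 →+* F := ZMod.castHom dvd_rfl F
  have hφ : Function.Bijective φ :=
    (Fintype.bijective_iff_injective_and_card _).2 ⟨φ.injective, by rw [ZMod.card, hF]⟩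
  let hP := Cfsg.Agent.Invol.PSp43.setting φ hφ
  haveI : IsSimpleGroup (Cfsg.PSp 2 F) := by
    refine Cfsg.Agent.Classical.PSp_isSimpleGroup (by norm_num) ?_
    exact Cfsg.Agent.Classical.symp_perfect_of_card (Or.inr (Or.inl ⟨rfl, hF.ge⟩))
  refine Cfsg.Agent.Invol.PSp43.iso hS hX hP fun H hH => ?_
  have hle : 576 ≤ Nat.card (Cfsg.PSp 2 F) := hP.card_cent ▸ Subgroup.card_le_card_group _
  rcases (Subgroup.normal_of_index_eq_two hH).eq_bot_or_eq_top with r | r
  · rw [r, Subgroup.index_bot] at hH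
    omega
  · rw [r, Subgroup.index_top] at hH
    omega

/-- A subgroup of index two cannot contain the normaliser of a Sylow 3-subgroup. -/
theorem frattini_two {X : Type*} [Group X] [Finite X] {S : Subgroup X} (hS : S.index = 2) (Q : Sylow 3 X)
    (hN : Subgroup.normalizer ((Q : Subgroup X) : Set X) ≤ S) : False := by
  haveI := Fact.mk Nat.prime_three
  haveI := Subgroup.normal_of_index_eq_two hS
  have hQS : (Q : Subgroup X) ≤ S := Subgroup.le_normalizer.trans hN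
  have hfr := Sylow.normalizer_sup_eq_top (Q.subtype hQS)
  rw [show ((Q.subtype hQS : Sylow 3 S) : Subgroup S).map S.subtype = (Q : Subgroup X) by
    rw [Sylow.coe_subtype, Subgroup.subgroupOf_map_subtype, inf_eq_left.2 hQS]] at hfr
  have : S = ⊤ := top_le_iff.1 (hfr.ge.trans (sup_le hN le_rfl))
  rw [this, Subgroup.index_top] at hS
  omega

theorem normalizer_J_of_P {x : G} (hx : x ∈ Subgroup.normalizer (h.P : Set G)) :
    x ∈ Subgroup.normalizer (h.J : Set G) :=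
  Cfsg.Agent.Invol.PSp43Am.mem_normalizer_of_conj_mem fun y hy => by
    have e := h.unique_J (A := h.J.map (MulAut.conj x).toMonoidHom) ?_ ?_ ?_
    · rw [← e]; exact ⟨y, hy, rfl⟩
    · rintro _ ⟨k, hk, rfl⟩
      exact (Subgroup.mem_normalizer_iff.1 hx k).1 (h.J_le_P hk)
    · rintro _ ⟨k, hk, rfl⟩ _ ⟨l, hl, rfl⟩
      rw [← map_mul, h.J_comm k hk l hl, map_mul]
    · rw [Subgroup.card_map_of_injective (MulEquiv.injective _), h.J_card]

/-- Four conjugates: `PSp(4, 3)`. -/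
theorem psp_of_four (hneg : ¬ K.toBase.Real (cols (act 24))) (hev : K.toBase.Real (cols (act 1)))
    (F : Type*) [Field F] [Fintype F] (hF : Fintype.card F = 3) : Nonempty (G ≃* Cfsg.PSp 2 F) := by
  obtain ⟨g, hg, L, hL, e⟩ := hev
  obtain ⟨Fr⟩ := K.exists_frame_in ⊤ le_top ⟨g, hg, trivial, L, hL, e⟩
    fun ⟨g', hg', _, L', hL', e'⟩ => hneg ⟨g', hg', L', hL', e'⟩
  have hX : ∀ H : Subgroup (⊤ : Subgroup G), H.index ≠ 2 := fun H hH => by
    have hH' : (H.map (⊤ : Subgroup G).subtype).index = 2 := by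
      rw [Subgroup.index_map_subtype, hH, Subgroup.index_top, mul_one]
    obtain ⟨S₀, hS₀⟩ := h.exists_sylow
    refine frattini_two hH' S₀ fun x hx => C_le_of_index_two (h := h) hH' ?_
    rw [hS₀] at hx
    rcases h.normalizer_P hx with e1 | e1
    · exact h.mem_C.2 (mul_inv_eq_iff_eq_mul.1 e1)
    · exact absurd (K.inverted_iff.1 ⟨x, e1⟩) hneg
  obtain ⟨i⟩ := iso_of_frame Fr hX F hF
  exact ⟨Subgroup.topEquiv.symm.trans i⟩

/-- Eight conjugates and a subgroup of index two: the automorphism group. -/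
theorem aut_of_eight (h24 : K.toBase.Real (cols (act 24))) (hev : K.toBase.Real (cols (act 1)))
    {H : Subgroup G} (hH : H.index = 2) (hcard : Nat.card G = 51840)
    (F : Type*) [Field F] [Fintype F] (hF : Fintype.card F = 3) :
    Nonempty (G ≃* MulAut (Cfsg.PSp 2 F)) := by
  haveI := Subgroup.normal_of_index_eq_two hH
  have hC : h.C ≤ H := C_le_of_index_two hH
  have hJH : h.J ≤ H := h.J_le.trans hC
  have hsix := fun {p : Map3} (hp : p ∈ sixM) => K.realIn_six hC hp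
  have h25 : K.toBase.Real (cols (act 25)) := code_facts.2.2.1 ▸ K.toBase.real_cp h24 hev
  have hc := hsix six_mem.2.2.1
  have h1 : K.RealIn H (cols (act 1)) := by
    have h3 : K.RealIn H (cols (act 3)) := by
      obtain ⟨u, hu, L, hL, e⟩ := h25
      obtain ⟨c, hcN, hcH, Lc, hLc, ec⟩ := hc
      refine ⟨u * (c * (u * (c * c))), mul_mem hu (mul_mem hcN (mul_mem hu (mul_mem hcN hcN))), ?_,
        L.comp (Lc.comp (L.comp (Lc.comp Lc))),
        K.toBase.actsAs_mul hL (K.toBase.actsAs_mul hLc (K.toBase.actsAs_mul hL (K.toBase.actsAs_mul hLc hLc))), ?_⟩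
      · rw [show u * (c * (u * (c * c))) = (u * c * u⁻¹) * (u * u) * (c * c) by group]
        exact mul_mem (mul_mem (Subgroup.Normal.conj_mem inferInstance _ hcH u)
          (by rw [← pow_two]; exact Subgroup.sq_mem_of_index_two hH u)) (mul_mem hcH hcH)
      · simp only [cols_comp, e, ec]
        exact code_facts.2.2.2.2.1
    exact code_facts.2.2.2.2.2 ▸ K.realIn_cp hc (K.realIn_cp h3 (K.realIn_cp hc hc))
  have hno : ¬ K.RealIn H (cols (act 24)) := by
    intro hb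
    obtain ⟨S₀, hS₀⟩ := h.exists_sylow
    refine frattini_two hH S₀ fun x hx => ?_
    rw [hS₀] at hx
    rcases h.normalizer_P hx with e1 | e1
    · exact hC (h.mem_C.2 (mul_inv_eq_iff_eq_mul.1 e1))
    obtain ⟨w, -, hwH, L, hL, e⟩ := hb
    have hw : w * h.a * w⁻¹ = h.a⁻¹ := by
      rw [← K.ψ_a, hL, eq_of_cols (L := L) (M := actH 24) e, ← K.toBase.ψ_neg]
      congr 1
    have hwx : w * x ∈ h.C := h.mem_C.2 (mul_inv_eq_iff_eq_mul.1 (by
      calc w * x * h.a * (w * x)⁻¹ = w * (x * h.a * x⁻¹) * w⁻¹ := by group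
        _ = (w * h.a * w⁻¹)⁻¹ := by rw [e1]; group
        _ = h.a := by rw [hw, inv_inv]))
    have := mul_mem (inv_mem hwH) (hC hwx)
    rwa [inv_mul_cancel_left] at this
  obtain ⟨Fr⟩ := K.exists_frame_in H hC h1 hno
  have hHcard : Nat.card H = 25920 := by
    have := Subgroup.card_mul_index H
    rw [hH, hcard] at this
    omega
  have hX : ∀ S : Subgroup H, S.index ≠ 2 := fun S hS => by
    obtain ⟨S₀, hS₀⟩ := h.exists_sylow
    have hS₀H : (S₀ : Subgroup G) ≤ H := hS₀ ▸ h.P_le.trans hC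
    refine frattini_two hS (S₀.subtype hS₀H) fun x hx => ?_
    have hxP : (x : G) ∈ Subgroup.normalizer (h.P : Set G) := by
      refine Cfsg.Agent.Invol.PSp43Am.mem_normalizer_of_conj_mem fun y hy => ?_
      have hy' : y ∈ (S₀ : Subgroup G) := by rw [hS₀]; exact hy
      have hyS : (⟨y, hS₀H hy'⟩ : H) ∈ ((S₀.subtype hS₀H : Sylow 3 H) : Subgroup H) := hy'
      have h2 : (x : G) * y * (x : G)⁻¹ ∈ (S₀ : Subgroup G) := (Subgroup.mem_normalizer_iff.1 hx _).1 hyS
      rwa [hS₀] at h2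
    have hxC : (x : G) ∈ h.C := by
      rcases h.normalizer_P hxP with e1 | e1
      · exact h.mem_C.2 (mul_inv_eq_iff_eq_mul.1 e1)
      obtain ⟨k, hk⟩ := K.acts x (normalizer_J_of_P hxP)
      have h1 := hk aV
      rw [K.ψ_a, e1, ← K.ψ_a, ← K.toBase.ψ_neg] at h1
      obtain ⟨p, hp, hpe⟩ := perm_facts.2.1 k (K.ψ_inj h1).symm
      exact absurd (hpe ▸ K.realIn_cp ⟨x, normalizer_J_of_P hxP, x.2, actH k, hk, rfl⟩
        (K.realIn_six hC hp)) hno
    obtain ⟨y, hy, hxy⟩ : ∃ y ∈ S, (y : G) = x := by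
      refine (Subgroup.closure_le (K := S.map H.subtype)).2 ?_ (C_gen hxC)
      rintro z ⟨hzC, hz⟩
      exact ⟨⟨z, hC hzC⟩, odd_mem_of_index_two (G := H) hS (Subtype.ext hz) (by decide), rfl⟩
    rwa [← Subtype.ext hxy]
  obtain ⟨i⟩ := iso_of_frame Fr hX F hF
  let c := MulAut.conjNormal (G := G) (H := H)
  have hinj : Function.Injective c := by
    rw [← MonoidHom.ker_eq_bot_iff, eq_bot_iff]
    intro x hx
    rw [MonoidHom.mem_ker] at hx
    have hcomm : ∀ y ∈ H, x * y = y * x := fun y hy => by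
      have := congrArg (fun f : MulAut H => ((f ⟨y, hy⟩ : H) : G)) hx
      simp only [c, MulAut.conjNormal_apply, MulAut.one_apply] at this
      exact mul_inv_eq_iff_eq_mul.1 this
    obtain ⟨v, rfl⟩ := K.ψ_surj x (h.cent_J fun j hj => hcomm j (hJH hj))
    have hfix : ∀ g ∈ H, ∀ w, g * K.ψ v * g⁻¹ = K.ψ w → w = v := fun g hg w e => K.ψ_inj (by
      rw [← e, ← hcomm g hg, mul_inv_cancel_right])
    have hv8 : act 8 v = v := hfix _ (hC (h.R_le K.c_R)) _ (K.c_act v)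
    obtain ⟨g, -, hgH, L, hL, e⟩ := h1
    have hv1 : act 1 v = v := by
      have := hfix g hgH _ (hL v)
      rwa [eq_of_cols (L := L) (M := actH 1) e] at this
    have : v = 0 := (show ∀ v : V3, act 8 v = v → act 1 v = v → v = 0 by decide +kernel) v hv8 hv1
    rw [this, K.toBase.ψ_zero]
    exact Subgroup.one_mem _
  haveI := Fact.mk Nat.prime_three
  have hA : Nat.card (MulAut (Cfsg.PSp 2 F)) = 51840 := by
    rw [Cfsg.Agent.S0814.result 3 1 le_rfl (by rw [hF]; norm_num) 2 le_rfl (fun _ => by norm_num),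
      ← Nat.card_congr i.toEquiv, hHcard]
    norm_num
  haveI : Finite (MulAut (Cfsg.PSp 2 F)) := Nat.finite_of_card_ne_zero (by omega)
  refine ⟨MulEquiv.ofBijective ((MulAut.congr i).toMonoidHom.comp c) ?_⟩
  exact (Nat.bijective_iff_injective_and_card _).2
    ⟨(MulAut.congr i).injective.comp hinj, by rw [hA, hcard]⟩

end Coords

end Cfsg.Agent.Recog.ThreeCentSp
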