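import Cfsg.Agent.Lib.Recog.ThreeCentSp.Coord

/-!
Control of fusion in `J`, elements of order three, and the division into four cases by the group
that `N(J)` induces on `J`.
-/

set_option autoImplicit false
set_option linter.unusedSectionVars false
set_option linter.style.haveILetI false
set_option maxRecDepth 20000

namespace Cfsg.Agent.Recog.ThreeCentSp

open Cfsg.Agent.Invol.PSp43Am (V3 act aV xV yV zV pw pw_add basis_decomp act_add)

namespace Hyp

variable {G : Type*} [Group G] [Finite G] (h : Hyp G)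

/-- A 3-subgroup lies in a conjugate of `P`. -/
theorem exists_conj_le {S : Subgroup G} (hS : IsPGroup 3 S) :
    ∃ x : G, ∀ s ∈ S, x * s * x⁻¹ ∈ h.P := by
  haveI := Fact.mk Nat.prime_three
  obtain ⟨P₀, hP₀⟩ := h.exists_sylow
  obtain ⟨Q, hQ⟩ := hS.exists_le_sylow
  obtain ⟨x, hx⟩ := MulAction.exists_smul_eq G Q P₀
  refine ⟨x, fun s hs => ?_⟩
  rw [← hP₀, ← hx, Sylow.coe_subgroup_smul]
  exact ⟨s, hQ hs, rfl⟩

/-- `N(J)` controls fusion in `J`. -/
theorem fusion_J {v w g : G} (hv : v ∈ h.J) (hw : w ∈ h.J) (e : g * v * g⁻¹ = w) :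
    ∃ n ∈ Subgroup.normalizer (h.J : Set G), n * v * n⁻¹ = w := by
  haveI := Fact.mk Nat.prime_three
  set D := Subgroup.centralizer ({w} : Set G) with hD
  have hJ : h.J ≤ D := fun j hj => Subgroup.mem_centralizer_singleton_iff.2 (h.J_comm j hj w hw)
  set J' := h.J.map (MulAut.conj g).toMonoidHom with hJ'def
  have hJ' : J' ≤ D := by
    rintro _ ⟨j, hj, rfl⟩
    refine Subgroup.mem_centralizer_singleton_iff.2 ?_
    show g * j * g⁻¹ * w = w * (g * j * g⁻¹)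
    calc g * j * g⁻¹ * w = g * (j * v) * g⁻¹ := by rw [← e]; group
      _ = g * (v * j) * g⁻¹ := by rw [h.J_comm j hj v hv]
      _ = w * (g * j * g⁻¹) := by rw [← e]; group
  have hp : ∀ K : Subgroup G, Nat.card K = 27 → K ≤ D → IsPGroup 3 (K.subgroupOf D) := fun K hK hKD =>
    IsPGroup.of_card (n := 3) (by
      rw [Nat.card_congr (Subgroup.subgroupOfEquivOfLe hKD).toEquiv, hK]; norm_num)
  have hJ'c : Nat.card J' = 27 := by
    rw [Subgroup.card_map_of_injective (MulEquiv.injective _), h.J_card]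
  obtain ⟨S, hS⟩ := (hp _ h.J_card hJ).exists_le_sylow
  obtain ⟨S', hS'⟩ := (hp J' hJ'c hJ').exists_le_sylow
  obtain ⟨c, hc⟩ := MulAction.exists_smul_eq D S' S
  have hmem : ∀ j ∈ h.J, (c : G) * (g * j * g⁻¹) * (c : G)⁻¹ ∈ (S : Subgroup D).map D.subtype := by
    intro j hj
    have h1 : (⟨g * j * g⁻¹, hJ' ⟨j, hj, rfl⟩⟩ : D) ∈ (S' : Subgroup D) := hS' ⟨j, hj, rfl⟩
    refine ⟨c * ⟨g * j * g⁻¹, hJ' ⟨j, hj, rfl⟩⟩ * c⁻¹, ?_, rfl⟩
    rw [← hc]
    exact ⟨_, h1, rfl⟩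
  have hS3 : IsPGroup 3 ((S : Subgroup D).map D.subtype) := S.isPGroup'.map _
  obtain ⟨x, hx⟩ := h.exists_conj_le hS3
  have key : ∀ A : Subgroup G, A ≤ (S : Subgroup D).map D.subtype → (∀ a ∈ A, ∀ b ∈ A, a * b = b * a) →
      Nat.card A = 27 → A.map (MulAut.conj x).toMonoidHom = h.J := fun A hA hc hA27 => by
    refine h.unique_J ?_ ?_ ?_
    · rintro _ ⟨s, hs, rfl⟩
      exact hx s (hA hs)
    · rintro _ ⟨k, hk, rfl⟩ _ ⟨l, hl, rfl⟩
      rw [← map_mul, hc k hk l hl, map_mul]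
    · rw [Subgroup.card_map_of_injective (MulEquiv.injective _), hA27]
  have e1 := key h.J (fun j hj => ⟨⟨j, hJ hj⟩, hS hj, rfl⟩) h.J_comm h.J_card
  have e2 := key (h.J.map (MulAut.conj ((c : G) * g)).toMonoidHom) (by
      rintro _ ⟨j, hj, rfl⟩
      have := hmem j hj
      rwa [show (c : G) * (g * j * g⁻¹) * (c : G)⁻¹ = (c : G) * g * j * ((c : G) * g)⁻¹ by group] at this)
    (by
      rintro _ ⟨k, hk, rfl⟩ _ ⟨l, hl, rfl⟩
      rw [← map_mul, h.J_comm k hk l hl, map_mul])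
    (by rw [Subgroup.card_map_of_injective (MulEquiv.injective _), h.J_card])
  have e3 : h.J.map (MulAut.conj ((c : G) * g)).toMonoidHom = h.J :=
    Subgroup.map_injective (MulEquiv.injective (MulAut.conj x)) (e2.trans e1.symm)
  refine ⟨(c : G) * g, Cfsg.Agent.Invol.PSp43Am.mem_normalizer_of_conj_mem fun y hy => ?_, ?_⟩
  · rw [← e3]; exact ⟨y, hy, rfl⟩
  · rw [show (c : G) * g * v * ((c : G) * g)⁻¹ = (c : G) * (g * v * g⁻¹) * (c : G)⁻¹ by group, e,
      Subgroup.mem_centralizer_singleton_iff.1 c.2, mul_inv_cancel_right]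

end Hyp

/-- sum of coordinates -/
def wt (v : V3) : ZMod 3 := v.1 + v.2.1 + v.2.2

theorem wt_facts : (∀ v : V3, v + act 8 v + act 8 (act 8 v) = (wt v).val • aV) ∧
    (∀ v : V3, wt v = 0 → ∃ u : V3, v = act 8 u - u) ∧ (∀ u : V3, wt (act 8 u - u) = 0) ∧
    wt zV = 1 ∧ wt aV = 0 ∧ (∀ v : V3, ∃ i : ZMod 3, wt (v + i.val • zV) = 0) := by decide +kernel

namespace Base

variable {G : Type*} [Group G] [Finite G] {h : Hyp G} (B : Base h)

theorem ψ_zero : B.ψ 0 = 1 := by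
  have := B.ψ_add 0 0
  rw [add_zero] at this
  exact mul_left_cancel (a := B.ψ 0) (by rw [← this, mul_one])

theorem ψ_neg (v : V3) : B.ψ (-v) = (B.ψ v)⁻¹ :=
  eq_inv_of_mul_eq_one_left (by rw [← B.ψ_add, neg_add_cancel, B.ψ_zero])

theorem ψ_sub (u v : V3) : B.ψ (u - v) = B.ψ u * (B.ψ v)⁻¹ := by
  rw [sub_eq_add_neg, B.ψ_add, B.ψ_neg]

theorem ψ_nsmul (n : ℕ) (v : V3) : B.ψ (n • v) = B.ψ v ^ n := by
  induction n with
  | zero => rw [zero_smul, pow_zero, B.ψ_zero]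
  | succ n ih => rw [succ_nsmul, B.ψ_add, ih, pow_succ]

theorem ψ_comm (u v : V3) : B.ψ u * B.ψ v = B.ψ v * B.ψ u := by rw [← B.ψ_add, ← B.ψ_add, add_comm]

theorem ψ_C (v : V3) : B.ψ v ∈ h.C := h.J_le (B.ψ_mem v)

theorem ψ_N (v : V3) : B.ψ v ∈ Subgroup.normalizer (h.J : Set G) :=
  Subgroup.le_normalizer (B.ψ_mem v)

theorem R_of_wt {v : V3} (hv : wt v = 0) : B.ψ v ∈ h.R := by
  obtain ⟨u, rfl⟩ := wt_facts.2.1 v hv
  have h1 : B.c * B.ψ u * B.c⁻¹ * (B.ψ u)⁻¹ = B.ψ (act 8 u - u) := by rw [B.c_act, B.ψ_sub]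
  rw [← h1, show B.c * B.ψ u * B.c⁻¹ * (B.ψ u)⁻¹ = B.c * (B.ψ u * B.c⁻¹ * (B.ψ u)⁻¹) by group]
  exact mul_mem B.c_R (h.conj_R (B.ψ_C u) (inv_mem B.c_R))

theorem mem_R_iff (v : V3) : B.ψ v ∈ h.R ↔ wt v = 0 := by
  refine ⟨fun hv => ?_, B.R_of_wt⟩
  by_contra hne
  obtain ⟨j, hj, hjR⟩ := h.J_not_le_R
  obtain ⟨w, rfl⟩ := B.ψ_surj j hj
  refine hjR ?_
  have hs : ∀ x y : ZMod 3, x ≠ 0 → ∃ i : ZMod 3, y + (i.val : ZMod 3) * x = 0 := by decide +kernel
  obtain ⟨i, hi⟩ := hs (wt v) (wt w) hne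
  have h0 : wt (w + i.val • v) = 0 := by
    rw [← hi]
    simp only [wt, Prod.fst_add, Prod.snd_add, Prod.smul_fst, Prod.smul_snd, nsmul_eq_mul,
      Prod.fst_mul, Prod.snd_mul, Prod.fst_natCast, Prod.snd_natCast]
    ring
  have h1 := B.R_of_wt h0
  rw [B.ψ_add, B.ψ_nsmul] at h1
  have := mul_mem h1 (inv_mem (pow_mem hv i.val))
  rwa [mul_inv_cancel_right] at this

theorem P_decomp {p : G} (hp : p ∈ h.P) : ∃ (v : V3) (i : Fin 3), p = B.ψ v * B.c ^ (i : ℕ) := by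
  set f : V3 × Fin 3 → h.P := fun q =>
    ⟨B.ψ q.1 * B.c ^ (q.2 : ℕ), mul_mem (h.J_le_P (B.ψ_mem _)) (pow_mem (h.R_le_P B.c_R) _)⟩
  have hf : Function.Injective f := by
    rintro ⟨u, i⟩ ⟨v, j⟩ e
    have e' : B.ψ u * B.c ^ (i : ℕ) = B.ψ v * B.c ^ (j : ℕ) := congrArg Subtype.val e
    have hm : B.c ^ (i : ℕ) * (B.c ^ (j : ℕ))⁻¹ ∈ h.J := by
      have : B.c ^ (i : ℕ) * (B.c ^ (j : ℕ))⁻¹ = (B.ψ u)⁻¹ * B.ψ v := by
        rw [eq_inv_mul_iff_mul_eq, ← mul_assoc, e', mul_inv_cancel_right]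
      rw [this]
      exact mul_mem (inv_mem (B.ψ_mem u)) (B.ψ_mem v)
    have hc3 := h.R_exp _ B.c_R
    have hij : i = j := by
      by_contra hne
      refine B.c_not_J ?_
      have hc2 : B.c⁻¹ = B.c ^ 2 := by rw [inv_eq_iff_mul_eq_one, ← pow_succ', hc3]
      have hcJ : B.c ∈ h.J ∨ B.c⁻¹ ∈ h.J := by
        fin_cases i <;> fin_cases j <;> simp_all [pow_succ, mul_assoc]
        all_goals first
          | exact Or.inl (by simpa [pow_succ] using h.J.inv_mem hm)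
          | exact Or.inr (by simpa [pow_succ] using h.J.inv_mem hm)
      exact hcJ.elim id fun hh => h.J.inv_mem_iff.1 hh
    subst hij
    exact Prod.ext (B.ψ_inj (mul_right_cancel e')) rfl
  have hb : Function.Bijective f := (Nat.bijective_iff_injective_and_card f).2 ⟨hf, by
    rw [h.card_P, Nat.card_eq_fintype_card]; rfl⟩
  obtain ⟨⟨v, i⟩, e⟩ := hb.2 ⟨p, hp⟩
  exact ⟨v, i, (congrArg Subtype.val e).symm⟩

theorem cube_eq {p : G} {v : V3} {i : Fin 3} (hp : p = B.ψ v * B.c ^ (i : ℕ)) (hi : i ≠ 0) :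
    p ^ 3 = B.ψ ((wt v).val • aV) := by
  have hc : ∀ u, B.c * B.ψ u = B.ψ (act 8 u) * B.c := fun u => by
    rw [← B.c_act, inv_mul_cancel_right]
  have hc3 : B.c * B.c * B.c = 1 := by
    have := h.R_exp _ B.c_R
    rwa [pow_succ, pow_two] at this
  have hiv : (i : ℕ) = 1 ∨ (i : ℕ) = 2 := by
    have := i.2
    have : (i : ℕ) ≠ 0 := fun e => hi (Fin.ext e)
    omega
  have key : ∀ j d : G, (j * d) ^ 3 = j * (d * j * d⁻¹) * (d * (d * j * d⁻¹) * d⁻¹) * (d * d * d) :=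
    fun j d => by simp only [pow_succ, pow_zero, one_mul]; group
  rw [← wt_facts.1, B.ψ_add, B.ψ_add, hp, key]
  rcases hiv with e | e <;> rw [e]
  · rw [pow_one, B.c_act, B.c_act, hc3, mul_one]
  · have h3 : ∀ u : V3, act 8 (act 8 (act 8 u)) = u := by decide +kernel
    have hd : ∀ u, B.c ^ 2 * B.ψ u * (B.c ^ 2)⁻¹ = B.ψ (act 8 (act 8 u)) := fun u => by
      rw [← B.c_act, ← B.c_act, pow_two]; group
    rw [hd, hd, h3, show B.c ^ 2 * B.c ^ 2 * B.c ^ 2 = (B.c * B.c * B.c) * (B.c * B.c * B.c) by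
      simp only [pow_two]; group, hc3, mul_one, mul_one, mul_assoc, B.ψ_comm (act 8 (act 8 v)),
      ← mul_assoc]

include B in
/-- Elements of order three of `P` lie in `J` or in `R`. -/
theorem three_in_P {p : G} (hp : p ∈ h.P) (h3 : p ^ 3 = 1) : p ∈ h.J ∨ p ∈ h.R := by
  obtain ⟨v, i, e⟩ := B.P_decomp hp
  by_cases hi : i = 0
  · subst hi
    rw [Fin.val_zero, pow_zero, mul_one] at e
    exact Or.inl (e ▸ B.ψ_mem v)
  refine Or.inr ?_
  have hw := B.cube_eq e hi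
  rw [h3, ← B.ψ_zero] at hw
  have hv : wt v = 0 := (show ∀ x : ZMod 3, x.val • aV = 0 → x = 0 by decide +kernel) _ (B.ψ_inj hw).symm
  rw [e]
  exact mul_mem (B.R_of_wt hv) (pow_mem B.c_R _)

include B in
/-- Every element of order three is conjugate into `J`; inside `C` when it lies in `R`. -/
theorem conj_into_J {w : G} (hw : w ^ 3 = 1) : ∃ x : G, x * w * x⁻¹ ∈ h.J := by
  obtain ⟨x, hx⟩ := h.exists_conj_le (S := Subgroup.zpowers w) (by
    rintro ⟨y, hy⟩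
    obtain ⟨i, rfl⟩ := Subgroup.mem_zpowers_iff.1 hy
    refine ⟨1, Subtype.ext ?_⟩
    show (w ^ i) ^ 3 ^ 1 = 1
    rw [pow_one, ← zpow_natCast, ← zpow_mul, mul_comm, zpow_mul, zpow_natCast, hw, one_zpow])
  have hp := hx w (Subgroup.mem_zpowers w)
  have hp3 : (x * w * x⁻¹) ^ 3 = 1 := by rw [conj_pow, hw, mul_one, mul_inv_cancel]
  rcases B.three_in_P hp hp3 with hJ | hR
  · exact ⟨x, hJ⟩
  by_cases ha : x * w * x⁻¹ ∈ Subgroup.zpowers h.a
  · exact ⟨x, Subgroup.zpowers_le.2 h.a_mem_J ha⟩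
  have hv : wt ((1, 2, 0) : V3) = 0 := by decide +kernel
  obtain ⟨g, hg, e⟩ := h.transitive hR ha (B.R_of_wt hv) (fun hh => by
    rcases h.mem_zpow_a hh with e | e | e
    · rw [← B.ψ_zero] at e; exact absurd (B.ψ_inj e) (by decide +kernel)
    · rw [← B.ψ_a] at e; exact absurd (B.ψ_inj e) (by decide +kernel)
    · rw [← B.ψ_a, ← B.ψ_neg] at e; exact absurd (B.ψ_inj e) (by decide +kernel))
  refine ⟨g * x, ?_⟩
  rw [show g * x * w * (g * x)⁻¹ = g * (x * w * x⁻¹) * g⁻¹ by group, e]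
  exact B.ψ_mem _

end Base

/-- the six permutations among the codes -/
def permK (k : Fin 48) : Prop := (k : ℕ) % 4 = 0 ∧ (k : ℕ) < 24

instance (k : Fin 48) : Decidable (permK k) := by unfold permK; infer_instance

set_option synthInstance.maxSize 1000 in
theorem perm_facts : (∀ k : Fin 48, permK k → cols (act k) ∈ sixM ∧ act k aV = aV) ∧
    (∀ k : Fin 48, act k aV = -aV → ∃ p ∈ sixM, cp (cols (act k)) p = cols (act 24)) ∧
    (∀ k : Fin 48, ¬ permK k → ∃ p ∈ sixM, ∃ q ∈ sixM, cp p (cp (cols (act k)) q) = cols (act 24) ∨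
      cp p (cp (cols (act k)) q) = cols (act 1) ∨
      ∃ r ∈ sixM, cp (cp p (cp (cols (act k)) q)) (cp r (cp (cols (act k)) q)) = cols (act 1)) :=
  ⟨by decide +kernel, by decide +kernel, by decide +kernel⟩

namespace Coords

variable {G : Type*} [Group G] [Finite G] {h : Hyp G} (K : Coords h)

theorem real_six {p : Map3} (hp : p ∈ sixM) : K.toBase.Real p := by
  have hc := K.toBase.real_c
  have ht := K.toBase.real_t
  simp only [sixM, List.mem_cons, List.not_mem_nil, or_false] at hp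
  rcases hp with rfl | rfl | rfl | rfl | rfl | rfl
  exacts [K.toBase.real_id, hc, K.toBase.real_cp hc hc, ht, K.toBase.real_cp ht hc,
    K.toBase.real_cp ht (K.toBase.real_cp hc hc)]

theorem real_acts {g : G} (hg : g ∈ Subgroup.normalizer (h.J : Set G)) {k : Fin 48}
    (hk : ∀ v, g * K.ψ v * g⁻¹ = K.ψ (act k v)) : K.toBase.Real (cols (act k)) :=
  ⟨g, hg, actH k, hk, rfl⟩

theorem exists_of_real {k : Fin 48} (hk : K.toBase.Real (cols (act k))) :
    ∃ g ∈ Subgroup.normalizer (h.J : Set G), ∀ v, g * K.ψ v * g⁻¹ = K.ψ (act k v) := by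
  obtain ⟨g, hg, L, hL, e⟩ := hk
  exact ⟨g, hg, fun v => by rw [hL v, eq_of_cols (L := L) (M := actH k) e v, actH_apply]⟩

/-- `a` is conjugate to its inverse exactly when `-1` is induced. -/
theorem inverted_iff : h.Inverted ↔ K.toBase.Real (cols (act 24)) := by
  constructor
  · rintro ⟨g, hg⟩
    obtain ⟨n, hn, e⟩ := h.fusion_J h.a_mem_J (inv_mem h.a_mem_J) hg
    obtain ⟨k, hk⟩ := K.acts n hn
    have h1 := hk aV
    rw [K.ψ_a, e] at h1
    have h2 : act k aV = -aV := by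
      refine K.ψ_inj ?_
      rw [← h1, K.toBase.ψ_neg, K.ψ_a]
    obtain ⟨p, hp, hpe⟩ := perm_facts.2.1 k h2
    rw [← hpe]
    exact K.toBase.real_cp (K.real_acts hn hk) (K.real_six hp)
  · intro hr
    obtain ⟨g, -, hg⟩ := K.exists_of_real (k := 24) hr
    refine ⟨g, ?_⟩
    rw [← K.ψ_a, hg, ← K.toBase.ψ_neg]
    congr 1

/-- If neither `-1` nor an even change of sign is induced, `N(J)` permutes the axes. -/
theorem perm_case (h1 : ¬ K.toBase.Real (cols (act 24))) (h2 : ¬ K.toBase.Real (cols (act 1)))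
    {g : G} (hg : g ∈ Subgroup.normalizer (h.J : Set G)) :
    ∃ k : Fin 48, permK k ∧ ∀ v, g * K.ψ v * g⁻¹ = K.ψ (act k v) := by
  obtain ⟨k, hk⟩ := K.acts g hg
  refine ⟨k, by_contra fun hk' => ?_, hk⟩
  have hr := K.real_acts hg hk
  obtain ⟨p, hp, q, hq, e⟩ := perm_facts.2.2 k hk'
  have hpq := K.toBase.real_cp (K.real_six hp) (K.toBase.real_cp hr (K.real_six hq))
  rcases e with e | e | ⟨r, hr', e⟩
  · exact h1 (e ▸ hpq)
  · exact h2 (e ▸ hpq)
  · exact h2 (e ▸ K.toBase.real_cp hpq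
      (K.toBase.real_cp (K.real_six hr') (K.toBase.real_cp hr (K.real_six hq))))

end Coords

end Cfsg.Agent.Recog.ThreeCentSp
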