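import Cfsg.Agent.Lib.Recog.ThreeCentSp.Base
import Cfsg.Agent.Lib.Invol.PSp43Am.Frame
import Mathlib.GroupTheory.Commutator.Basic

/-!
Local structure at the element of order three: the Sylow 3-subgroup, its unique abelian subgroup of
order 27, the central involution of the quotient `SL(2,3)`.
-/

set_option autoImplicit false
set_option linter.unusedSectionVars false
set_option linter.style.haveILetI false
set_option maxRecDepth 20000

namespace Cfsg.Agent.Recog.ThreeCentSp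

open scoped commutatorElement

theorem sl_neg_in_normal : ∀ w : SL3, w ≠ 1 → ∃ c : SL3, ∃ k : Fin 7,
    (c * w * c⁻¹ * w⁻¹) ^ (k : ℕ) = -1 ∨ w ^ (k : ℕ) = -1 := by decide +kernel

theorem sl_norm_three : ∀ w x : SL3, w ^ 3 = 1 → w ≠ 1 → (x * w * x⁻¹ = w ∨ x * w * x⁻¹ = w * w) →
    x = 1 ∨ x = w ∨ x = w * w ∨ x = -1 ∨ x = -w ∨ x = -(w * w) := by decide +kernel

theorem sl_cent_neg : ∀ w x : SL3, w ^ 3 = 1 → w ≠ 1 → x * w = w * x →
    x ^ 3 = 1 ∨ ∃ k : Fin 4, x ^ (k : ℕ) = -1 := by decide +kernel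

theorem sl_three_gen' : ∀ w : SL3, ∃ u v x : SL3, u ^ 3 = 1 ∧ v ^ 3 = 1 ∧ x ^ 3 = 1 ∧ u * v * x = w :=
  Cfsg.Agent.Invol.PSp43Am.sl_three_gen

namespace Hyp

variable {G : Type*} [Group G] [Finite G] (h : Hyp G)

theorem a_cube : h.a ^ 3 = 1 := by rw [← h.ha]; exact pow_orderOf_eq_one _

theorem a_ne : h.a ≠ 1 := fun e => by
  have := h.ha; rw [e, orderOf_one] at this; omega

theorem a_inv_ne : h.a⁻¹ ≠ h.a := fun e => h.a_ne (by
  have h2 : h.a * h.a = 1 := by nth_rewrite 1 [← e]; exact inv_mul_cancel _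
  have h3 := h.a_cube
  rwa [pow_succ, pow_two, h2, one_mul] at h3)

theorem conj_R {g : G} (hg : g ∈ h.C) {r : G} (hr : r ∈ h.R) : g * r * g⁻¹ ∈ h.R := by
  have h1 : (⟨r, h.R_le hr⟩ : h.C) ∈ h.π.ker := by rw [h.π_ker]; exact hr
  have h2 : (⟨g, hg⟩ : h.C) * ⟨r, h.R_le hr⟩ * (⟨g, hg⟩ : h.C)⁻¹ ∈ h.π.ker :=
    Subgroup.Normal.conj_mem inferInstance _ h1 _
  rw [h.π_ker] at h2
  exact h2

theorem mem_R_iff (x : h.C) : (x : G) ∈ h.R ↔ h.π x = 1 := by
  rw [← MonoidHom.mem_ker, h.π_ker]; rfl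

theorem card_C : Nat.card h.C = 648 := by
  show Nat.card ↥(Subgroup.centralizer ({h.a} : Set G)) = 648
  rw [Subgroup.card_eq_card_quotient_mul_card_subgroup h.π.ker,
    Nat.card_congr (QuotientGroup.quotientKerEquivOfSurjective h.π h.π_surj).toEquiv,
    Cfsg.Agent.Invol.PSp43Am.card_SL3, h.π_ker,
    Nat.card_congr (Subgroup.subgroupOfEquivOfLe h.R_le).toEquiv, h.R_card]

theorem R_normal : (h.R.subgroupOf h.C).Normal :=
  ⟨fun _ hn g => h.conj_R g.2 hn⟩

theorem R_le_of_card {S : Subgroup G} (hS : Nat.card S = 81) (hSC : S ≤ h.C) : h.R ≤ S := by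
  haveI := h.R_normal
  exact Cfsg.Agent.Invol.PSp43Am.le_of_normal h.card_C h.R_card h.R_le hS hSC

theorem a_mem_R : h.a ∈ h.R := by
  set A := Subgroup.zpowers (⟨h.a, h.a_mem_C⟩ : h.C) with hA
  haveI : A.Normal := ⟨fun x hx g => by
    obtain ⟨i, rfl⟩ := Subgroup.mem_zpowers_iff.1 hx
    have hc : Commute g (⟨h.a, h.a_mem_C⟩ : h.C) := Subtype.ext (h.mem_C.1 g.2)
    rw [(hc.zpow_right i).eq, mul_inv_cancel_right]
    exact Subgroup.zpow_mem _ (Subgroup.mem_zpowers _) i⟩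
  have hp : IsPGroup 3 A := IsPGroup.of_card (n := 1) (by
    rw [Nat.card_zpowers, ← Subgroup.orderOf_coe, pow_one]; exact h.ha)
  have hle : A ≤ Cfsg.pCore 3 h.C := le_sSup ⟨inferInstance, hp⟩
  rw [h.R_core]
  exact ⟨⟨h.a, h.a_mem_C⟩, hle (Subgroup.mem_zpowers _), rfl⟩

theorem zpow_a_le_R : Subgroup.zpowers h.a ≤ h.R := Subgroup.zpowers_le.2 h.a_mem_R

theorem card_zpow_a : Nat.card (Subgroup.zpowers h.a) = 3 := by rw [Nat.card_zpowers, h.ha]

theorem mem_zpow_a {x : G} (hx : x ∈ Subgroup.zpowers h.a) : x = 1 ∨ x = h.a ∨ x = h.a⁻¹ := by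
  obtain ⟨i, rfl⟩ := Subgroup.mem_zpowers_iff.mp hx
  rw [zpow_eq_zpow_emod i (n := 3) (by exact_mod_cast h.a_cube)]
  have h1 : h.a ^ (2 : ℤ) = h.a⁻¹ := by
    rw [← mul_eq_one_iff_eq_inv, ← zpow_add_one]; exact_mod_cast h.a_cube
  have : i % 3 = 0 ∨ i % 3 = 1 ∨ i % 3 = 2 := by omega
  rcases this with e | e | e
  · left; simp [e]
  · right; left; simp [e]
  · right; right; simp [e, h1]

theorem center_R {x : G} (hx : x ∈ h.R) (hc : ∀ r ∈ h.R, x * r = r * x) :
    x ∈ Subgroup.zpowers h.a := by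
  have hZ : (Subgroup.center h.R).map h.R.subtype = Subgroup.zpowers h.a := by
    refine (Subgroup.eq_of_le_of_card_ge (Subgroup.zpowers_le.2
      (show h.a ∈ (Subgroup.center h.R).map h.R.subtype from
        Subgroup.mem_map.2 ⟨⟨h.a, h.a_mem_R⟩, ?_, rfl⟩)) ?_).symm
    · exact Subgroup.mem_center_iff.2 fun r => Subtype.ext (h.mem_C.1 (h.R_le r.2))
    · rw [Subgroup.card_map_of_injective h.R.subtype_injective, h.R_extra.2, h.card_zpow_a]
  rw [← hZ]
  exact ⟨⟨x, hx⟩, Subgroup.mem_center_iff.2 fun r => Subtype.ext (hc r r.2).symm, rfl⟩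

theorem comm_R {x y : G} (hx : x ∈ h.R) (hy : y ∈ h.R) :
    x * y * x⁻¹ * y⁻¹ ∈ Subgroup.zpowers h.a := by
  have hc : commutator ↥h.R = Subgroup.center ↥h.R := h.R_extra.1.2.2
  have hm : ⁅(⟨x, hx⟩ : h.R), (⟨y, hy⟩ : h.R)⁆ ∈ Subgroup.center ↥h.R :=
    hc ▸ Subgroup.commutator_mem_commutator (Subgroup.mem_top _) (Subgroup.mem_top _)
  refine h.center_R (mul_mem (mul_mem (mul_mem hx hy) (inv_mem hx)) (inv_mem hy)) fun r hr => ?_
  have := congrArg Subtype.val (Subgroup.mem_center_iff.1 hm ⟨r, hr⟩)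
  simpa [commutatorElement_def, mul_assoc] using this.symm

theorem exists_invol_of_neg {y : h.C} (hy : h.π y = -1) :
    h.π (y ^ 27) = -1 ∧ (y ^ 27) * (y ^ 27) = 1 := by
  refine ⟨by rw [map_pow, hy]; decide +kernel, ?_⟩
  have h1 : ((y * y : h.C) : G) ∈ h.R := (h.mem_R_iff _).2 (by
    rw [map_mul, hy]; decide +kernel)
  have h2 : (y * y) ^ 27 = 1 := by
    refine Subtype.ext ?_
    rw [SubgroupClass.coe_pow, show 27 = 3 * 9 from rfl, pow_mul, h.R_exp _ h1, one_pow]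
    rfl
  rw [← (Commute.refl y).mul_pow]
  exact h2

/-- Only `⟨a⟩` centralises `R` in `C`. -/
theorem cent_R {x : G} (hx : x ∈ h.C) (hc : ∀ r ∈ h.R, x * r = r * x) :
    x ∈ Subgroup.zpowers h.a := by
  set K := (Subgroup.centralizer (h.R : Set G)).subgroupOf h.C with hK
  haveI : K.Normal := ⟨fun y hy g => by
    rw [hK, Subgroup.mem_subgroupOf, Subgroup.mem_centralizer_iff] at hy ⊢
    intro r hr
    have h1 := hy _ (h.conj_R (inv_mem g.2) hr)
    simp only [Subgroup.coe_mul, Subgroup.coe_inv, inv_inv] at h1 ⊢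
    calc r * ((g : G) * y * (g : G)⁻¹) = g * (((g : G)⁻¹ * r * g) * y) * (g : G)⁻¹ := by group
      _ = g * (y * ((g : G)⁻¹ * r * g)) * (g : G)⁻¹ := by rw [h1]
      _ = _ := by group⟩
  have hxK : (⟨x, hx⟩ : h.C) ∈ K := Subgroup.mem_centralizer_iff.2 fun r hr => (hc r hr).symm
  by_cases hπ : h.π ⟨x, hx⟩ = 1
  · exact h.center_R ((h.mem_R_iff ⟨x, hx⟩).2 hπ) hc
  exfalso
  obtain ⟨c, k, hk⟩ := sl_neg_in_normal _ hπ
  obtain ⟨c', rfl⟩ := h.π_surj c
  obtain ⟨y, hyK, hy⟩ : ∃ y ∈ K, h.π y = -1 := by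
    rcases hk with hk | hk
    · exact ⟨_, pow_mem (mul_mem (Subgroup.Normal.conj_mem inferInstance _ hxK c') (inv_mem hxK)) k,
        by rw [map_pow, map_mul, map_mul, map_mul, map_inv, map_inv]; exact hk⟩
    · exact ⟨_, pow_mem hxK k, by rw [map_pow]; exact hk⟩
  obtain ⟨ht, htt⟩ := h.exists_invol_of_neg hy
  set t := y ^ 27
  have htK : (t : G) ∈ Subgroup.centralizer (h.R : Set G) := pow_mem hyK 27
  have ht1 : (t : G) ≠ 1 := fun e => by
    rw [show t = 1 from Subtype.ext e, map_one] at ht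
    exact absurd ht (by decide +kernel)
  have htt' : (t : G) * t = 1 := congrArg Subtype.val htt
  have htinv : (t : G)⁻¹ = t := inv_eq_of_mul_eq_one_left htt'
  have hcomm : ∀ j ∈ h.J, j * (t : G) * j⁻¹ = t := by
    intro j hj
    set d := (t : G) * j * (t : G)⁻¹ * j⁻¹ with hd
    have hdR : d ∈ h.R := (h.mem_R_iff ((t * ⟨j, h.J_le hj⟩ * t⁻¹ * (⟨j, h.J_le hj⟩ : h.C)⁻¹))).2
      (by simp only [map_mul, map_inv, ht]
          generalize h.π ⟨j, h.J_le hj⟩ = w
          revert w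
          decide +kernel)
    have htd : (t : G) * d = d * t := (Subgroup.mem_centralizer_iff.1 htK d hdR).symm
    have e1 : d * d = 1 := by
      have : (t : G) * d * (t : G)⁻¹ = d⁻¹ := by
        rw [hd]; simp only [mul_inv_rev, inv_inv, htinv]
        calc (t : G) * (t * j * t * j⁻¹) * t = (t * t) * j * t * j⁻¹ * t := by group
          _ = j * (t * (j⁻¹ * t)) := by rw [htt', one_mul]; group
      rw [htd, mul_inv_cancel_right] at this
      nth_rewrite 1 [this]
      exact inv_mul_cancel d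
    have e3 := h.R_exp d hdR
    rw [pow_succ, pow_two, e1, one_mul] at e3
    rw [hd, mul_inv_eq_one, mul_inv_eq_iff_eq_mul] at e3
    rw [← e3, mul_inv_cancel_right]
  have ho : orderOf (t : G) = 2 := orderOf_eq_prime (by rw [pow_two]; exact htt') ht1
  refine ht1 (Subgroup.zpowers_eq_bot.1 (h.sig (Subgroup.zpowers (t : G)) ?_ fun j hj => ?_))
  · rw [Nat.card_zpowers, ho]; norm_num
  · rw [MonoidHom.map_zpowers]
    exact congrArg Subgroup.zpowers (hcomm j hj)

theorem a_mem_J : h.a ∈ h.J := by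
  by_contra ha
  have hdis : Subgroup.zpowers h.a ⊓ h.J = ⊥ := by
    rw [eq_bot_iff]
    rintro x ⟨hx, hxJ⟩
    rcases h.mem_zpow_a hx with rfl | rfl | rfl
    · exact Subgroup.one_mem _
    · exact absurd hxJ ha
    · exact absurd (h.J.inv_mem_iff.1 hxJ) ha
  set S : Subgroup G := Subgroup.closure ((h.J : Set G) ∪ {h.a}) with hS
  have hcomm : ∀ x ∈ (h.J : Set G) ∪ {h.a}, ∀ y ∈ (h.J : Set G) ∪ {h.a}, x * y = y * x := by
    rintro x (hx | hx) y (hy | hy)
    · exact h.J_comm x hx y hy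
    · rw [Set.mem_singleton_iff.1 hy]; exact h.mem_C.1 (h.J_le hx)
    · rw [Set.mem_singleton_iff.1 hx]; exact (h.mem_C.1 (h.J_le hy)).symm
    · rw [Set.mem_singleton_iff.1 hx, Set.mem_singleton_iff.1 hy]
  letI : CommGroup S := Subgroup.closureCommGroupOfComm hcomm
  have hSC : S ≤ h.C := (Subgroup.closure_le _).2 (by
    rintro x (hx | hx)
    · exact h.J_le hx
    · rw [Set.mem_singleton_iff.1 hx]; exact h.a_mem_C)
  have hexp : ∀ s : S, s ^ 3 = 1 := by
    intro s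
    obtain ⟨s, hs⟩ := s
    refine Subgroup.closure_induction (p := fun x hx => (⟨x, hx⟩ : S) ^ 3 = 1) ?_ (one_pow 3)
      (fun x y hx hy ex ey => ?_) (fun x hx ex => ?_) hs
    · rintro x (hx | hx)
      · exact Subtype.ext (h.J_exp x hx)
      · exact Subtype.ext (by
          show x ^ 3 = 1
          rw [Set.mem_singleton_iff.1 hx]; exact h.a_cube)
    · rw [show (⟨x * y, _⟩ : S) = ⟨x, hx⟩ * ⟨y, hy⟩ from rfl, mul_pow, ex, ey, one_mul]
    · rw [show (⟨x⁻¹, _⟩ : S) = (⟨x, hx⟩ : S)⁻¹ from rfl, inv_pow, ex, inv_one]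
  haveI := Fact.mk Nat.prime_three
  obtain ⟨n, hn⟩ := IsPGroup.iff_card.1 (show IsPGroup 3 S from fun s => ⟨1, by rw [pow_one]; exact hexp s⟩)
  have hJS : h.J ≤ S := fun x hx => Subgroup.subset_closure (Or.inl hx)
  have hlt : 27 < Nat.card S := by
    rw [← h.J_card]
    refine lt_of_le_of_ne (Subgroup.card_le_of_le hJS) fun e => ha ?_
    rw [Subgroup.eq_of_le_of_card_ge hJS e.ge]
    exact Subgroup.subset_closure (Or.inr rfl)
  have hd : 3 ^ n ∣ 648 := hn ▸ h.card_C ▸ Subgroup.card_dvd_of_le hSC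
  have hn4 : n ≤ 4 := by
    by_contra hc
    have := (pow_dvd_pow 3 (show 5 ≤ n by omega)).trans hd
    norm_num at this
  have hS81 : Nat.card S = 81 := by
    have : 4 ≤ n := by
      by_contra hc
      have := Nat.pow_le_pow_right (show 0 < 3 by norm_num) (show n ≤ 3 by omega)
      norm_num at this
      omega
    rw [hn, show n = 4 by omega]
    norm_num
  have hRS := h.R_le_of_card hS81 hSC
  have := Subgroup.card_le_of_le (show h.R ≤ Subgroup.zpowers h.a from fun r hr => h.center_R hr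
    fun q hq => congrArg Subtype.val (mul_comm (⟨r, hRS hr⟩ : S) ⟨q, hRS hq⟩))
  rw [h.R_card, h.card_zpow_a] at this
  omega

theorem exists_P : ∃ P : Subgroup G, Nat.card P = 81 ∧ P ≤ h.C ∧ h.R ≤ P ∧ h.J ≤ P := by
  haveI := Fact.mk Nat.prime_three
  have hJ : IsPGroup 3 (h.J.subgroupOf h.C) := IsPGroup.of_card (n := 3) (by
    rw [Nat.card_congr (Subgroup.subgroupOfEquivOfLe h.J_le).toEquiv, h.J_card]; norm_num)
  obtain ⟨Q, hQ⟩ := hJ.exists_le_sylow
  have hQc : Nat.card Q = 81 := by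
    rw [Sylow.card_eq_multiplicity, h.card_C, show 648 = 3 ^ 4 * 8 by norm_num,
      Nat.factorization_mul (by norm_num) (by norm_num), Finsupp.add_apply,
      Nat.Prime.factorization_pow Nat.prime_three, Finsupp.single_eq_same,
      Nat.factorization_eq_zero_of_not_dvd (by norm_num)]
    norm_num
  have hc : Nat.card ((Q : Subgroup h.C).map h.C.subtype) = 81 := by
    rw [Subgroup.card_map_of_injective h.C.subtype_injective, hQc]
  exact ⟨_, hc, Subgroup.map_subtype_le _, h.R_le_of_card hc (Subgroup.map_subtype_le _),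
    fun x hx => ⟨⟨x, h.J_le hx⟩, hQ hx, rfl⟩⟩

/-- A Sylow 3-subgroup containing `R` and `J`. -/
noncomputable def P : Subgroup G := h.exists_P.choose

theorem card_P : Nat.card h.P = 81 := h.exists_P.choose_spec.1
theorem P_le : h.P ≤ h.C := h.exists_P.choose_spec.2.1
theorem R_le_P : h.R ≤ h.P := h.exists_P.choose_spec.2.2.1
theorem J_le_P : h.J ≤ h.P := h.exists_P.choose_spec.2.2.2

theorem card_eq_of_lt {A S : Subgroup G} (hS : Nat.card S = 81) (hA : A ≤ S) (hlt : 27 < Nat.card A) :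
    A = S := by
  refine Subgroup.eq_of_le_of_card_ge hA ?_
  have hd := Subgroup.card_dvd_of_le hA
  rw [hS, show (81 : ℕ) = 3 ^ 4 by norm_num, Nat.dvd_prime_pow Nat.prime_three] at hd
  obtain ⟨i, hi, he⟩ := hd
  rw [he] at hlt ⊢
  rw [hS]
  interval_cases i <;> simp_all

theorem unique_J {A : Subgroup G} (hA : A ≤ h.P) (hc : ∀ x ∈ A, ∀ y ∈ A, x * y = y * x)
    (hA27 : Nat.card A = 27) : A = h.J := by
  by_contra hne
  have hsup : A ⊔ h.J = h.P := card_eq_of_lt h.card_P (sup_le hA h.J_le_P) (by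
    rw [← hA27]
    refine lt_of_le_of_ne (Subgroup.card_le_of_le le_sup_left) fun e => hne ?_
    have he := Subgroup.eq_of_le_of_card_ge le_sup_left e.ge
    exact (Subgroup.eq_of_le_of_card_ge (le_sup_right.trans he.ge) (by rw [hA27, h.J_card])).symm)
  have hZ : A ⊓ h.J ≤ Subgroup.zpowers h.a := by
    rintro z ⟨hzA, hzJ⟩
    refine h.cent_R (h.J_le hzJ) fun r hr => ?_
    have hle : A ⊔ h.J ≤ Subgroup.centralizer ({z} : Set G) := sup_le
      (fun y hy => Subgroup.mem_centralizer_singleton_iff.2 (hc y hy z hzA))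
      (fun y hy => Subgroup.mem_centralizer_singleton_iff.2 (h.J_comm y hy z hzJ))
    exact (Subgroup.mem_centralizer_singleton_iff.1 (hle (hsup.symm ▸ h.R_le_P hr))).symm
  have h3 := Subgroup.card_le_of_le hZ
  rw [h.card_zpow_a] at h3
  have hAP : A.relIndex h.P = 3 := by
    have := Subgroup.card_mul_index (A.subgroupOf h.P)
    rw [Nat.card_congr (Subgroup.subgroupOfEquivOfLe hA).toEquiv, hA27, h.card_P] at this
    show (A.subgroupOf h.P).index = 3
    omega
  have hAJ : A.relIndex h.J ≤ 3 := hAP ▸ Subgroup.relIndex_le_of_le_right h.J_le_P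
    (by rw [hAP]; norm_num)
  have h4 : Nat.card ↥(A ⊓ h.J) * A.relIndex h.J = 27 := by
    rw [← h.J_card, ← Subgroup.card_mul_index (A.subgroupOf h.J),
      Nat.card_congr ((Subgroup.subgroupOfEquivOfLe (show A ⊓ h.J ≤ h.J from inf_le_right)).toEquiv).symm,
      Subgroup.inf_subgroupOf_right]
    rfl
  have := Nat.mul_le_mul h3 hAJ
  omega

theorem J_normal_P {x : G} (hx : x ∈ h.P) {j : G} (hj : j ∈ h.J) : x * j * x⁻¹ ∈ h.J := by
  have e := h.unique_J (A := h.J.map (MulAut.conj x).toMonoidHom) ?_ ?_ ?_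
  · rw [← e]; exact ⟨j, hj, rfl⟩
  · rintro _ ⟨k, hk, rfl⟩
    exact mul_mem (mul_mem hx (h.J_le_P hk)) (inv_mem hx)
  · rintro _ ⟨k, hk, rfl⟩ _ ⟨l, hl, rfl⟩
    rw [← map_mul, h.J_comm k hk l hl, map_mul]
  · rw [Subgroup.card_map_of_injective (MulEquiv.injective _), h.J_card]

theorem cent_J {x : G} (hx : ∀ j ∈ h.J, x * j = j * x) : x ∈ h.J := by
  haveI := Fact.mk Nat.prime_three
  have hxC : x ∈ h.C := h.mem_C.2 (hx _ h.a_mem_J)
  obtain ⟨j, hj, hjR⟩ : ∃ j ∈ h.J, j ∉ h.R := by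
    by_contra hn
    push Not at hn
    have hJR := Subgroup.eq_of_le_of_card_ge hn (by rw [h.R_card, h.J_card])
    have := Subgroup.card_le_of_le (show h.R ≤ Subgroup.zpowers h.a from fun r hr =>
      h.center_R hr fun q hq => h.J_comm r (hJR ▸ hr) q (hJR ▸ hq))
    rw [h.R_card, h.card_zpow_a] at this
    omega
  set X := Subgroup.centralizer (h.J : Set G) with hX
  have hXmem : ∀ y ∈ X, ∀ j ∈ h.J, y * j = j * y := fun y hy j hj =>
    (Subgroup.mem_centralizer_iff.1 hy j hj).symm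
  have hXC : X ≤ h.C := fun y hy => h.mem_C.2 (hXmem y hy _ h.a_mem_J)
  have hp : ∀ y : X, y ^ 81 = 1 := by
    rintro ⟨y, hy⟩
    refine Subtype.ext ?_
    show y ^ 81 = 1
    set w := h.π ⟨j, h.J_le hj⟩ with hw
    have hw1 : w ≠ 1 := fun e => hjR ((h.mem_R_iff ⟨j, h.J_le hj⟩).2 e)
    have hw3 : w ^ 3 = 1 := by
      rw [hw, ← map_pow, show (⟨j, h.J_le hj⟩ : h.C) ^ 3 = 1 from Subtype.ext (h.J_exp j hj), map_one]
    have hcm : h.π ⟨y, hXC hy⟩ * w = w * h.π ⟨y, hXC hy⟩ := by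
      rw [hw, ← map_mul, ← map_mul]
      exact congrArg h.π (Subtype.ext (hXmem y hy j hj))
    rcases sl_cent_neg w _ hw3 hw1 hcm with h3 | ⟨k, hk⟩
    · have : ((⟨y, hXC hy⟩ : h.C) ^ 3 : h.C).1 ∈ h.R := (h.mem_R_iff _).2 (by rw [map_pow, h3])
      rw [show 81 = 3 * (3 * 9) from rfl, pow_mul, pow_mul,
        show (y ^ 3) ^ 3 = 1 from h.R_exp _ this, one_pow]
    · exfalso
      obtain ⟨ht, htt⟩ := h.exists_invol_of_neg (y := (⟨y, hXC hy⟩ : h.C) ^ (k : ℕ))
        (by rw [map_pow]; exact hk)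
      set t := ((⟨y, hXC hy⟩ : h.C) ^ (k : ℕ)) ^ 27
      have htX : (t : G) ∈ X := pow_mem (pow_mem hy _) _
      have ht1 : (t : G) ≠ 1 := fun e => by
        rw [show t = 1 from Subtype.ext e, map_one] at ht
        exact absurd ht (by decide +kernel)
      have ho : orderOf (t : G) = 2 :=
        orderOf_eq_prime (by rw [pow_two]; exact congrArg Subtype.val htt) ht1
      refine ht1 (Subgroup.zpowers_eq_bot.1 (h.sig (Subgroup.zpowers (t : G)) ?_ fun i hi => ?_))
      · rw [Nat.card_zpowers, ho]; norm_num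
      · rw [MonoidHom.map_zpowers]
        refine congrArg Subgroup.zpowers ?_
        show i * (t : G) * i⁻¹ = t
        rw [← hXmem t htX i hi, mul_inv_cancel_right]
  obtain ⟨n, hn⟩ := IsPGroup.iff_card.1 (show IsPGroup 3 X from fun y => ⟨4, hp y⟩)
  have hJX : h.J ≤ X := fun j hj => Subgroup.mem_centralizer_iff.2 fun i hi => h.J_comm i hi j hj
  have hxX : x ∈ X := Subgroup.mem_centralizer_iff.2 fun i hi => (hx i hi).symm
  by_contra hxJ
  have hlt : 27 < Nat.card X := h.J_card ▸ lt_of_le_of_ne (Subgroup.card_le_of_le hJX)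
    fun e => hxJ (Subgroup.eq_of_le_of_card_ge hJX e.ge ▸ hxX)
  have hd : 3 ^ n ∣ 648 := hn ▸ h.card_C ▸ Subgroup.card_dvd_of_le hXC
  have hn4 : n ≤ 4 := by
    by_contra hc
    have := (pow_dvd_pow 3 (show 5 ≤ n by omega)).trans hd
    norm_num at this
  have hX81 : Nat.card X = 81 := by
    have : 4 ≤ n := by
      by_contra hc
      have := Nat.pow_le_pow_right (show 0 < 3 by norm_num) (show n ≤ 3 by omega)
      norm_num at this
      omega
    rw [hn, show n = 4 by omega]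
    norm_num
  have hRX := h.R_le_of_card hX81 hXC
  have hRJ : ∀ i ∈ h.J, i ∈ Subgroup.zpowers h.a := fun i hi =>
    h.cent_R (h.J_le hi) fun r hr => (hXmem r (hRX hr) i hi).symm
  have := Subgroup.card_le_of_le hRJ
  rw [h.J_card, h.card_zpow_a] at this
  omega

theorem center_P {z : G} (hz : z ∈ h.P) (hc : ∀ x ∈ h.P, z * x = x * z) :
    z ∈ Subgroup.zpowers h.a :=
  h.cent_R (h.P_le hz) fun r hr => hc r (h.R_le_P hr)

theorem exists_sylow : ∃ S : Sylow 3 G, (S : Subgroup G) = h.P := by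
  haveI := Fact.mk Nat.prime_three
  obtain ⟨S, hS⟩ := (IsPGroup.of_card (p := 3) (n := 4) (G := h.P) (by rw [h.card_P]; norm_num)).exists_le_sylow
  refine ⟨S, (Subgroup.eq_of_le_of_card_ge hS ?_).symm⟩
  haveI : Nontrivial (S : Subgroup G) := by
    rw [Subgroup.nontrivial_iff_ne_bot]
    intro e
    have := Subgroup.card_le_of_le (hS.trans e.le)
    rw [h.card_P, Subgroup.card_bot] at this
    omega
  haveI := S.isPGroup'.center_nontrivial
  obtain ⟨z, hz⟩ := exists_ne (1 : Subgroup.center (S : Subgroup G))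
  have hzc : ∀ x ∈ (S : Subgroup G), ((z : (S : Subgroup G)) : G) * x = x * ((z : (S : Subgroup G)) : G) :=
    fun x hx => congrArg Subtype.val (Subgroup.mem_center_iff.1 z.2 ⟨x, hx⟩).symm
  have hza := h.cent_R (h.mem_C.2 (hzc _ (hS (h.J_le_P h.a_mem_J))))
    fun r hr => hzc r (hS (h.R_le_P hr))
  have hz1 : ((z : (S : Subgroup G)) : G) ≠ 1 := fun e => hz (Subtype.ext (Subtype.ext e))
  have hSC : (S : Subgroup G) ≤ h.C := fun x hx => h.mem_C.2 (by
    rcases h.mem_zpow_a hza with e | e | e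
    · exact absurd e hz1
    · have := hzc x hx; rw [e] at this; exact this.symm
    · have := hzc x hx
      rw [e] at this
      exact (inv_inv h.a ▸ (show Commute h.a⁻¹ x from this).inv_left).eq.symm)
  obtain ⟨n, hn⟩ := IsPGroup.iff_card.1 S.isPGroup'
  have hd : 3 ^ n ∣ 648 := hn ▸ h.card_C ▸ Subgroup.card_dvd_of_le hSC
  have hn4 : n ≤ 4 := by
    by_contra hc
    have := (pow_dvd_pow 3 (show 5 ≤ n by omega)).trans hd
    norm_num at this
  rw [hn, h.card_P]
  calc 3 ^ n ≤ 3 ^ 4 := Nat.pow_le_pow_right (by norm_num) hn4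
    _ = 81 := by norm_num

theorem normalizer_P {g : G} (hg : g ∈ Subgroup.normalizer (h.P : Set G)) :
    g * h.a * g⁻¹ = h.a ∨ g * h.a * g⁻¹ = h.a⁻¹ := by
  have hm := Subgroup.mem_normalizer_iff.1 hg
  have haP : h.a ∈ h.P := h.J_le_P h.a_mem_J
  have := h.center_P ((hm _).1 haP) fun x hx => by
    have hy : g⁻¹ * x * g ∈ h.P := (hm _).2 (by simpa [mul_assoc] using hx)
    have e := h.mem_C.1 (h.P_le hy)
    calc g * h.a * g⁻¹ * x = g * (h.a * (g⁻¹ * x * g)) * g⁻¹ := by group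
      _ = g * (g⁻¹ * x * g * h.a) * g⁻¹ := by rw [e]
      _ = _ := by group
  rcases h.mem_zpow_a this with e | e | e
  · exact absurd (conj_eq_one_iff.1 e) h.a_ne
  · exact Or.inl e
  · exact Or.inr e

end Hyp

end Cfsg.Agent.Recog.ThreeCentSp
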