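import Cfsg.Agent.Lib.Recog.ThreeCentSp.Local

/-!
The action of the centraliser on the extraspecial group modulo its centre: faithful, the central
involution inverts, transitive on the eight non-trivial cosets, stabilisers of order three.
-/

set_option autoImplicit false
set_option linter.unusedSectionVars false
set_option linter.style.haveILetI false
set_option maxRecDepth 20000

namespace Cfsg.Agent.Recog.ThreeCentSp

theorem sl_two_threes : ∀ w x : SL3, w ≠ 1 → ∃ k : Fin 7,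
    w ^ (k : ℕ) = -1 ∨ (x * w) ^ (k : ℕ) = -1 ∨ x ^ (k : ℕ) = -1 ∨ x = 1 ∨ x = w ∨ x = w * w := by
  decide +kernel

theorem sl_neg_facts : (-1 : SL3) ≠ 1 ∧ (-1 : SL3) * -1 = 1 ∧ ∀ w : SL3, w ^ 3 = 1 → w ^ 64 = w := by
  decide +kernel

namespace Hyp

variable {G : Type*} [Group G] [Finite G] (h : Hyp G)

theorem a_pow_comm {x r : G} (hx : x ∈ Subgroup.zpowers h.a) (hr : r ∈ h.C) : r * x * r⁻¹ = x := by
  obtain ⟨i, rfl⟩ := Subgroup.mem_zpowers_iff.1 hx
  rw [((show Commute r h.a from h.mem_C.1 hr).zpow_right i).eq, mul_inv_cancel_right]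

theorem two_zpow {x : G} (hx : x ∈ Subgroup.zpowers h.a) (h2 : x * x = 1) : x = 1 := by
  rcases h.mem_zpow_a hx with e | e | e
  · exact e
  all_goals exfalso
  all_goals rw [e] at h2
  · exact h.a_inv_ne (inv_eq_of_mul_eq_one_left h2)
  · exact h.a_inv_ne (by simpa using (inv_eq_of_mul_eq_one_left h2).symm)

/-- `g` fixes the coset of `r` modulo `⟨a⟩`. -/
def Fixes (g r : G) : Prop := g * r * g⁻¹ * r⁻¹ ∈ Subgroup.zpowers h.a

theorem fixes_mul_right {g r s : G} (hr : h.Fixes g r) (hs : h.Fixes g s) (hrC : r ∈ h.C) :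
    h.Fixes g (r * s) := by
  unfold Fixes at *
  have e : g * (r * s) * g⁻¹ * (r * s)⁻¹ =
      g * r * g⁻¹ * r⁻¹ * (r * (g * s * g⁻¹ * s⁻¹) * r⁻¹) := by group
  rw [e, h.a_pow_comm hs hrC]
  exact mul_mem hr hs

theorem fixes_mul_left {g k r : G} (hg : h.Fixes g r) (hk : h.Fixes k r) (hgC : g ∈ h.C) :
    h.Fixes (g * k) r := by
  unfold Fixes at *
  have e : g * k * r * (g * k)⁻¹ * r⁻¹ = g * (k * r * k⁻¹ * r⁻¹) * g⁻¹ * (g * r * g⁻¹ * r⁻¹) := by
    group
  rw [e, h.a_pow_comm hk hgC]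
  exact mul_mem hk hg

theorem fixes_R {g r : G} (hg : g ∈ h.R) (hr : r ∈ h.R) : h.Fixes g r := h.comm_R hg hr

theorem fixes_comm {g r : G} (he : g * r = r * g) : h.Fixes g r := by
  unfold Fixes
  rw [he, mul_inv_cancel_right, mul_inv_cancel]
  exact one_mem _

theorem fixes_inv {g r : G} (hg : g ∈ h.C) (hf : h.Fixes g r) : h.Fixes g⁻¹ r := by
  unfold Fixes at *
  have e : g⁻¹ * r * g⁻¹⁻¹ * r⁻¹ = g⁻¹ * (g * r * g⁻¹ * r⁻¹)⁻¹ * g⁻¹⁻¹ := by group
  rw [e, h.a_pow_comm (inv_mem hf) (inv_mem hg)]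
  exact inv_mem hf

/-- Elements of `C` fixing the coset of `r`. -/
def stab (r : G) : Subgroup G where
  carrier := {g | g ∈ h.C ∧ h.Fixes g r}
  mul_mem' := fun ⟨a1, a2⟩ ⟨b1, b2⟩ => ⟨mul_mem a1 b1, h.fixes_mul_left a2 b2 a1⟩
  one_mem' := ⟨one_mem _, h.fixes_comm (by simp)⟩
  inv_mem' := fun ⟨a1, a2⟩ => ⟨inv_mem a1, h.fixes_inv a1 a2⟩

theorem mem_stab {g r : G} : g ∈ h.stab r ↔ g ∈ h.C ∧ h.Fixes g r := Iff.rfl

theorem exists_invol {x : h.C} (hx : h.π x = -1) :
    ∃ t : G, ∃ ht : t ∈ h.C, t * t = 1 ∧ h.π ⟨t, ht⟩ = -1 ∧ ∀ S : Subgroup G, (x : G) ∈ S → t ∈ S := by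
  obtain ⟨h1, h2⟩ := h.exists_invol_of_neg hx
  exact ⟨_, (x ^ 27).2, congrArg Subtype.val h2, h1, fun S hS => by
    rw [SubgroupClass.coe_pow]; exact pow_mem hS 27⟩

theorem neg_ne_one {t : G} {ht : t ∈ h.C} (hπ : h.π ⟨t, ht⟩ = -1) : t ∉ h.R := fun hR =>
  sl_neg_facts.1 (hπ.symm.trans ((h.mem_R_iff ⟨t, ht⟩).1 hR))

/-- The action on `R / ⟨a⟩` is faithful. -/
theorem natural {g : G} (hg : g ∈ h.C) (hf : ∀ r ∈ h.R, h.Fixes g r) : g ∈ h.R := by
  by_contra hgR
  set K : Subgroup h.C := ⨅ r : h.R, (h.stab (r : G)).subgroupOf h.C with hK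
  have hmem : ∀ y : h.C, y ∈ K ↔ ∀ r ∈ h.R, h.Fixes (y : G) r := by
    intro y
    simp only [hK, Subgroup.mem_iInf, Subgroup.mem_subgroupOf, Subtype.forall]
    exact ⟨fun hy r hr => (hy r hr).2, fun hy r hr => ⟨y.2, hy r hr⟩⟩
  haveI : K.Normal := ⟨fun y hy c => by
    rw [hmem] at hy ⊢
    intro r hr
    have h1 := hy _ (h.conj_R (inv_mem c.2) hr)
    unfold Fixes at h1 ⊢
    have e : ((c * y * c⁻¹ : h.C) : G) * r * ((c * y * c⁻¹ : h.C) : G)⁻¹ * r⁻¹ =
        (c : G) * ((y : G) * ((c : G)⁻¹ * r * ((c : G)⁻¹)⁻¹) * (y : G)⁻¹ *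
          ((c : G)⁻¹ * r * ((c : G)⁻¹)⁻¹)⁻¹) * (c : G)⁻¹ := by
      simp only [Subgroup.coe_mul, Subgroup.coe_inv]; group
    rw [e, h.a_pow_comm h1 c.2]
    exact h1⟩
  have hgK : (⟨g, hg⟩ : h.C) ∈ K := (hmem _).2 hf
  have hπ : h.π ⟨g, hg⟩ ≠ 1 := fun e => hgR ((h.mem_R_iff ⟨g, hg⟩).2 e)
  obtain ⟨c, k, hk⟩ := sl_neg_in_normal _ hπ
  obtain ⟨c', rfl⟩ := h.π_surj c
  obtain ⟨y, hyK, hy⟩ : ∃ y ∈ K, h.π y = -1 := by
    rcases hk with hk | hk
    · exact ⟨_, pow_mem (mul_mem (Subgroup.Normal.conj_mem inferInstance _ hgK c') (inv_mem hgK)) k,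
        by rw [map_pow, map_mul, map_mul, map_mul, map_inv, map_inv]; exact hk⟩
    · exact ⟨_, pow_mem hgK k, by rw [map_pow]; exact hk⟩
  obtain ⟨h1, h2⟩ := h.exists_invol_of_neg hy
  set t := y ^ 27
  have htt : (t : G) * t = 1 := congrArg Subtype.val h2
  have htK := (hmem t).1 (pow_mem hyK 27)
  have hcen : ∀ r ∈ h.R, (t : G) * r = r * t := by
    intro r hr
    have hd := htK r hr
    set d := (t : G) * r * (t : G)⁻¹ * r⁻¹ with hd'
    have hfix : (t : G) * d * (t : G)⁻¹ = d := h.a_pow_comm hd t.2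
    have hdd : d * d = 1 := by
      calc d * d = (t : G) * d * (t : G)⁻¹ * d := by rw [hfix]
        _ = ((t : G) * t) * r * ((t : G) * t)⁻¹ * r⁻¹ := by rw [hd']; group
        _ = 1 := by rw [htt]; group
    have := h.two_zpow hd hdd
    rw [mul_inv_eq_one, mul_inv_eq_iff_eq_mul] at this
    exact this
  exact sl_neg_facts.1 (h1.symm.trans
    ((h.mem_R_iff t).1 (h.zpow_a_le_R (h.cent_R t.2 hcen))))

theorem three_card {M : Type*} [Group M] (hM : Nat.card M = 3) {q : M} (hq : q ≠ 1) (x : M) :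
    x = 1 ∨ x = q ∨ x = q⁻¹ := by
  haveI : Finite M := Nat.finite_of_card_ne_zero (by omega)
  by_contra hx
  push Not at hx
  have hne : q⁻¹ ≠ q := fun e => hq (by
    have h2 : q ^ 2 = 1 := by rw [pow_two]; nth_rewrite 1 [← e]; exact inv_mul_cancel q
    have h3 : q ^ 3 = 1 := hM ▸ pow_card_eq_one'
    rw [pow_succ, h2, one_mul] at h3
    exact h3)
  classical
  letI := Fintype.ofFinite M
  have hle := Finset.card_le_univ ({1, q, q⁻¹, x} : Finset M)
  have hi : q⁻¹ ≠ 1 := inv_ne_one.2 hq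
  rw [Finset.card_insert_of_notMem (by simp [Ne.symm hq, Ne.symm hi, Ne.symm hx.1]),
    Finset.card_insert_of_notMem (by simp [Ne.symm hne, Ne.symm hx.2.1]),
    Finset.card_insert_of_notMem (by simp [Ne.symm hx.2.2]), Finset.card_singleton,
    ← Nat.card_eq_fintype_card, hM] at hle
  omega

/-- The central involution modulo `R` inverts `R / ⟨a⟩`. -/
theorem inverts {t : G} {ht : t ∈ h.C} (htt : t * t = 1) (hπ : h.π ⟨t, ht⟩ = -1) {r : G} (hr : r ∈ h.R) :
    t * r * t⁻¹ * r ∈ Subgroup.zpowers h.a := by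
  set S : Subgroup G := { carrier := {x | x ∈ h.R ∧ h.Fixes t x}
                          mul_mem' := fun ⟨a1, a2⟩ ⟨b1, b2⟩ => ⟨mul_mem a1 b1, h.fixes_mul_right a2 b2 (h.R_le a1)⟩
                          one_mem' := ⟨one_mem _, h.fixes_comm (by simp)⟩
                          inv_mem' := fun {x} ⟨a1, a2⟩ => ⟨inv_mem a1, by
                            unfold Fixes at a2 ⊢
                            have e : t * x⁻¹ * t⁻¹ * x⁻¹⁻¹ = x⁻¹ * (t * x * t⁻¹ * x⁻¹)⁻¹ * x⁻¹⁻¹ := by group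
                            rw [e, h.a_pow_comm (inv_mem a2) (inv_mem (h.R_le a1))]
                            exact inv_mem a2⟩ } with hS
  have hSmem : ∀ x, x ∈ S ↔ x ∈ h.R ∧ h.Fixes t x := fun _ => Iff.rfl
  suffices hle : ∀ x ∈ S, x ∈ Subgroup.zpowers h.a by
    have hrC := h.R_le hr
    have htr : t * r * t⁻¹ ∈ h.R := h.conj_R ht hr
    have hx : r * (t * r * t⁻¹) ∈ S := by
      refine (hSmem _).2 ⟨mul_mem hr htr, ?_⟩
      unfold Fixes
      have e : t * (r * (t * r * t⁻¹)) * t⁻¹ * (r * (t * r * t⁻¹))⁻¹ =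
          (t * r * t⁻¹) * ((t * t) * r * (t * t)⁻¹) * (t * r * t⁻¹)⁻¹ * r⁻¹ := by group
      rw [e, htt, one_mul, inv_one, mul_one]
      exact h.comm_R htr hr
    have h1 := hle _ hx
    rwa [← h.a_pow_comm h1 (inv_mem hrC), inv_inv, inv_mul_cancel_left] at h1
  intro x hx
  by_contra hxa
  have hnorm : ∀ c ∈ h.C, ∀ y ∈ S, c * y * c⁻¹ ∈ S := by
    intro c hc y hy
    obtain ⟨hyR, hyf⟩ := (hSmem y).1 hy
    refine (hSmem _).2 ⟨h.conj_R hc hyR, ?_⟩
    have hcomm : (c⁻¹ * t * c) * t⁻¹ ∈ h.R := (h.mem_R_iff (⟨c, hc⟩⁻¹ * ⟨t, ht⟩ * ⟨c, hc⟩ * (⟨t, ht⟩ : h.C)⁻¹)).2 (by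
      simp only [map_mul, map_inv, hπ]
      generalize h.π ⟨c, hc⟩ = w
      revert w
      decide +kernel)
    have h1 := h.fixes_mul_left (h.fixes_R hcomm hyR) hyf (h.R_le hcomm)
    rw [inv_mul_cancel_right] at h1
    unfold Fixes at h1 ⊢
    have e : t * (c * y * c⁻¹) * t⁻¹ * (c * y * c⁻¹)⁻¹ =
        c * ((c⁻¹ * t * c) * y * (c⁻¹ * t * c)⁻¹ * y⁻¹) * c⁻¹ := by group
    rw [e, h.a_pow_comm h1 hc]
    exact h1
  have hSR : S ≤ h.R := fun y hy => ((hSmem y).1 hy).1
  have haS : Subgroup.zpowers h.a ≤ S := fun y hy =>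
    (hSmem y).2 ⟨h.zpow_a_le_R hy, h.fixes_comm (mul_inv_eq_iff_eq_mul.1 (h.a_pow_comm hy ht))⟩
  have hne : S ≠ h.R := fun e => h.neg_ne_one hπ (h.natural ht fun r hr => ((hSmem r).1 (e ▸ hr)).2)
  have h9 : Nat.card S = 9 := by
    have hd := Subgroup.card_dvd_of_le hSR
    rw [h.R_card, show 27 = 3 ^ 3 from rfl, Nat.dvd_prime_pow Nat.prime_three] at hd
    obtain ⟨i, hi, he⟩ := hd
    have h3 : 3 < Nat.card S := h.card_zpow_a ▸ lt_of_le_of_ne (Subgroup.card_le_of_le haS) fun e => by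
      rw [← Subgroup.eq_of_le_of_card_ge haS e.ge] at hx
      exact hxa hx
    have h27 : Nat.card S < 27 := h.R_card ▸ lt_of_le_of_ne (Subgroup.card_le_of_le hSR) fun e =>
      hne (Subgroup.eq_of_le_of_card_ge hSR e.ge)
    rw [he] at h3 h27 ⊢
    interval_cases i <;> simp_all
  haveI hSn : (S.subgroupOf h.R).Normal := ⟨fun y hy g => hnorm (g : G) (h.R_le g.2) (y : G) hy⟩
  haveI hAn : ((Subgroup.zpowers h.a).subgroupOf S).Normal := ⟨fun y hy g => by
    show (g : G) * (y : G) * (g : G)⁻¹ ∈ Subgroup.zpowers h.a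
    rw [h.a_pow_comm (x := (y : G)) hy (h.R_le (hSR g.2))]; exact hy⟩
  have hq1 : Nat.card (h.R ⧸ S.subgroupOf h.R) = 3 := by
    have := Subgroup.card_eq_card_quotient_mul_card_subgroup (S.subgroupOf h.R)
    rw [Nat.card_congr (Subgroup.subgroupOfEquivOfLe hSR).toEquiv, h.R_card, h9] at this
    omega
  have hq2 : Nat.card (S ⧸ (Subgroup.zpowers h.a).subgroupOf S) = 3 := by
    have := Subgroup.card_eq_card_quotient_mul_card_subgroup ((Subgroup.zpowers h.a).subgroupOf S)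
    rw [Nat.card_congr (Subgroup.subgroupOfEquivOfLe haS).toEquiv, h9, h.card_zpow_a] at this
    omega
  -- every element of `C` fixes the quotients of the series `⟨a⟩ < S < R`
  have key : ∀ c ∈ h.C, (∀ y ∈ h.R, c * y * c⁻¹ * y⁻¹ ∈ S) ∧ ∀ y ∈ S, h.Fixes c y := by
    let K : Subgroup G :=
      { carrier := {c | c ∈ h.C ∧ (∀ y ∈ h.R, c * y * c⁻¹ * y⁻¹ ∈ S) ∧ ∀ y ∈ S, h.Fixes c y}
        mul_mem' := fun {p q} ⟨p0, p1, p2⟩ ⟨q0, q1, q2⟩ => ⟨mul_mem p0 q0, fun y hy => by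
            have e : p * q * y * (p * q)⁻¹ * y⁻¹ = p * (q * y * q⁻¹ * y⁻¹) * p⁻¹ * (p * y * p⁻¹ * y⁻¹) := by group
            rw [e]
            exact mul_mem (hnorm p p0 _ (q1 y hy)) (p1 y hy),
          fun y hy => h.fixes_mul_left (p2 y hy) (q2 y hy) p0⟩
        one_mem' := ⟨one_mem _, fun y _ => by simp [S.one_mem], fun y _ => h.fixes_comm (by simp)⟩
        inv_mem' := fun {p} ⟨p0, p1, p2⟩ => ⟨inv_mem p0, fun y hy => by
            have e : p⁻¹ * y * p⁻¹⁻¹ * y⁻¹ = p⁻¹ * (p * y * p⁻¹ * y⁻¹)⁻¹ * p⁻¹⁻¹ := by group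
            rw [e]
            exact hnorm _ (inv_mem p0) _ (inv_mem (p1 y hy)),
          fun y hy => h.fixes_inv p0 (p2 y hy)⟩ }
    have hR : ∀ c ∈ h.R, c ∈ K := fun c hc => ⟨h.R_le hc, fun y hy => haS (h.comm_R hc hy),
      fun y hy => h.fixes_R hc (hSR hy)⟩
    have hodd : ∀ c ∈ h.C, c ^ 81 = 1 → c ∈ K := by
      intro c hc h81
      refine ⟨hc, fun y hy => ?_, fun y hy => ?_⟩
      · by_contra hn
        have hy1 : (QuotientGroup.mk ⟨y, hy⟩ : h.R ⧸ S.subgroupOf h.R) ≠ 1 := fun e => hn (by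
          rw [QuotientGroup.eq_one_iff] at e
          exact mul_mem (hnorm c hc y e) (inv_mem e))
        have e2 : c * y * c⁻¹ * y ∈ S := by
          rcases three_card hq1 hy1 (QuotientGroup.mk ⟨c * y * c⁻¹, h.conj_R hc hy⟩) with e | e | e
          · rw [QuotientGroup.eq_one_iff] at e
            have e1 : c * y * c⁻¹ ∈ S := e
            have h2 := hnorm _ (inv_mem hc) _ e1
            simp only [inv_inv, mul_assoc, inv_mul_cancel, mul_one, inv_mul_cancel_left] at h2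
            exact mul_mem e1 h2
          · exfalso; apply hn
            rw [QuotientGroup.eq] at e
            have := inv_mem (Subgroup.mem_subgroupOf.1 e)
            simp only [Subgroup.coe_mul, Subgroup.coe_inv, mul_inv_rev, inv_inv] at this
            have h2 := hnorm y (h.R_le hy) _ this
            simpa [mul_assoc] using h2
          · rw [← QuotientGroup.mk_inv, QuotientGroup.eq] at e
            have h2 := inv_mem (Subgroup.mem_subgroupOf.1 e)
            simp only [Subgroup.coe_mul, Subgroup.coe_inv, mul_inv_rev, inv_inv] at h2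
            have h3 := hnorm _ (inv_mem (h.R_le hy)) _ h2
            simpa [mul_assoc] using h3
        have hpow : ∀ n : ℕ, (n % 2 = 0 → c ^ n * y * (c ^ n)⁻¹ * y⁻¹ ∈ S) ∧
            (n % 2 = 1 → c ^ n * y * (c ^ n)⁻¹ * y ∈ S) := by
          intro n
          induction n with
          | zero => simp [S.one_mem]
          | succ n ih =>
            refine ⟨fun hn' => ?_, fun hn' => ?_⟩
            · have h1 := hnorm c hc _ (ih.2 (by omega))
              have e : c ^ (n + 1) * y * (c ^ (n + 1))⁻¹ * y⁻¹ =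
                  c * (c ^ n * y * (c ^ n)⁻¹ * y) * c⁻¹ * (y * (c * y * c⁻¹ * y)⁻¹ * y⁻¹) := by
                rw [pow_succ']; group
              rw [e]
              exact mul_mem h1 (hnorm y (h.R_le hy) _ (inv_mem e2))
            · have h1 := hnorm c hc _ (ih.1 (by omega))
              have e : c ^ (n + 1) * y * (c ^ (n + 1))⁻¹ * y =
                  c * (c ^ n * y * (c ^ n)⁻¹ * y⁻¹) * c⁻¹ * (c * y * c⁻¹ * y) := by
                rw [pow_succ']; group
              rw [e]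
              exact mul_mem h1 e2
        have h2 := (hpow 81).2 rfl
        rw [h81, one_mul, inv_one, mul_one] at h2
        have h3 := pow_mem h2 2
        rw [show (y * y) ^ 2 = y ^ 3 * y by simp only [pow_succ, pow_zero, one_mul, mul_assoc],
          h.R_exp y hy, one_mul] at h3
        exact hn (mul_mem (hnorm c hc y h3) (inv_mem h3))
      · by_contra hn
        have hy1 : (QuotientGroup.mk ⟨y, hy⟩ : S ⧸ (Subgroup.zpowers h.a).subgroupOf S) ≠ 1 := fun e => hn (by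
          rw [QuotientGroup.eq_one_iff] at e
          exact h.fixes_comm (mul_inv_eq_iff_eq_mul.1 (h.a_pow_comm e hc)))
        have e2 : c * y * c⁻¹ * y ∈ Subgroup.zpowers h.a := by
          rcases three_card hq2 hy1 (QuotientGroup.mk ⟨c * y * c⁻¹, hnorm c hc y hy⟩) with e | e | e
          · rw [QuotientGroup.eq_one_iff] at e
            have h2 : c⁻¹ * (c * y * c⁻¹) * c⁻¹⁻¹ = c * y * c⁻¹ := h.a_pow_comm e (inv_mem hc)
            simp only [inv_inv, mul_assoc, inv_mul_cancel, mul_one, inv_mul_cancel_left] at h2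
            have e' : c * y * c⁻¹ = y := by rw [mul_assoc]; exact h2.symm
            have ey : y ∈ Subgroup.zpowers h.a := e' ▸ e
            exact mul_mem e ey
          · exfalso; apply hn
            rw [QuotientGroup.eq] at e
            have h2 := inv_mem (Subgroup.mem_subgroupOf.1 e)
            simp only [Subgroup.coe_mul, Subgroup.coe_inv, mul_inv_rev, inv_inv] at h2
            have h3 := h.a_pow_comm h2 (h.R_le (hSR hy))
            show _ ∈ Subgroup.zpowers h.a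
            rw [show c * y * c⁻¹ * y⁻¹ = y * (y⁻¹ * (c * y * c⁻¹)) * y⁻¹ by group, h3]
            exact h2
          · rw [← QuotientGroup.mk_inv, QuotientGroup.eq] at e
            have h2 := inv_mem (Subgroup.mem_subgroupOf.1 e)
            simp only [Subgroup.coe_mul, Subgroup.coe_inv, mul_inv_rev, inv_inv] at h2
            have h3 := h.a_pow_comm h2 (inv_mem (h.R_le (hSR hy)))
            rw [show c * y * c⁻¹ * y = y⁻¹ * (y * (c * y * c⁻¹)) * y⁻¹⁻¹ by group, h3]
            exact h2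
        have hpow : ∀ n : ℕ, (n % 2 = 0 → h.Fixes (c ^ n) y) ∧
            (n % 2 = 1 → c ^ n * y * (c ^ n)⁻¹ * y ∈ Subgroup.zpowers h.a) := by
          intro n
          induction n with
          | zero => simp [Fixes, Subgroup.one_mem]
          | succ n ih =>
            refine ⟨fun hn' => ?_, fun hn' => ?_⟩
            · have h1 := ih.2 (by omega)
              have e : c ^ (n + 1) * y * (c ^ (n + 1))⁻¹ * y⁻¹ =
                  c * (c ^ n * y * (c ^ n)⁻¹ * y) * c⁻¹ * (y * (c * y * c⁻¹ * y)⁻¹ * y⁻¹) := by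
                rw [pow_succ']; group
              show _ ∈ Subgroup.zpowers h.a
              rw [e, h.a_pow_comm h1 hc, h.a_pow_comm (inv_mem e2) (h.R_le (hSR hy))]
              exact mul_mem h1 (inv_mem e2)
            · have h1 : c ^ n * y * (c ^ n)⁻¹ * y⁻¹ ∈ Subgroup.zpowers h.a := ih.1 (by omega)
              have e : c ^ (n + 1) * y * (c ^ (n + 1))⁻¹ * y =
                  c * (c ^ n * y * (c ^ n)⁻¹ * y⁻¹) * c⁻¹ * (c * y * c⁻¹ * y) := by
                rw [pow_succ']; group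
              rw [e, h.a_pow_comm h1 hc]
              exact mul_mem h1 e2
        have h2 := (hpow 81).2 rfl
        rw [h81, one_mul, inv_one, mul_one] at h2
        have h3 := pow_mem h2 2
        rw [show (y * y) ^ 2 = y ^ 3 * y by simp only [pow_succ, pow_zero, one_mul, mul_assoc],
          h.R_exp y (hSR hy), one_mul] at h3
        exact hy1 ((QuotientGroup.eq_one_iff _).2 h3)
    intro c hc
    suffices hcK : c ∈ K from ⟨hcK.2.1, hcK.2.2⟩
    have hlift : ∀ w : SL3, w ^ 3 = 1 → ∃ y : h.C, h.π y = w ∧ (y : G) ∈ K := by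
      intro w hw
      obtain ⟨y, hy⟩ := h.π_surj w
      refine ⟨y ^ 64, by rw [map_pow, hy, sl_neg_facts.2.2 w hw], ?_⟩
      refine hodd _ (y ^ 64).2 ?_
      rw [← SubgroupClass.coe_pow, ← pow_mul, show 64 * 81 = 648 * 8 from rfl, pow_mul,
        show y ^ 648 = 1 by rw [← h.card_C]; exact pow_card_eq_one', one_pow]
      rfl
    obtain ⟨u, v, w, hu, hv, hw, huvw⟩ := sl_three_gen' (h.π ⟨c, hc⟩)
    obtain ⟨u', eu, hu'⟩ := hlift u hu
    obtain ⟨v', ev, hv'⟩ := hlift v hv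
    obtain ⟨w', ew, hw'⟩ := hlift w hw
    have hr0 : (((u' * v' * w')⁻¹ * ⟨c, hc⟩ : h.C) : G) ∈ h.R := (h.mem_R_iff _).2 (by
      rw [map_mul, map_inv, map_mul, map_mul, eu, ev, ew, huvw, inv_mul_cancel])
    have := mul_mem (mul_mem (mul_mem hu' hv') hw') (hR _ hr0)
    simp only [Subgroup.coe_mul, Subgroup.coe_inv] at this
    rwa [mul_inv_cancel_left] at this
  -- so `t` fixes every coset
  refine h.neg_ne_one hπ (h.natural ht fun y hy => ?_)
  obtain ⟨k1, k2⟩ := key t ht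
  set d := t * y * t⁻¹ * y⁻¹ with hd
  have hdS : d ∈ S := k1 y hy
  have hfix : t * d * t⁻¹ * d⁻¹ ∈ Subgroup.zpowers h.a := k2 d hdS
  have hinv : t * d * t⁻¹ = d⁻¹ := by
    calc t * d * t⁻¹ = (t * t) * y * (t * t)⁻¹ * (t * y * t⁻¹)⁻¹ := by rw [hd]; group
      _ = d⁻¹ := by rw [htt, hd]; group
  rw [hinv] at hfix
  have h3 := pow_mem hfix 1
  rw [pow_one, show d⁻¹ * d⁻¹ = d by
    have := h.R_exp d (hSR hdS)
    rw [← mul_inv_rev, eq_comm, eq_inv_iff_mul_eq_one, ← mul_assoc]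
    rwa [pow_succ, pow_two] at this] at h3
  exact h3

/-- Elements fixing a common non-trivial coset: their images are powers of each other. -/
theorem stab_cases {v : G} (hv : v ∈ h.R) (hva : v ∉ Subgroup.zpowers h.a) {g k : h.C}
    (hg : h.Fixes (g : G) v) (hk : h.Fixes (k : G) v) (hg1 : h.π g ≠ 1) :
    h.π k = 1 ∨ h.π k = h.π g ∨ h.π k = h.π g * h.π g := by
  have hbad : ∀ y : h.C, (y : G) ∈ h.stab v → h.π y ≠ -1 := by
    intro y hy e
    obtain ⟨t, ht, htt, hπ, hS⟩ := h.exists_invol e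
    have h1 : h.Fixes t v := (hS _ hy).2
    have h2 := h.inverts htt hπ hv
    unfold Fixes at h1
    have h3 := mul_mem (inv_mem h1) h2
    rw [show (t * v * t⁻¹ * v⁻¹)⁻¹ * (t * v * t⁻¹ * v) = v * v by group] at h3
    have h4 := pow_mem h3 2
    rw [show (v * v) ^ 2 = v ^ 3 * v by simp only [pow_succ, pow_zero, one_mul, mul_assoc],
      h.R_exp v hv, one_mul] at h4
    exact hva h4
  have hgm : (g : G) ∈ h.stab v := ⟨g.2, hg⟩
  have hkm : (k : G) ∈ h.stab v := ⟨k.2, hk⟩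
  obtain ⟨n, hn⟩ := sl_two_threes (h.π g) (h.π k) hg1
  rcases hn with e | e | e | e | e | e
  · exact absurd ((map_pow h.π g n).trans e) (hbad _ (by rw [SubgroupClass.coe_pow]; exact pow_mem hgm _))
  · exact absurd (((map_pow h.π (k * g) n).trans (by rw [map_mul])).trans e) (hbad _ (by
      rw [SubgroupClass.coe_pow]; exact pow_mem (mul_mem hkm hgm) _))
  · exact absurd ((map_pow h.π k n).trans e) (hbad _ (by rw [SubgroupClass.coe_pow]; exact pow_mem hkm _))
  · exact Or.inl e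
  · exact Or.inr (Or.inl e)
  · exact Or.inr (Or.inr e)

theorem stab_card_le {v : G} (hv : v ∈ h.R) (hva : v ∉ Subgroup.zpowers h.a) :
    Nat.card (h.stab v) ≤ 81 := by
  classical
  set f : ↥(h.stab v) →* SL3 := h.π.comp (Subgroup.inclusion fun g hg => hg.1) with hf
  have hker : Nat.card f.ker ≤ 27 := by
    rw [← h.R_card]
    refine Nat.card_le_card_of_injective (fun g => (⟨(g : h.stab v), (h.mem_R_iff _).2 g.2⟩ : h.R)) ?_
    intro p q e
    have e' : ((p : h.stab v) : G) = ((q : h.stab v) : G) := congrArg (fun x : h.R => (x : G)) e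
    exact Subtype.ext (Subtype.ext e')
  have hrange : Nat.card f.range ≤ 3 := by
    by_cases hone : ∀ g, f g = 1
    · have : f.range = ⊥ := by rw [eq_bot_iff]; rintro _ ⟨g, rfl⟩; exact hone g
      rw [this, Subgroup.card_bot]; omega
    push Not at hone
    obtain ⟨g, hg⟩ := hone
    have hsub : (f.range : Set SL3) ⊆ ({1, f g, f g * f g} : Finset SL3) := by
      rintro _ ⟨k, rfl⟩
      simp only [Finset.coe_insert, Finset.coe_singleton, Set.mem_insert_iff, Set.mem_singleton_iff]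
      exact h.stab_cases hv hva g.2.2 k.2.2 hg
    calc Nat.card f.range ≤ Nat.card (({1, f g, f g * f g} : Finset SL3) : Set SL3) :=
          Nat.card_mono (Finset.finite_toSet _) hsub
      _ ≤ 3 := by
        simpa using Finset.card_le_three
  calc Nat.card (h.stab v) = Nat.card f.range * Nat.card f.ker := by
        rw [Subgroup.card_eq_card_quotient_mul_card_subgroup f.ker,
          Nat.card_congr (QuotientGroup.quotientKerEquivRange f).toEquiv]
    _ ≤ 81 := Nat.mul_le_mul hrange hker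

/-- `C` is transitive on the non-central elements of `R`. -/
theorem transitive {r s : G} (hr : r ∈ h.R) (hra : r ∉ Subgroup.zpowers h.a) (hs : s ∈ h.R)
    (hsa : s ∉ Subgroup.zpowers h.a) : ∃ g ∈ h.C, g * r * g⁻¹ = s := by
  classical
  suffices hmod : ∃ g ∈ h.C, s⁻¹ * (g * r * g⁻¹) ∈ Subgroup.zpowers h.a by
    obtain ⟨g, hg, hz⟩ := hmod
    obtain ⟨q, hq, hne⟩ : ∃ q ∈ h.R, q * s * q⁻¹ * s⁻¹ ≠ 1 := by
      by_contra hn
      push Not at hn
      exact hsa (h.center_R hs fun q hq => (mul_inv_eq_iff_eq_mul.1 (mul_inv_eq_one.1 (hn q hq))).symm)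
    set z := q * s * q⁻¹ * s⁻¹ with hz'
    have hzA : z ∈ Subgroup.zpowers h.a := h.comm_R hq hs
    have hA : Nat.card (Subgroup.zpowers h.a) = 3 := h.card_zpow_a
    have hq1 : q * s * q⁻¹ = s * z := by
      calc q * s * q⁻¹ = z * s := by rw [hz']; group
        _ = s * z := mul_inv_eq_iff_eq_mul.1 (h.a_pow_comm hzA (h.R_le hs)) |>.symm
    have hgr : g * r * g⁻¹ = s * (s⁻¹ * (g * r * g⁻¹)) := by group
    have hqz : q * z * q⁻¹ = z := h.a_pow_comm hzA (h.R_le hq)
    rcases three_card (M := Subgroup.zpowers h.a) hA (q := ⟨z, hzA⟩) (fun e => hne (congrArg Subtype.val e))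
        ⟨_, hz⟩ with e | e | e
    · exact ⟨g, hg, by rw [hgr, show s⁻¹ * (g * r * g⁻¹) = 1 from congrArg Subtype.val e, mul_one]⟩
    · refine ⟨q⁻¹ * g, mul_mem (inv_mem (h.R_le hq)) hg, ?_⟩
      have e' : s⁻¹ * (g * r * g⁻¹) = z := congrArg Subtype.val e
      calc q⁻¹ * g * r * (q⁻¹ * g)⁻¹ = q⁻¹ * (g * r * g⁻¹) * q := by group
        _ = q⁻¹ * (q * s * q⁻¹) * q := by rw [hgr, e', hq1]
        _ = s := by group
    · refine ⟨q * g, mul_mem (h.R_le hq) hg, ?_⟩
      have e' : s⁻¹ * (g * r * g⁻¹) = z⁻¹ := congrArg Subtype.val e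
      calc q * g * r * (q * g)⁻¹ = q * (g * r * g⁻¹) * q⁻¹ := by group
        _ = (q * s * q⁻¹) * (q * z * q⁻¹)⁻¹ := by rw [hgr, e']; group
        _ = s := by rw [hq1, hqz, mul_inv_cancel_right]
  haveI : ((Subgroup.zpowers h.a).subgroupOf h.R).Normal := ⟨fun y hy g => by
    show (g : G) * (y : G) * (g : G)⁻¹ ∈ Subgroup.zpowers h.a
    rw [h.a_pow_comm (x := (y : G)) hy (h.R_le g.2)]; exact hy⟩
  let Q := h.R ⧸ (Subgroup.zpowers h.a).subgroupOf h.R
  letI : Fintype Q := Fintype.ofFinite _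
  have hQ : Fintype.card Q = 9 := by
    rw [← Nat.card_eq_fintype_card]
    have := Subgroup.card_eq_card_quotient_mul_card_subgroup ((Subgroup.zpowers h.a).subgroupOf h.R)
    rw [Nat.card_congr (Subgroup.subgroupOfEquivOfLe h.zpow_a_le_R).toEquiv, h.R_card, h.card_zpow_a] at this
    show Nat.card (h.R ⧸ _) = 9
    omega
  let f : h.C → Q := fun g => QuotientGroup.mk ⟨(g : G) * r * (g : G)⁻¹, h.conj_R g.2 hr⟩
  have hne1 : ∀ g, f g ≠ 1 := fun g e => hra (by
    rw [QuotientGroup.eq_one_iff] at e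
    have e' : (g : G) * r * (g : G)⁻¹ ∈ Subgroup.zpowers h.a := e
    have h2 := h.a_pow_comm e' (inv_mem g.2)
    simp only [inv_inv, mul_assoc, inv_mul_cancel, mul_one, inv_mul_cancel_left] at h2
    rw [← mul_assoc] at h2
    exact h2 ▸ e')
  letI : Fintype h.C := Fintype.ofFinite _
  have hfib : ∀ q ∈ Finset.univ.image f, (Finset.univ.filter fun g => f g = q).card ≤ 81 := by
    intro q hq
    obtain ⟨g₀, _, rfl⟩ := Finset.mem_image.1 hq
    refine le_trans ?_ (h.stab_card_le hr hra)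
    letI : Fintype (h.stab r) := Fintype.ofFinite _
    rw [Nat.card_eq_fintype_card]
    refine le_trans (Finset.card_le_card_of_injOn (t := (Finset.univ : Finset (h.stab r)).image
      fun k => g₀ * ⟨(k : G), k.2.1⟩) id ?_ (fun _ _ _ _ e => e)) ((Finset.card_image_le).trans (le_of_eq Finset.card_univ))
    intro g hg
    rw [Finset.mem_coe, Finset.mem_filter] at hg
    rw [id, Finset.mem_coe, Finset.mem_image]
    refine ⟨⟨((g₀⁻¹ * g : h.C) : G), (g₀⁻¹ * g).2, ?_⟩, Finset.mem_univ _, Subtype.ext (mul_inv_cancel_left (g₀ : G) (g : G))⟩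
    have e := QuotientGroup.eq.1 hg.2.symm
    have e' : ((g₀ : G) * r * (g₀ : G)⁻¹)⁻¹ * ((g : G) * r * (g : G)⁻¹) ∈ Subgroup.zpowers h.a := e
    show _ ∈ Subgroup.zpowers h.a
    have h3 := h.a_pow_comm e' (inv_mem g₀.2)
    have h4 := h.a_pow_comm e' (h.R_le hr)
    simp only [Subgroup.coe_mul, Subgroup.coe_inv]
    rw [show (g₀ : G)⁻¹ * g * r * ((g₀ : G)⁻¹ * g)⁻¹ * r⁻¹ = r * ((g₀ : G)⁻¹ *
      (((g₀ : G) * r * (g₀ : G)⁻¹)⁻¹ * ((g : G) * r * (g : G)⁻¹)) * (g₀ : G)⁻¹⁻¹) * r⁻¹ by group, h3, h4]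
    exact e'
  have h8 : 8 ≤ (Finset.univ.image f).card := by
    have h1 := Finset.card_le_mul_card_image Finset.univ 81 hfib
    rw [Finset.card_univ, ← Nat.card_eq_fintype_card, h.card_C] at h1
    omega
  have hall : (Finset.univ.image f) = Finset.univ.erase (1 : Q) := by
    refine Finset.eq_of_subset_of_card_le (fun q hq => ?_) ?_
    · obtain ⟨g, _, rfl⟩ := Finset.mem_image.1 hq
      exact Finset.mem_erase.2 ⟨hne1 g, Finset.mem_univ _⟩
    · rw [Finset.card_erase_of_mem (Finset.mem_univ _), Finset.card_univ, hQ]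
      exact h8
  have hs1 : (QuotientGroup.mk ⟨s, hs⟩ : Q) ∈ Finset.univ.image f := by
    rw [hall]
    refine Finset.mem_erase.2 ⟨fun e => hsa ?_, Finset.mem_univ _⟩
    rw [QuotientGroup.eq_one_iff] at e
    exact e
  obtain ⟨g, _, hg⟩ := Finset.mem_image.1 hs1
  refine ⟨g, g.2, ?_⟩
  have e := hg.symm
  rw [QuotientGroup.eq] at e
  exact e

end Hyp

end Cfsg.Agent.Recog.ThreeCentSp
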