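import Cfsg.Agent.Lib.Recog.ThreeCentSp.Fusion
import Mathlib.GroupTheory.Focal

/-!
When `N(J)` only permutes the axes, fusion in `P` preserves the cosets of `R`, so the focal subgroup
theorem gives a normal subgroup of index three.
-/

set_option autoImplicit false
set_option linter.unusedSectionVars false
set_option linter.style.haveILetI false
set_option maxRecDepth 20000

namespace Cfsg.Agent.Recog.ThreeCentSp

open Cfsg.Agent.Invol.PSp43Am (V3 act aV)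
open scoped commutatorElement

theorem wt_perm : ∀ k : Fin 48, permK k → ∀ v : V3, wt (act k v) = wt v := by decide +kernel

theorem smul_aV_inj : ∀ x y : ZMod 3, x.val • aV = y.val • aV → x = y := by decide +kernel

theorem wt_sub : ∀ v w : V3, wt v = wt w → wt (w - v) = 0 := by decide +kernel

namespace Coords

variable {G : Type*} [Group G] [Finite G] {h : Hyp G} (K : Coords h)

theorem exists_wt {x : G} (hx : x ∈ h.P) (h3 : x ^ 3 = 1) :
    ∃ (v : V3) (g : G), g * x * g⁻¹ = K.ψ v ∧ (x ∈ h.R ↔ wt v = 0) ∧ (x ∈ h.R ∨ K.ψ v = x) := by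
  rcases K.toBase.three_in_P hx h3 with hJ | hR
  · obtain ⟨v, rfl⟩ := K.ψ_surj x hJ
    exact ⟨v, 1, by group, K.toBase.mem_R_iff v, Or.inr rfl⟩
  by_cases ha : x ∈ Subgroup.zpowers h.a
  · obtain ⟨v, rfl⟩ := K.ψ_surj x (Subgroup.zpowers_le.2 h.a_mem_J ha)
    exact ⟨v, 1, by group, K.toBase.mem_R_iff v, Or.inr rfl⟩
  have hv : wt ((1, 2, 0) : V3) = 0 := by decide +kernel
  obtain ⟨g, hg, e⟩ := h.transitive hR ha (K.toBase.R_of_wt hv) (fun hh => by
    rcases h.mem_zpow_a hh with e | e | e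
    · rw [← K.toBase.ψ_zero] at e; exact absurd (K.ψ_inj e) (by decide +kernel)
    · rw [← K.ψ_a] at e; exact absurd (K.ψ_inj e) (by decide +kernel)
    · rw [← K.ψ_a, ← K.toBase.ψ_neg] at e; exact absurd (K.ψ_inj e) (by decide +kernel))
  exact ⟨_, g, e, iff_of_true hR hv, Or.inl hR⟩

theorem fusion_mod_R (hperm : ∀ g ∈ Subgroup.normalizer (h.J : Set G),
      ∃ k : Fin 48, permK k ∧ ∀ v, g * K.ψ v * g⁻¹ = K.ψ (act k v))
    {x y u : G} (hx : x ∈ h.P) (hy : y ∈ h.P) (he : u * x * u⁻¹ = y) : x⁻¹ * y ∈ h.R := by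
  have hwt : ∀ {v w : V3} {g : G}, g * K.ψ v * g⁻¹ = K.ψ w → wt v = wt w := by
    intro v w g e
    obtain ⟨n, hn, en⟩ := h.fusion_J (K.ψ_mem v) (K.ψ_mem w) e
    obtain ⟨k, hk, hkv⟩ := hperm n hn
    rw [hkv] at en
    rw [← K.ψ_inj en, wt_perm k hk]
  by_cases h3 : x ^ 3 = 1
  · have h3' : y ^ 3 = 1 := by rw [← he, conj_pow, h3, mul_one, mul_inv_cancel]
    obtain ⟨v, g, ev, iv, cv⟩ := K.exists_wt hx h3
    obtain ⟨w, g', ew, iw, cw⟩ := K.exists_wt hy h3'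
    have e : (g' * u * g⁻¹) * K.ψ v * (g' * u * g⁻¹)⁻¹ = K.ψ w := by
      rw [← ev, ← ew, ← he]; group
    have hvw := hwt e
    by_cases hxR : x ∈ h.R
    · exact mul_mem (inv_mem hxR) (iw.2 (hvw ▸ iv.1 hxR))
    have hyR : y ∉ h.R := fun hh => hxR (iv.2 (hvw.trans (iw.1 hh)))
    rw [← cv.resolve_left hxR, ← cw.resolve_left hyR, ← K.toBase.ψ_neg, ← K.ψ_add, neg_add_eq_sub]
    exact K.toBase.R_of_wt (wt_sub v w hvw)
  have hne : ∀ {p : G} {v : V3} {i : Fin 3}, p ^ 3 ≠ 1 → p = K.ψ v * K.c ^ (i : ℕ) → i ≠ 0 := by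
    intro p v i hp e hi
    subst hi
    rw [Fin.val_zero, pow_zero, mul_one] at e
    exact hp (e ▸ h.J_exp _ (K.ψ_mem v))
  have hy3 : y ^ 3 ≠ 1 := fun hh => h3 (by
    rw [← he, conj_pow, conj_eq_one_iff] at hh; exact hh)
  obtain ⟨v, i, ev⟩ := K.toBase.P_decomp hx
  obtain ⟨w, j, ew⟩ := K.toBase.P_decomp hy
  have cx := K.toBase.cube_eq ev (hne h3 ev)
  have cy := K.toBase.cube_eq ew (hne hy3 ew)
  have e : u * K.ψ ((wt v).val • aV) * u⁻¹ = K.ψ ((wt w).val • aV) := by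
    rw [← cx, ← cy, ← he, conj_pow]
  obtain ⟨n, hn, en⟩ := h.fusion_J (K.ψ_mem _) (K.ψ_mem _) e
  obtain ⟨k, hk, hkv⟩ := hperm n hn
  have hfix : K.ψ (act k aV) = K.ψ aV := by rw [(perm_facts.1 k hk).2]
  have hvw : wt v = wt w := by
    refine smul_aV_inj _ _ (K.ψ_inj ?_)
    rw [← en, K.toBase.ψ_nsmul, ← conj_pow, hkv, hfix]
  rw [ev, ew, show (K.ψ v * K.c ^ (i : ℕ))⁻¹ * (K.ψ w * K.c ^ (j : ℕ)) =
    (K.c ^ (i : ℕ))⁻¹ * ((K.ψ v)⁻¹ * K.ψ w) * K.c ^ (j : ℕ) by group, ← K.toBase.ψ_neg, ← K.ψ_add,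
    neg_add_eq_sub]
  exact mul_mem (mul_mem (inv_mem (pow_mem K.c_R _)) (K.toBase.R_of_wt (wt_sub v w hvw)))
    (pow_mem K.c_R _)

theorem index_three (h1 : ¬ K.toBase.Real (cols (act 24))) (h2 : ¬ K.toBase.Real (cols (act 1))) :
    ∃ N : Subgroup G, N.Normal ∧ N.index = 3 := by
  haveI := Fact.mk Nat.prime_three
  obtain ⟨S, hS⟩ := h.exists_sylow
  have hperm := fun g hg => K.perm_case h1 h2 (g := g) hg
  have hle : (S : Subgroup G) ≤ h.C := hS ▸ h.P_le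
  set f : ↥(S : Subgroup G) →* SL3 := h.π.comp (Subgroup.inclusion hle) with hf
  have hker : (S : Subgroup G).focalSubgroupOf ≤ f.ker := by
    rw [Subgroup.focalSubgroupOf_eq_closure, Subgroup.closure_le]
    rintro ⟨g, hg⟩ ⟨x, hx, u, rfl⟩
    have hxP : x ∈ h.P := hS ▸ hx
    have hxi : u * x⁻¹ * u⁻¹ ∈ h.P := by
      have := mul_mem (inv_mem hxP) (hS ▸ hg : ⁅x, u⁆ ∈ h.P)
      rwa [commutatorElement_def, show x⁻¹ * (x * u * x⁻¹ * u⁻¹) = u * x⁻¹ * u⁻¹ by group] at this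
    have hR := K.fusion_mod_R hperm (inv_mem hxP) hxi rfl
    rw [inv_inv] at hR
    show h.π ⟨⁅x, u⁆, _⟩ = 1
    refine (h.mem_R_iff _).1 ?_
    show ⁅x, u⁆ ∈ h.R
    rw [commutatorElement_def, show x * u * x⁻¹ * u⁻¹ = x * (u * x⁻¹ * u⁻¹) by group]
    exact hR
  let Φ : G →* SL3 := (QuotientGroup.lift _ f hker).comp (S : Subgroup G).transferFocal
  have hrange : Φ.range = f.range := by
    apply le_antisymm
    · rintro _ ⟨g, rfl⟩
      obtain ⟨q, hq⟩ := QuotientGroup.mk_surjective ((S : Subgroup G).transferFocal g)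
      exact ⟨q, by show f q = QuotientGroup.lift _ f hker _; rw [← hq]; rfl⟩
    · rintro _ ⟨q, rfl⟩
      obtain ⟨g, hg⟩ := Subgroup.transferFocal_surjective S (QuotientGroup.mk q)
      exact ⟨g, by show QuotientGroup.lift _ f hker _ = f q; rw [hg]; rfl⟩
  refine ⟨Φ.ker, inferInstance, ?_⟩
  rw [Subgroup.index_ker, hrange]
  have hk : Nat.card f.ker = 27 := by
    rw [← h.R_card]
    exact Nat.card_congr
      { toFun := fun p => ⟨((p : ↥(S : Subgroup G)) : G), (h.mem_R_iff _).2 p.2⟩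
        invFun := fun r => ⟨⟨(r : G), hS.symm ▸ h.R_le_P r.2⟩,
          (h.mem_R_iff ⟨(r : G), h.R_le r.2⟩).1 r.2⟩
        left_inv := fun p => rfl, right_inv := fun r => rfl }
  have := Subgroup.card_eq_card_quotient_mul_card_subgroup f.ker
  rw [Nat.card_congr (QuotientGroup.quotientKerEquivRange f).toEquiv, hk,
    show Nat.card ↥(S : Subgroup G) = 81 by rw [hS, h.card_P]] at this
  omega

end Coords

end Cfsg.Agent.Recog.ThreeCentSp
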