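import Cfsg.Agent.Lib.Recog.ThreeCentSp.TwoQuot
import Cfsg.Agent.S0077
import Cfsg.Agent.S0215

/-!
Two conjugates of `a` under `N(J)`: a Sylow 2-subgroup of order sixteen with `t` isolated, and the
normality of `⟨a⟩`.
-/

set_option autoImplicit false
set_option linter.unusedSectionVars false
set_option linter.style.haveILetI false
set_option maxRecDepth 20000

namespace Cfsg.Agent.Recog.ThreeCentSp

open Cfsg.Agent.Invol.PSp43Am (V3 act aV xV yV zV)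
open scoped commutatorElement

set_option synthInstance.maxSize 1000 in
theorem sl_iso_facts :
    (∃ γ : SL3, γ * γ = -1) ∧ (-1 : SL3) * -1 = 1 ∧ (-1 : SL3) ≠ 1 ∧
    (∀ γ : SL3, γ * γ = -1 → γ ^ 4 = 1 ∧ γ⁻¹ = -γ ∧ ∃ δ : SL3, δ * δ = -1 ∧ δ ≠ γ ∧ δ ≠ -γ) ∧
    (∀ γ δ : SL3, γ * γ = -1 → δ * δ = -1 → δ ≠ γ → δ ≠ -γ → ∀ ε : SL3, ε * ε = -1 →
      ε = γ ∨ ε = -γ ∨ ε = δ ∨ ε = -δ ∨ ε = γ * δ ∨ ε = -(γ * δ)) ∧
    (∀ γ δ : SL3, γ * γ = -1 → δ * δ = -1 → δ ≠ γ → δ ≠ -γ → ∀ ε : SL3, ε * ε = -1 →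
      ε ≠ γ → ε ≠ -γ → ε ≠ δ → ε ≠ -δ → ε * δ⁻¹ = γ ∨ ε * δ⁻¹ = -γ) ∧
    (∀ w γ : SL3, w ^ 3 = 1 → w ≠ 1 → γ * γ = -1 →
      (w * γ * w⁻¹) * (w * γ * w⁻¹) = -1 ∧ w⁻¹ * γ * w ≠ w * γ * w⁻¹ ∧ w⁻¹ * γ * w ≠ -(w * γ * w⁻¹) ∧
      w⁻¹ * -γ * w ≠ w * γ * w⁻¹ ∧ w⁻¹ * -γ * w ≠ -(w * γ * w⁻¹)) ∧
    (∀ w : SL3, w * w = 1 → w = 1 ∨ w = -1) :=
  ⟨by decide +kernel, by decide +kernel, by decide +kernel, by decide +kernel, by decide +kernel,
    by decide +kernel, by decide +kernel, by decide +kernel⟩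

theorem span_facts : ∀ (v : V3) (m n : Fin 3), zV = (m : ℕ) • v → aV ≠ (n : ℕ) • v := by decide +kernel

theorem g_comm : act 8 ((1, 2, 0) : V3) - (1, 2, 0) = -aV := by decide +kernel

namespace Two

variable {G : Type*} [Group G] [Finite G] {h : Hyp G} {K : Coords h} (T : Two K)

/-- the core of `C(t)` as a subgroup of `G` -/
noncomputable def M : Subgroup G := (Cfsg.pPrimeCore 3 T.D).map T.D.subtype

theorem M_D {x : G} (hx : x ∈ T.M) : x ∈ T.D := Subgroup.map_subtype_le _ hx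

theorem M_conj {x g : G} (hx : x ∈ T.M) (hg : g ∈ T.D) : g * x * g⁻¹ ∈ T.M := by
  obtain ⟨y, hy, rfl⟩ := hx
  exact ⟨⟨g, hg⟩ * y * (⟨g, hg⟩ : T.D)⁻¹, Grp.pPrimeCore_isNormal.conj_mem _ hy _, rfl⟩

theorem M_order {x : G} (hx : x ∈ T.M) : (orderOf x).Coprime 3 := by
  obtain ⟨y, hy, rfl⟩ := hx
  rw [show orderOf (T.D.subtype y) = orderOf y from Subgroup.orderOf_coe y]
  exact Nat.Coprime.coprime_dvd_left (Subgroup.orderOf_dvd_natCard _ hy) Grp.pPrimeCore_coprime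

theorem M_cube {x : G} (hx : x ∈ T.M) (h3 : x ^ 3 = 1) : x = 1 :=
  orderOf_eq_one_iff.1 (Nat.eq_one_of_dvd_coprimes (T.M_order hx) dvd_rfl (orderOf_dvd_of_pow_eq_one h3))

theorem four_mem {q : G} (hqC : q ∈ h.C) (hqt : q * K.t = K.t * q) (hqq : q * q = K.t) : q ∈ T.M :=
  ⟨_, T.four_in_core hqC hqt hqq, rfl⟩

theorem t_mem_M : K.t ∈ T.M := by
  obtain ⟨γ, hγ⟩ := sl_iso_facts.1
  obtain ⟨q, hq, hqt, hqq, -⟩ := lift_four (K := K) hγ
  rw [← hqq]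
  exact mul_mem (T.four_mem hq hqt hqq) (T.four_mem hq hqt hqq)

theorem M_cent {x : G} (hx : x ∈ T.M) : x ∈ h.C := by
  haveI := Fact.mk Nat.prime_three
  haveI : IsMulCommutative T.E :=
    ⟨⟨fun p q => Subtype.ext (h.J_comm _ p.2.1 _ q.2.1)⟩⟩
  have hnc : ¬ IsCyclic T.E := by
    intro hc
    obtain ⟨⟨g, hg⟩, hgen⟩ := hc.exists_generator
    obtain ⟨v, hv, rfl⟩ := T.exists_of_mem_E hg
    have key : ∀ u : V3, act 4 u = u → ∃ n : Fin 3, u = (n : ℕ) • v := fun u hu => by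
      obtain ⟨i, hi⟩ := Subgroup.mem_zpowers_iff.1 (hgen ⟨_, T.ψ_mem_E hu⟩)
      have hi' : K.ψ v ^ i = K.ψ u := congrArg Subtype.val hi
      refine ⟨⟨(i % 3).toNat, by omega⟩, K.ψ_inj ?_⟩
      rw [K.toBase.ψ_nsmul, ← hi', ← zpow_natCast, Int.toNat_of_nonneg (by omega)]
      conv_lhs => rw [← Int.emod_add_mul_ediv i 3, zpow_add, zpow_mul,
        show (3 : ℤ) = ((3 : ℕ) : ℤ) from rfl, zpow_natCast, h.J_exp _ (K.ψ_mem v), one_zpow, mul_one]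
      norm_num
    obtain ⟨m, hm⟩ := key zV line_facts.2.1.1
    obtain ⟨n, hn⟩ := key aV line_facts.2.2.1.1
    exact span_facts v m n hm hn
  have hcop : (Nat.card T.E).Coprime (Nat.card T.M) := by
    obtain ⟨m, hm⟩ := IsPGroup.iff_card.1 T.E_isPGroup
    rw [hm]
    refine (Nat.Coprime.pow_left m ?_)
    rw [M, Subgroup.card_map_of_injective T.D.subtype_injective]
    exact (Grp.pPrimeCore_coprime (p := 3) (G := T.D)).symm
  have hgc := Grp.generated_by_centralizers T.E T.M hnc (fun e he =>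
    Cfsg.Agent.Invol.PSp43Am.mem_normalizer_of_conj_mem fun y hy => T.M_conj hy (T.E_le_D he)) hcop
  rw [← hgc] at hx
  refine (iSup₂_le fun e ⟨he, he1⟩ => ?_ : _ ≤ h.C) hx
  rintro y ⟨hyM, hye⟩
  obtain ⟨v, hv, rfl⟩ := T.exists_of_mem_E he
  have hye' := Subgroup.mem_centralizer_singleton_iff.1 hye
  by_cases hw : wt v = 0
  · rcases line_facts.1 v hv hw with r | r | r <;> subst r
    · exact absurd K.toBase.ψ_zero he1
    · rw [K.ψ_a] at hye'; exact h.mem_C.2 hye'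
    · rw [K.toBase.ψ_neg, K.ψ_a] at hye'
      exact h.mem_C.2 (Commute.inv_right_iff.1 hye').eq
  obtain ⟨u, hu, hcase⟩ := T.cent_six hv hw (T.mem_D.1 (T.M_D hyM)) hye'
  have huM : K.ψ u ∈ T.M := by
    rcases hcase with r | r
    · exact r ▸ hyM
    · have h2 := mul_mem hyM T.t_mem_M
      rwa [r, mul_assoc, K.t_sq, mul_one] at h2
  rw [T.M_cube huM (h.J_exp _ (K.ψ_mem u))] at hcase
  rcases hcase with r | r <;> rw [r]
  · exact one_mem _
  · rw [one_mul]; exact K.t_C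

theorem π_inj {x : G} (hx : x ∈ T.M) (e : h.π ⟨x, T.M_cent hx⟩ = 1) : x = 1 :=
  T.M_cube hx (h.J_exp _ (Subgroup.zpowers_le.2 h.a_mem_J
    (ker_t (K := K) (T.M_cent hx) e (T.mem_D.1 (T.M_D hx)))))

theorem π_eq {x y : G} (hx : x ∈ T.M) (hy : y ∈ T.M)
    (e : h.π ⟨x, T.M_cent hx⟩ = h.π ⟨y, T.M_cent hy⟩) : x = y := by
  refine mul_inv_eq_one.1 (T.π_inj (mul_mem hx (inv_mem hy)) ?_)
  show h.π (⟨x, T.M_cent hx⟩ * (⟨y, T.M_cent hy⟩ : h.C)⁻¹) = 1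
  rw [map_mul, map_inv, e, mul_inv_cancel]

theorem π_four {x : G} (hx : x ∈ T.M) : h.π ⟨x, T.M_cent hx⟩ ^ 4 = 1 := by
  set w := h.π ⟨x, T.M_cent hx⟩
  have h1 : orderOf w ∣ orderOf x := by
    have := orderOf_map_dvd h.π (⟨x, T.M_cent hx⟩ : h.C)
    rwa [← Subgroup.orderOf_coe] at this
  have h2 : (orderOf w).Coprime 3 := (T.M_order hx).coprime_dvd_left h1
  have h12 : orderOf w ∣ 4 * 3 := orderOf_dvd_of_pow_eq_one (sl_two_facts.2.2.1 w)
  exact orderOf_dvd_iff_pow_eq_one.1 (h2.dvd_of_dvd_mul_right h12)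

theorem exists_π {γ : SL3} (hγ : γ ^ 4 = 1) :
    ∃ x : G, ∃ hx : x ∈ T.M, h.π ⟨x, T.M_cent hx⟩ = γ := by
  rcases sl_two_facts.2.2.2 γ hγ with r | r | r
  · exact ⟨1, one_mem _, by rw [r]; exact map_one h.π⟩
  · exact ⟨K.t, T.t_mem_M, by rw [r]; exact K.t_π⟩
  · obtain ⟨q, hq, hqt, hqq, e⟩ := lift_four (K := K) r
    exact ⟨q, T.four_mem hq hqt hqq, e⟩

theorem M_four {x : G} (hx : x ∈ T.M) : x ^ 4 = 1 := by
  refine T.π_inj (pow_mem hx 4) ?_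
  rw [π_pow (T.M_cent hx)]
  exact T.π_four hx

theorem two_mem {x : G} (hx : x ∈ h.C) (hxt : x * K.t = K.t * x) (h2 : ∃ k : ℕ, x ^ 2 ^ k = 1) :
    x ∈ T.M := by
  obtain ⟨k, hk⟩ := h2
  set w := h.π ⟨x, hx⟩
  have hwk : w ^ 2 ^ k = 1 := by
    rw [← π_pow hx, π_congr hk]
    exact map_one _
  have hwo : orderOf w ∣ 4 := by
    have h12 : orderOf w ∣ 4 * 3 := orderOf_dvd_of_pow_eq_one (sl_two_facts.2.2.1 w)
    exact (Nat.Coprime.coprime_dvd_left (orderOf_dvd_of_pow_eq_one hwk)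
      ((show Nat.Coprime 2 3 by norm_num).pow_left k)).dvd_of_dvd_mul_right h12
  obtain ⟨m, hm, hmπ⟩ := T.exists_π (orderOf_dvd_iff_pow_eq_one.1 hwo)
  have hmC := T.M_cent hm
  have hz : x * m⁻¹ ∈ Subgroup.zpowers h.a := ker_t (K := K) (mul_mem hx (inv_mem hmC)) (by
    show h.π (⟨x, hx⟩ * (⟨m, hmC⟩ : h.C)⁻¹) = 1
    rw [map_mul, map_inv, hmπ, mul_inv_cancel])
    ((show Commute x K.t from hxt).mul_left (show Commute m K.t from T.mem_D.1 (T.M_D hm)).inv_left).eq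
  have hz3 : (x * m⁻¹) ^ 3 = 1 := h.J_exp _ (Subgroup.zpowers_le.2 h.a_mem_J hz)
  have hcm : Commute (x * m⁻¹) m := by
    rcases h.mem_zpow_a hz with r | r | r <;> rw [r]
    · exact Commute.one_left m
    · exact (h.mem_C.1 hmC).symm
    · exact (show Commute h.a m from (h.mem_C.1 hmC).symm).inv_left
  have hp : (x * m⁻¹) ^ 2 ^ (k + 2) = 1 := by
    have hm' : m ^ 2 ^ (k + 2) = 1 := by
      rw [pow_add, mul_comm, pow_mul, show 2 ^ 2 = 4 from rfl, T.M_four hm, one_pow]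
    have hx' : x ^ 2 ^ (k + 2) = 1 := by rw [pow_add, pow_mul, hk, one_pow]
    have := hcm.mul_pow (2 ^ (k + 2))
    rw [inv_mul_cancel_right, hx', hm', mul_one] at this
    exact this.symm
  have h1 : x * m⁻¹ = 1 := orderOf_eq_one_iff.1 (Nat.eq_one_of_dvd_coprimes
    ((show Nat.Coprime 3 2 by norm_num).pow_right (k + 2)) (orderOf_dvd_of_pow_eq_one hz3)
    (orderOf_dvd_of_pow_eq_one hp))
  rwa [mul_inv_eq_one.1 h1]

/-- `C(t)` normalises `⟨a⟩`. -/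
theorem D_normalises {x : G} (hx : x ∈ T.D) : x * h.a * x⁻¹ = h.a ∨ x * h.a * x⁻¹ = h.a⁻¹ := by
  set N : Subgroup T.D := (Subgroup.centralizer (T.M : Set G)).subgroupOf T.D with hN
  have hNn : N.Normal := ⟨fun y hy d => by
    have hy' := Subgroup.mem_centralizer_iff.1 (Subgroup.mem_subgroupOf.1 hy)
    refine Subgroup.mem_subgroupOf.2 (Subgroup.mem_centralizer_iff.2 fun m hm => ?_)
    have := hy' _ (T.M_conj hm (inv_mem d.2))
    show m * ((d : G) * y * (d : G)⁻¹) = (d : G) * y * (d : G)⁻¹ * m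
    calc m * ((d : G) * y * (d : G)⁻¹) = (d : G) * (((d : G)⁻¹ * m * ((d : G)⁻¹)⁻¹) * y) * (d : G)⁻¹ := by
          group
      _ = (d : G) * (y * ((d : G)⁻¹ * m * ((d : G)⁻¹)⁻¹)) * (d : G)⁻¹ := by rw [this]
      _ = _ := by group⟩
  have hπ : ∀ y ∈ N, ∀ hy : (y : G) ∈ h.C, h.π ⟨y, hy⟩ ^ 4 = 1 := by
    intro y hy hyC
    refine sl_two_facts.2.1 _ fun γ hγ => ?_
    obtain ⟨m, hm, hmπ⟩ := T.exists_π (sl_iso_facts.2.2.2.1 γ hγ).1
    rw [← hmπ, ← map_mul, ← map_mul]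
    exact congrArg h.π (Subtype.ext (Subgroup.mem_centralizer_iff.1 hy m hm).symm)
  have haN : (⟨h.a, T.a_D⟩ : T.D) ∈ N := Subgroup.mem_subgroupOf.2
    (Subgroup.mem_centralizer_iff.2 fun m hm => h.mem_C.1 (T.M_cent hm))
  obtain ⟨i, hi⟩ := T.normal_part hNn hπ (hNn.conj_mem _ haN ⟨x, hx⟩)
  set b := x * h.a * x⁻¹ with hb
  have hn : b * h.a ^ i ∈ T.M := ⟨_, hi, rfl⟩
  have hbC : b ∈ h.C := by
    have := mul_mem (T.M_cent hn) (inv_mem (pow_mem h.a_mem_C i))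
    rwa [mul_inv_cancel_right] at this
  have h1 : b * h.a ^ i = 1 := T.M_cube hn (by
    rw [((show Commute b h.a from h.mem_C.1 hbC).pow_right i).mul_pow, hb, conj_pow, h.a_cube, mul_one,
      mul_inv_cancel, one_mul, ← pow_mul, mul_comm, pow_mul, h.a_cube, one_pow])
  have hbz : b ∈ Subgroup.zpowers h.a := by
    rw [eq_inv_of_mul_eq_one_left h1]
    exact inv_mem (Subgroup.npow_mem_zpowers _ _)
  rcases h.mem_zpow_a hbz with r | r | r
  · exact absurd (conj_eq_one_iff.1 r) h.a_ne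
  · exact Or.inl r
  · exact Or.inr r

theorem w_a : T.w * h.a * T.w⁻¹ = h.a⁻¹ := by
  rw [← K.ψ_a, T.w_act, K.toBase.ψ_neg]

theorem D_cases {x : G} (hx : x ∈ T.D) : x ∈ h.C ∨ T.w * x ∈ h.C := by
  rcases T.D_normalises hx with r | r
  · exact Or.inl (h.mem_C.2 (mul_inv_eq_iff_eq_mul.1 r))
  · refine Or.inr (h.mem_C.2 (mul_inv_eq_iff_eq_mul.1 ?_))
    calc T.w * x * h.a * (T.w * x)⁻¹ = (T.w * (x * h.a * x⁻¹)⁻¹ * T.w⁻¹)⁻¹ := by group
      _ = h.a := by rw [r, inv_inv, T.w_a, inv_inv]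

/-- the Sylow 2-subgroup -/
noncomputable def P2 : Subgroup G where
  carrier := {x | x ∈ T.M ∨ T.w * x ∈ T.M}
  one_mem' := Or.inl (one_mem _)
  inv_mem' := by
    rintro x (hx | hx)
    · exact Or.inl (inv_mem hx)
    · refine Or.inr ?_
      have := T.M_conj (inv_mem hx) T.w_D
      rwa [mul_inv_rev, T.w_inv, mul_assoc (T.w) _ T.w, mul_assoc x⁻¹, T.w_sq, mul_one] at this
  mul_mem' := by
    rintro x y (hx | hx) (hy | hy)
    · exact Or.inl (mul_mem hx hy)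
    · refine Or.inr ?_
      have := mul_mem (T.M_conj hx T.w_D) hy
      rwa [T.w_inv, show T.w * x * T.w * (T.w * y) = T.w * x * (T.w * T.w) * y by group, T.w_sq, mul_one,
        mul_assoc] at this
    · exact Or.inr (by rw [← mul_assoc]; exact mul_mem hx hy)
    · refine Or.inl ?_
      have := mul_mem (T.M_conj hx T.w_D) hy
      rwa [T.w_inv, show T.w * (T.w * x) * T.w * (T.w * y) = (T.w * T.w) * x * (T.w * T.w) * y by group,
        T.w_sq, mul_one, one_mul] at this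

theorem P2_D {x : G} (hx : x ∈ T.P2) : x ∈ T.D := by
  rcases hx with hx | hx
  · exact T.M_D hx
  · have := mul_mem T.w_D (T.M_D hx)
    rwa [← mul_assoc, T.w_sq, one_mul] at this

theorem P2_isPGroup : IsPGroup 2 T.P2 := by
  rintro ⟨x, hx⟩
  refine ⟨3, Subtype.ext ?_⟩
  show x ^ 2 ^ 3 = 1
  rw [show 2 ^ 3 = 2 * 4 from rfl, pow_mul, pow_two]
  rcases hx with hx | hx
  · exact T.M_four (mul_mem hx hx)
  · refine T.M_four ?_
    have := mul_mem (T.M_conj hx T.w_D) hx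
    rwa [T.w_inv, show T.w * (T.w * x) * T.w * (T.w * x) = (T.w * T.w) * x * (T.w * T.w) * x by group,
      T.w_sq, mul_one, one_mul] at this

theorem P2_max {U : Subgroup G} (hU : IsPGroup 2 U) (hUD : U ≤ T.D) (hle : T.P2 ≤ U) : U ≤ T.P2 := by
  intro x hx
  have hw : T.w ∈ U := hle (Or.inr (by rw [T.w_sq]; exact one_mem _))
  have hp : ∀ y ∈ U, ∃ k : ℕ, y ^ 2 ^ k = 1 := fun y hy => by
    obtain ⟨k, hk⟩ := hU ⟨y, hy⟩
    exact ⟨k, congrArg Subtype.val hk⟩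
  rcases T.D_cases (hUD hx) with r | r
  · exact Or.inl (T.two_mem r (T.mem_D.1 (hUD hx)) (hp x hx))
  · exact Or.inr (T.two_mem r (T.mem_D.1 (hUD (mul_mem hw hx))) (hp _ (mul_mem hw hx)))

theorem g0_R : K.ψ (1, 2, 0) ∈ h.R ∧ K.ψ (1, 2, 0) ∉ Subgroup.zpowers h.a := by
  refine ⟨K.toBase.R_of_wt line_facts.2.2.2.2.2.1, fun hh => ?_⟩
  rcases h.mem_zpow_a hh with e | e | e
  · rw [← K.toBase.ψ_zero] at e; exact absurd (K.ψ_inj e) g_facts.1
  · rw [← K.ψ_a] at e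
    exact g_facts.2 ((K.ψ_inj e).symm ▸ line_facts.2.2.1.1)
  · rw [← K.ψ_a, ← K.toBase.ψ_neg] at e
    exact g_facts.2 (by rw [K.ψ_inj e]; decide +kernel)

include T in
/-- An element of order three commuting with a conjugate of `t` is not conjugate to `(1, 2, 0)`. -/
theorem no_conjugate {x y s : G} (hy : x * K.ψ (1, 2, 0) * x⁻¹ = y) (hsy : s * y = y * s) :
    ∀ g : G, g * K.t * g⁻¹ ≠ s := by
  haveI := Fact.mk Nat.prime_three
  intro g hg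
  set y' := g⁻¹ * y * g
  have hyt : y' * K.t = K.t * y' := by
    have e : K.t = g⁻¹ * s * g := by rw [← hg]; group
    show g⁻¹ * y * g * K.t = K.t * (g⁻¹ * y * g)
    rw [e, show g⁻¹ * y * g * (g⁻¹ * s * g) = g⁻¹ * (y * s) * g by group, ← hsy]; group
  obtain ⟨S, hS⟩ := T.exists_sylow_E T.E_le_D le_rfl
  have hy3 : y' ^ 3 = 1 := by
    show (g⁻¹ * y * g) ^ 3 = 1
    rw [← hy, show g⁻¹ * (x * K.ψ (1, 2, 0) * x⁻¹) * g = (g⁻¹ * x) * K.ψ (1, 2, 0) * (g⁻¹ * x)⁻¹ by group,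
      conj_pow, h.J_exp _ (K.ψ_mem _), mul_one, mul_inv_cancel]
  set yD : T.D := ⟨y', T.mem_D.2 hyt⟩
  obtain ⟨Q, hQ⟩ := IsPGroup.exists_le_sylow (p := 3) (P := Subgroup.zpowers yD) (by
    rintro ⟨r, hr⟩
    obtain ⟨n, rfl⟩ := Subgroup.mem_zpowers_iff.1 hr
    refine ⟨1, Subtype.ext ?_⟩
    rw [SubgroupClass.coe_pow, Subgroup.coe_one, ← zpow_natCast, ← zpow_mul, mul_comm, zpow_mul,
      zpow_natCast, show yD ^ 3 ^ 1 = 1 from Subtype.ext hy3, one_zpow])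
  obtain ⟨c, hc⟩ := MulAction.exists_smul_eq T.D Q S
  have hin : c * yD * c⁻¹ ∈ (S : Subgroup T.D) := by
    rw [← hc]; exact ⟨yD, hQ (Subgroup.mem_zpowers _), rfl⟩
  rw [hS] at hin
  obtain ⟨v, hv, e⟩ := T.exists_of_mem_E hin
  have e' : (c : G) * y' * (c : G)⁻¹ = K.ψ v := e
  refine T.not_conj_g hv (g := x⁻¹ * g * (c : G)⁻¹) ?_
  rw [← e', show K.ψ (1, 2, 0) = x⁻¹ * y * x by rw [← hy]; group]
  simp only [y']; group

theorem cycle_fix : ∃ c' ∈ h.R, c' ∉ Subgroup.zpowers h.a ∧ T.w * c' = c' * T.w := by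
  have hc3 := h.R_exp _ K.c_R
  have hmem : T.w * K.c * T.w⁻¹ * K.c⁻¹ ∈ h.J := h.cent_J fun j hj => by
    obtain ⟨v, rfl⟩ := K.ψ_surj j hj
    refine mul_inv_eq_iff_eq_mul.1 ?_
    have hci : ∀ u, K.c⁻¹ * K.ψ u * K.c⁻¹⁻¹ = K.ψ (act 8 (act 8 u)) := fun u => by
      have e : K.c⁻¹ = K.c * K.c := inv_eq_of_mul_eq_one_left (by rw [← hc3]; simp [pow_succ])
      rw [e, ← K.c_act, ← K.c_act]; group
    calc T.w * K.c * T.w⁻¹ * K.c⁻¹ * K.ψ v * (T.w * K.c * T.w⁻¹ * K.c⁻¹)⁻¹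
        = T.w * (K.c * (T.w⁻¹ * (K.c⁻¹ * K.ψ v * K.c⁻¹⁻¹) * T.w⁻¹⁻¹) * K.c⁻¹) * T.w⁻¹ := by group
      _ = K.ψ v := by
        rw [hci, T.w_inv, T.w_act, K.c_act, T.w_conj,
          (show ∀ u : V3, -act 8 (-act 8 (act 8 u)) = u by decide +kernel) v]
  obtain ⟨v, hv⟩ := K.ψ_surj _ hmem
  have hwc : T.w * K.c * T.w⁻¹ = K.ψ v * K.c := by rw [hv, inv_mul_cancel_right]
  set c' := K.ψ (-v) * K.c with hc'
  have hfix : T.w * c' * T.w⁻¹ = c' := by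
    rw [hc', show T.w * (K.ψ (-v) * K.c) * T.w⁻¹ = (T.w * K.ψ (-v) * T.w⁻¹) * (T.w * K.c * T.w⁻¹) by group,
      T.w_act, hwc, neg_neg, ← mul_assoc, ← K.ψ_add, (show ∀ u : V3, u + u = -u by decide +kernel) v]
  have hcube : c' ^ 3 = K.ψ ((wt (-v)).val • aV) :=
    K.toBase.cube_eq (i := 1) (by rw [hc', Fin.val_one, pow_one]) (by decide)
  have hwt : wt (-v) = 0 := by
    have h1 : T.w * c' ^ 3 * T.w⁻¹ = c' ^ 3 := by rw [← conj_pow, hfix]
    rw [hcube, T.w_act] at h1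
    exact (show ∀ i : ZMod 3, -(i.val • aV) = i.val • aV → i = 0 by decide +kernel) _ (K.ψ_inj h1)
  refine ⟨c', mul_mem (K.toBase.R_of_wt hwt) K.c_R, fun hz => K.c_not_J ?_, mul_inv_eq_iff_eq_mul.1 hfix⟩
  have := mul_mem (inv_mem (K.ψ_mem (-v))) (Subgroup.zpowers_le.2 h.a_mem_J hz)
  rwa [hc', inv_mul_cancel_left] at this

/-- `t` is isolated in the Sylow 2-subgroup. -/
theorem isolated {g : G} (hg : g * K.t * g⁻¹ ∈ T.P2) : g * K.t * g⁻¹ = K.t := by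
  set s := g * K.t * g⁻¹ with hs
  have ht1 : K.t ≠ 1 := fun e => h.neg_ne_one K.t_π (e ▸ Subgroup.one_mem _)
  have hs2 : s * s = 1 := by
    rw [hs, show g * K.t * g⁻¹ * (g * K.t * g⁻¹) = g * (K.t * K.t) * g⁻¹ by group, K.t_sq, mul_one,
      mul_inv_cancel]
  have hno_w : ∀ d : G, d * K.t * d⁻¹ ≠ T.w := fun d hd => by
    obtain ⟨c', hc', hca, hwc⟩ := T.cycle_fix
    obtain ⟨x, -, hx⟩ := h.transitive (g0_R (K := K)).1 (g0_R (K := K)).2 hc' hca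
    exact T.no_conjugate hx hwc d hd
  have hno_wt : ∀ d : G, d * K.t * d⁻¹ ≠ T.w * K.t := fun d hd => by
    refine T.no_conjugate (x := 1) (y := K.ψ (1, 2, 0)) (by group) ?_ d hd
    refine mul_inv_eq_iff_eq_mul.1 ?_
    rw [show T.w * K.t * K.ψ (1, 2, 0) * (T.w * K.t)⁻¹ = T.w * (K.t * K.ψ (1, 2, 0) * K.t⁻¹) * T.w⁻¹ by group,
      K.t_act, T.w_act, line_facts.2.2.2.2.1, neg_neg]
  rcases hg with hM | hM
  · have h2 : h.π ⟨s, T.M_cent hM⟩ * h.π ⟨s, T.M_cent hM⟩ = 1 := by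
      rw [← π_mul (T.M_cent hM) (T.M_cent hM), π_congr hs2]
      exact map_one _
    rcases sl_iso_facts.2.2.2.2.2.2.2 _ h2 with r | r
    · exfalso
      exact ht1 (conj_eq_one_iff.1 (hs ▸ T.π_inj hM r))
    · exact T.π_eq hM T.t_mem_M (r.trans K.t_π.symm)
  exfalso
  set x := T.w * s with hx
  have hsx : s = T.w * x := by rw [hx, ← mul_assoc, T.w_sq, one_mul]
  have hxC := T.M_cent hM
  rcases sl_two_facts.2.2.2 _ (T.π_four hM) with r | r | r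
  · exact hno_w g (by rw [← hs, hsx, T.π_inj hM r, mul_one])
  · exact hno_wt g (by rw [← hs, hsx, T.π_eq hM T.t_mem_M (r.trans K.t_π.symm)])
  -- `x` of order four inverted by the outer element
  set α : G → G := fun m => T.w * m * T.w⁻¹ with hα
  have hαM : ∀ {m}, m ∈ T.M → α m ∈ T.M := fun hm => T.M_conj hm T.w_D
  have hαmul : ∀ m n, α (m * n) = α m * α n := fun m n => by simp only [hα]; group
  have hαx : α x = x⁻¹ := by
    refine eq_inv_of_mul_eq_one_left ?_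
    have h1 : T.w * x * (T.w * x) = 1 := by rw [← hsx]; exact hs2
    simp only [hα, T.w_inv]
    rw [← h1]; group
  set p : ∀ m, m ∈ T.M → SL3 := fun m hm => h.π ⟨m, T.M_cent hm⟩ with hp
  have pmul : ∀ {m n} (hm : m ∈ T.M) (hn : n ∈ T.M), p (m * n) (mul_mem hm hn) = p m hm * p n hn :=
    fun hm hn => π_mul (T.M_cent hm) (T.M_cent hn)
  have pinj : ∀ {m n} (hm : m ∈ T.M) (hn : n ∈ T.M), p m hm = p n hn → m = n := fun hm hn e =>
    T.π_eq hm hn e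
  have pcongr : ∀ {m n} (e : m = n) (hm : m ∈ T.M), p m hm = p n (e ▸ hm) := fun e hm => by subst e; rfl
  set γ := p x hM with hγ
  have hxinv : p x⁻¹ (inv_mem hM) = -γ := by
    rw [← (sl_iso_facts.2.2.2.1 γ r).2.1]
    exact map_inv h.π ⟨x, hxC⟩
  obtain ⟨δ, hδ, hδ1, hδ2⟩ := (sl_iso_facts.2.2.2.1 γ r).2.2
  obtain ⟨m, hm, hmπ⟩ := T.exists_π (sl_iso_facts.2.2.2.1 δ hδ).1
  set ε := p (α m) (hαM hm) with hε
  have hε4 : ε * ε = -1 := by
    have hmm : m * m = K.t := pinj (mul_mem hm hm) T.t_mem_M (by rw [pmul hm hm]; exact (hmπ ▸ hδ).trans K.t_π.symm)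
    rw [hε, ← pmul (hαM hm) (hαM hm)]
    refine (pcongr ((hαmul m m).symm.trans (show α (m * m) = K.t from ?_)) (mul_mem (hαM hm) (hαM hm))).trans K.t_π
    simp only [hα]; rw [hmm, T.w_inv, T.w_t, mul_assoc, T.w_sq, mul_one]
  -- `α` moves the class of `m`
  have hααid : ∀ n, α (α n) = n := fun n => by
    simp only [hα, T.w_inv]
    rw [show T.w * (T.w * n * T.w) * T.w = (T.w * T.w) * n * (T.w * T.w) by group, T.w_sq, one_mul, mul_one]
  have hne1 : ε ≠ γ := fun e => by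
    have : α m = x := pinj (hαM hm) hM e
    have h1 : m = x⁻¹ := by rw [← hαx, ← this, hααid]
    refine hδ2 ?_
    rw [← hmπ, ← hxinv]
    exact pcongr h1 hm
  have hne2 : ε ≠ -γ := fun e => by
    have : α m = x⁻¹ := pinj (hαM hm) (inv_mem hM) (e.trans hxinv.symm)
    have h1 : m = x := by rw [← hααid m, this, ← hαx, hααid]
    refine hδ1 ?_
    rw [← hmπ]
    exact pcongr h1 hm
  have hnotfix : ¬ (ε = δ ∨ ε = -δ) := by
    intro hfix
    -- then every class is fixed, which `z` forbids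
    have hz : K.ψ zV ∈ T.D := T.mem_D.2 (z_t (K := K))
    set n := K.ψ zV * x * (K.ψ zV)⁻¹ with hn
    have hnM : n ∈ T.M := T.M_conj hM hz
    set w := h.π ⟨K.ψ zV, K.toBase.ψ_C zV⟩ with hw
    have hw3 : w ^ 3 = 1 := by
      rw [← π_pow (K.toBase.ψ_C zV), π_congr (h.J_exp _ (K.ψ_mem zV))]
      exact map_one _
    have hf := sl_iso_facts.2.2.2.2.2.2.1 w γ hw3 (ψ_z_π (K := K)) r
    have hnπ : p n hnM = w * γ * w⁻¹ := by
      show h.π (⟨K.ψ zV, K.toBase.ψ_C zV⟩ * ⟨x, hxC⟩ * (⟨K.ψ zV, K.toBase.ψ_C zV⟩ : h.C)⁻¹) = _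
      rw [map_mul, map_mul, map_inv]
    have e1 : α n = (K.ψ zV)⁻¹ * x⁻¹ * K.ψ zV := by
      rw [hn, hαmul, hαmul, hαx]
      simp only [hα]
      rw [← conj_inv, T.w_act, K.toBase.ψ_neg, inv_inv]
    have hαn : p (α n) (hαM hnM) = w⁻¹ * -γ * w := by
      rw [pcongr e1 (hαM hnM), ← hxinv]
      show h.π ((⟨K.ψ zV, K.toBase.ψ_C zV⟩ : h.C)⁻¹ * ⟨x⁻¹, T.M_cent (inv_mem hM)⟩ * ⟨K.ψ zV, K.toBase.ψ_C zV⟩) = _
      rw [map_mul, map_mul, map_inv]
    -- the value of `α` on products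
    have hall : ∀ (k : G) (hk : k ∈ T.M), p k hk = w * γ * w⁻¹ →
        p (α k) (hαM hk) = w * γ * w⁻¹ ∨ p (α k) (hαM hk) = -(w * γ * w⁻¹) := by
      intro k hk e
      have hprod : ∀ {k1 k2} (h1 : k1 ∈ T.M) (h2 : k2 ∈ T.M), k = k1 * k2 →
          p (α k) (hαM hk) = p (α k1) (hαM h1) * p (α k2) (hαM h2) := fun h1 h2 ek => by
        subst ek; rw [← pmul (hαM h1) (hαM h2)]; exact pcongr (hαmul _ _) (hαM hk)
      have hneg : ∀ {k1} (h1 : k1 ∈ T.M), p k hk = -p k1 h1 → k = k1 * K.t := fun h1 ek =>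
        pinj hk (mul_mem h1 T.t_mem_M) (by rw [ek, pmul h1 T.t_mem_M]; show _ = _ * h.π ⟨K.t, _⟩; rw [K.t_π, mul_neg_one])
      have hαt : p (α K.t) (hαM T.t_mem_M) = -1 := by
        refine (pcongr (show α K.t = K.t from ?_) (hαM T.t_mem_M)).trans K.t_π
        simp only [hα]; rw [T.w_t, mul_inv_cancel_right]
      have hα1 : p (α 1) (hαM (one_mem _)) = 1 :=
        (pcongr (show α 1 = 1 by simp [hα]) (hαM (one_mem _))).trans (map_one h.π)
      have hαxπ : p (α x) (hαM hM) = -γ := (pcongr hαx (hαM hM)).trans hxinv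
      have hαmπ : p (α m) (hαM hm) = δ ∨ p (α m) (hαM hm) = -δ := hfix
      rcases sl_iso_facts.2.2.2.2.1 γ δ r hδ hδ1 hδ2 (w * γ * w⁻¹) hf.1 with c | c | c | c | c | c
      · rw [hprod hM (one_mem _) (by rw [mul_one]; exact pinj hk hM (e.trans c)), hαxπ, c]
        rw [hα1, mul_one]
        exact Or.inr rfl
      · rw [hprod hM T.t_mem_M (hneg hM (e.trans c)), hαxπ, hαt, c, mul_neg_one, neg_neg]
        exact Or.inr rfl
      · rw [hprod hm (one_mem _) (by rw [mul_one]; exact pinj hk hm (e.trans (c.trans hmπ.symm))),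
          hα1, mul_one, c]
        exact hαmπ
      · rw [hprod hm T.t_mem_M (hneg hm (e.trans (c.trans (congrArg Neg.neg hmπ.symm)))), hαt, c, neg_neg,
          mul_neg_one]
        rcases hαmπ with d | d <;> rw [d]
        · exact Or.inl rfl
        · exact Or.inr (neg_neg δ)
      · rw [hprod hM hm (pinj hk (mul_mem hM hm) (by rw [pmul hM hm, e, c]; exact congrArg (γ * ·) hmπ.symm)),
          hαxπ, c]
        rcases hαmπ with d | d <;> rw [d]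
        · exact Or.inr (neg_mul γ δ)
        · exact Or.inl (neg_mul_neg γ δ)
      · rw [hprod (mul_mem hM hm) T.t_mem_M (hneg (mul_mem hM hm) (by rw [pmul hM hm, e, c]; exact congrArg Neg.neg (congrArg (γ * ·) hmπ.symm))),
          hαt, pcongr (hαmul x m) (hαM (mul_mem hM hm)), pmul (hαM hM) (hαM hm), hαxπ, c, mul_neg_one]
        rcases hαmπ with d | d <;> rw [d]
        · exact Or.inr (by rw [neg_mul])
        · exact Or.inl (by rw [neg_mul_neg])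
    rcases hall n hnM hnπ with c | c
    · exact hf.2.2.2.1 (hαn.symm.trans c)
    · exact hf.2.2.2.2 (hαn.symm.trans c)
  push Not at hnotfix
  have hkey := sl_iso_facts.2.2.2.2.2.1 γ δ r hδ hδ1 hδ2 ε hε4 hne1 hne2 hnotfix.1 hnotfix.2
  have hmD := T.M_D hm
  have hmem : α m * m⁻¹ ∈ T.M := mul_mem (hαM hm) (inv_mem hm)
  have hval : p _ hmem = ε * δ⁻¹ := by
    rw [pmul (hαM hm) (inv_mem hm), ← hmπ]
    exact congrArg (ε * ·) (map_inv h.π ⟨m, T.M_cent hm⟩)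
  have hconj : m * T.w * m⁻¹ = T.w * (α m * m⁻¹) := by
    simp only [hα]
    rw [show T.w * (T.w * m * T.w⁻¹ * m⁻¹) = (T.w * T.w) * m * T.w⁻¹ * m⁻¹ by group, T.w_sq, one_mul, T.w_inv]
  rcases hkey with c | c
  · have e : α m * m⁻¹ = x := pinj hmem hM (hval.trans c)
    refine hno_w (m⁻¹ * g) ?_
    rw [show m⁻¹ * g * K.t * (m⁻¹ * g)⁻¹ = m⁻¹ * s * m by rw [hs]; group, hsx, ← e, ← hconj]
    group
  · have e : α m * m⁻¹ = x * K.t := pinj hmem (mul_mem hM T.t_mem_M) (by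
      rw [hval, c, pmul hM T.t_mem_M]; show _ = _ * h.π ⟨K.t, _⟩; rw [K.t_π, mul_neg_one])
    refine hno_wt (m⁻¹ * g) ?_
    have e2 : T.w * x = m * T.w * m⁻¹ * K.t := by
      rw [hconj, e, mul_assoc T.w, mul_assoc x, K.t_sq, mul_one]
    rw [show m⁻¹ * g * K.t * (m⁻¹ * g)⁻¹ = m⁻¹ * s * m by rw [hs]; group, hsx, e2,
      show m⁻¹ * (m * T.w * m⁻¹ * K.t) * m = T.w * m⁻¹ * (K.t * m) by group, ← T.mem_D.1 hmD]
    group

include T in
/-- Two conjugates: `⟨a⟩` is normal. -/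
theorem zpowers_normal : Subgroup.normalizer (Subgroup.zpowers h.a : Set G) = ⊤ := by
  classical
  haveI := Fact.mk Nat.prime_two
  haveI := Fact.mk Nat.prime_three
  have ht1 : K.t ≠ 1 := fun e => h.neg_ne_one K.t_π (e ▸ Subgroup.one_mem _)
  have hot : orderOf K.t = 2 := orderOf_eq_prime (by rw [pow_two]; exact K.t_sq) ht1
  have htP : K.t ∈ T.P2 := Or.inl T.t_mem_M
  obtain ⟨S, hS⟩ := T.P2_isPGroup.exists_le_sylow
  have hSeq : T.P2 = (S : Subgroup G) := by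
    refine le_antisymm hS ?_
    by_contra hne
    haveI : Group.IsNilpotent (S : Subgroup G) := S.isPGroup'.isNilpotent
    have hlt : T.P2.subgroupOf (S : Subgroup G) < ⊤ := lt_top_iff_ne_top.2 fun e => hne fun y hy => by
      have : (⟨y, hy⟩ : (S : Subgroup G)) ∈ T.P2.subgroupOf (S : Subgroup G) := e ▸ Subgroup.mem_top _
      exact this
    obtain ⟨⟨n, hnS⟩, hn, hnP⟩ := SetLike.exists_of_lt (Group.normalizerCondition_of_isNilpotent _ hlt)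
    refine hnP ?_
    show n ∈ T.P2
    have hnt : n * K.t * n⁻¹ ∈ T.P2 := (Subgroup.mem_normalizer_iff.1 hn ⟨K.t, hS htP⟩).1 htP
    have hnD : n ∈ T.D := T.mem_D.2 (mul_inv_eq_iff_eq_mul.1 (T.isolated hnt))
    exact T.P2_max (U := (S : Subgroup G) ⊓ T.D) (S.isPGroup'.to_le inf_le_left) inf_le_right
      (le_inf hS fun y hy => T.P2_D hy) ⟨hnS, hnD⟩
  obtain ⟨N, hN, hNodd, hNc⟩ := Cfsg.Agent.S0215.result S K.t hot (hSeq.le htP)
    (fun g hg => T.isolated (by rw [hSeq]; exact hg))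
  haveI := hN
  -- `R ≤ N`
  have hRN' : ∀ r ∈ h.R, ∃ z ∈ Subgroup.zpowers h.a, z * r ∈ N := by
    intro r hr
    refine ⟨_, h.inverts K.t_sq K.t_π hr, ?_⟩
    have h3 := h.R_exp r hr
    rw [pow_succ, pow_two, mul_eq_one_iff_eq_inv] at h3
    rw [mul_assoc (K.t * r * K.t⁻¹), h3]
    exact hNc r
  obtain ⟨z₁, hz₁, hcN⟩ := hRN' _ K.c_R
  obtain ⟨z₂, hz₂, hgN⟩ := hRN' _ (g0_R (K := K)).1
  have haN : h.a ∈ N := by
    have hcomm : ∀ {z y : G}, z ∈ Subgroup.zpowers h.a → y ∈ h.C → Commute z y := fun {z y} hz hy =>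
      (mul_inv_eq_iff_eq_mul.1 (h.a_pow_comm hz hy)).symm
    have hcC := h.R_le K.c_R
    have hgC := K.toBase.ψ_C (1, 2, 0)
    have h1 : ⁅z₁ * K.c, z₂ * K.ψ (1, 2, 0)⁆ ∈ N := by
      rw [commutatorElement_def]
      exact mul_mem (mul_mem (mul_mem hcN hgN) (inv_mem hcN)) (inv_mem hgN)
    have h2 : ⁅z₁ * K.c, z₂ * K.ψ (1, 2, 0)⁆ = K.c * K.ψ (1, 2, 0) * K.c⁻¹ * (K.ψ (1, 2, 0))⁻¹ := by
      have hzC : ∀ {z}, z ∈ Subgroup.zpowers h.a → z ∈ h.C := fun hz => Subgroup.zpowers_le.2 h.a_mem_C hz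
      rw [commutatorElement_def]
      calc z₁ * K.c * (z₂ * K.ψ (1, 2, 0)) * (z₁ * K.c)⁻¹ * (z₂ * K.ψ (1, 2, 0))⁻¹
          = z₁ * ((K.c * z₂) * (K.ψ (1, 2, 0) * K.c⁻¹) * z₁⁻¹) * (K.ψ (1, 2, 0))⁻¹ * z₂⁻¹ := by group
        _ = z₁ * ((z₂ * K.c) * (K.ψ (1, 2, 0) * K.c⁻¹) * z₁⁻¹) * (K.ψ (1, 2, 0))⁻¹ * z₂⁻¹ := by
            rw [(hcomm hz₂ hcC).eq]
        _ = z₁ * (z₂ * (K.c * K.ψ (1, 2, 0) * K.c⁻¹)) * z₁⁻¹ * (K.ψ (1, 2, 0))⁻¹ * z₂⁻¹ := by group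
        _ = (z₂ * (K.c * K.ψ (1, 2, 0) * K.c⁻¹)) * (K.ψ (1, 2, 0))⁻¹ * z₂⁻¹ := by
            rw [(hcomm hz₁ (mul_mem (hzC hz₂) (mul_mem (mul_mem hcC hgC) (inv_mem hcC)))).eq,
              mul_inv_cancel_right]
        _ = z₂ * (K.c * K.ψ (1, 2, 0) * K.c⁻¹ * (K.ψ (1, 2, 0))⁻¹) * z₂⁻¹ := by group
        _ = _ := by
            rw [(hcomm hz₂ (mul_mem (mul_mem (mul_mem hcC hgC) (inv_mem hcC)) (inv_mem hgC))).eq,
              mul_inv_cancel_right]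
    rw [h2, K.c_act, ← K.toBase.ψ_sub,
      g_comm, K.toBase.ψ_neg, K.ψ_a] at h1
    exact N.inv_mem_iff.1 h1
  have hRN : h.R ≤ N := fun r hr => by
    obtain ⟨z, hz, hzr⟩ := hRN' r hr
    have := mul_mem (inv_mem (Subgroup.zpowers_le.2 haN hz)) hzr
    rwa [inv_mul_cancel_left] at this
  -- `C_N(a) = R`
  have hCN : ∀ x ∈ N, x ∈ h.C → x ∈ h.R := by
    intro x hxN hxC
    by_contra hxR
    have hw1 : h.π ⟨x, hxC⟩ ≠ 1 := fun e => hxR ((h.mem_R_iff ⟨x, hxC⟩).2 e)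
    obtain ⟨γ, k, hk⟩ := sl_neg_in_normal _ hw1
    obtain ⟨c, rfl⟩ := h.π_surj γ
    obtain ⟨y, hy, hyπ⟩ : ∃ y : h.C, (y : G) ∈ N ∧ h.π y = -1 := by
      rcases hk with e | e
      · refine ⟨(c * ⟨x, hxC⟩ * c⁻¹ * (⟨x, hxC⟩ : h.C)⁻¹) ^ (k : ℕ),
          pow_mem (mul_mem (hN.conj_mem _ hxN _) (inv_mem hxN)) _, ?_⟩
        rw [map_pow, map_mul, map_mul, map_mul, map_inv, map_inv, e]
      · exact ⟨⟨x, hxC⟩ ^ (k : ℕ), pow_mem hxN _, by rw [map_pow, e]⟩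
    have h1 : y ^ Nat.card N = 1 := Subtype.ext (by
      rw [SubgroupClass.coe_pow, Subgroup.coe_one]
      exact congrArg Subtype.val (pow_card_eq_one' (x := (⟨(y : G), hy⟩ : N))))
    have h2 := congrArg h.π h1
    rw [map_pow, hyπ, map_one, hNodd.neg_one_pow] at h2
    exact sl_iso_facts.2.2.1 h2
  -- no element of `N` inverts `a`
  have hNC : ∀ n ∈ N, n * h.a * n⁻¹ ∈ Subgroup.zpowers h.a → n ∈ h.C := by
    intro n hnN hn
    obtain ⟨k, hk⟩ := hNodd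
    have hn2 : n * n ∈ h.C := h.mem_C.2 (mul_inv_eq_iff_eq_mul.1 (by
      rw [show n * n * h.a * (n * n)⁻¹ = n * (n * h.a * n⁻¹) * n⁻¹ by group]
      rcases h.mem_zpow_a hn with e | e | e
      · exact absurd (conj_eq_one_iff.1 e) h.a_ne
      · rw [e, e]
      · rw [e, ← conj_inv, e, inv_inv]))
    have h1 : n ^ (2 * k + 1) = 1 := by
      rw [← hk]
      exact congrArg Subtype.val (pow_card_eq_one' (x := (⟨n, hnN⟩ : N)))
    have : n = (n * n) ^ (k + 1) := by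
      rw [← pow_two, ← pow_mul, show 2 * (k + 1) = (2 * k + 1) + 1 by ring, pow_succ, h1, one_mul]
    rw [this]
    exact pow_mem hn2 _
  -- `R` is a Sylow subgroup of `N`
  set RN : Subgroup N := h.R.subgroupOf N with hRN_def
  obtain ⟨Q, hQ⟩ := (IsPGroup.of_card (p := 3) (G := RN) (n := 3) (by
    rw [Nat.card_congr (Subgroup.subgroupOfEquivOfLe hRN).toEquiv, h.R_card]; rfl)).exists_le_sylow
  have hQeq : RN = (Q : Subgroup N) := by
    refine le_antisymm hQ ?_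
    by_contra hne
    haveI : Group.IsNilpotent (Q : Subgroup N) := Q.isPGroup'.isNilpotent
    have hlt : RN.subgroupOf (Q : Subgroup N) < ⊤ := lt_top_iff_ne_top.2 fun e => hne fun y hy => by
      have : (⟨y, hy⟩ : (Q : Subgroup N)) ∈ RN.subgroupOf (Q : Subgroup N) := e ▸ Subgroup.mem_top _
      exact this
    obtain ⟨⟨n, hnQ⟩, hn, hnR⟩ := SetLike.exists_of_lt (Group.normalizerCondition_of_isNilpotent _ hlt)
    refine hnR ?_
    show (n : G) ∈ h.R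
    refine hCN _ n.2 (hNC _ n.2 (h.center_R ?_ fun r hr => ?_))
    · exact (Subgroup.mem_normalizer_iff.1 hn ⟨⟨h.a, haN⟩, hQ h.a_mem_R⟩).1 h.a_mem_R
    · have h1 : (n : G)⁻¹ * r * (n : G) ∈ h.R := by
        have := (Subgroup.mem_normalizer_iff.1 (inv_mem hn) ⟨⟨r, hRN hr⟩, hQ hr⟩).1 hr
        have e : (n : G)⁻¹ * r * ((n : G)⁻¹)⁻¹ ∈ h.R := this
        rwa [inv_inv] at e
      have e := h.mem_C.1 (h.R_le h1)
      calc (n : G) * h.a * (n : G)⁻¹ * r = (n : G) * (h.a * ((n : G)⁻¹ * r * n)) * (n : G)⁻¹ := by group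
        _ = (n : G) * ((n : G)⁻¹ * r * n * h.a) * (n : G)⁻¹ := by rw [e]
        _ = _ := by group
  -- focal subgroup
  set Z : Subgroup N := (Subgroup.zpowers h.a).subgroupOf N with hZ
  have hZc : Z ≤ Subgroup.centralizer ((Q : Subgroup N) : Set N) := by
    intro z hz
    refine Subgroup.mem_centralizer_iff.2 fun q hq => Subtype.ext ?_
    rw [← hQeq] at hq
    exact mul_inv_eq_iff_eq_mul.1 (h.a_pow_comm hz (h.R_le hq))
  have hW : Cfsg.IsWeaklyClosed Z (Q : Subgroup N) := by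
    refine ⟨hQeq ▸ fun z hz => h.zpow_a_le_R hz, fun g hg => ?_⟩
    have hga : (g : G) * h.a * (g : G)⁻¹ ∈ Subgroup.zpowers h.a := by
      have h1 : (g : G) * h.a * (g : G)⁻¹ ∈ h.R := by
        have := hg ⟨⟨h.a, haN⟩, Subgroup.mem_zpowers h.a, rfl⟩
        rw [← hQeq] at this
        exact this
      by_contra hne
      obtain ⟨x, -, hx⟩ := h.transitive h1 hne (g0_R (K := K)).1 (g0_R (K := K)).2
      refine T.not_conj_g line_facts.2.2.1.1 (g := x * g) ?_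
      rw [K.ψ_a, ← hx]; group
    have hgC := hNC _ g.2 hga
    refine Subgroup.eq_of_le_of_card_ge ?_ (le_of_eq ?_)
    · rintro _ ⟨z, hz, rfl⟩
      show (g : G) * (z : G) * (g : G)⁻¹ ∈ Subgroup.zpowers h.a
      rw [h.a_pow_comm (show (z : G) ∈ _ from hz) hgC]; exact hz
    · rw [Subgroup.card_map_of_injective (f := (MulAut.conj g).toMonoidHom) (MulEquiv.injective _)]
  have hfocal := Cfsg.Agent.S0077.result Q Z hZc hW
  have hNZ : Subgroup.normalizer (Z : Set N) ≤ RN := by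
    intro n hn
    refine hCN _ n.2 (hNC _ n.2 ?_)
    exact (Subgroup.mem_normalizer_iff.1 hn ⟨h.a, haN⟩).1 (Subgroup.mem_zpowers h.a)
  have hinf : commutator N ⊓ (Q : Subgroup N) ≤ Z := by
    rw [hfocal]
    refine inf_le_left.trans (Subgroup.commutator_le.2 fun p hp q hq => ?_)
    exact h.comm_R (hNZ hp) (hNZ hq)
  -- the derived subgroup is `⟨a⟩`
  set L := (commutator N).map N.subtype with hL
  haveI : L.Normal := ConjAct.normal_of_characteristic_of_normal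
  have haL : h.a ∈ L := by
    have h1 : K.c * K.ψ (1, 2, 0) * K.c⁻¹ * (K.ψ (1, 2, 0))⁻¹ = h.a⁻¹ := by
      rw [K.c_act, ← K.toBase.ψ_sub,
        g_comm, K.toBase.ψ_neg, K.ψ_a]
    have h2 : h.a⁻¹ ∈ L := ⟨⁅(⟨K.c, hRN K.c_R⟩ : N), ⟨K.ψ (1, 2, 0), hRN (g0_R (K := K)).1⟩⁆,
      Subgroup.commutator_mem_commutator (Subgroup.mem_top _) (Subgroup.mem_top _), h1⟩
    exact L.inv_mem_iff.1 h2
  obtain ⟨hcard, -⟩ := h.selfcent_small (L := L) (by rw [Subgroup.normalizer_eq_top]; exact le_top)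
    haL h.a_cube h.a_ne fun x hx hxa => by
      obtain ⟨x, hxL, rfl⟩ := hx
      exact hinf ⟨hxL, hQeq ▸ hCN _ x.2 (h.mem_C.2 hxa)⟩
  have hLodd : Odd (Nat.card L) := Odd.of_dvd_nat hNodd (Subgroup.card_dvd_of_le (Subgroup.map_subtype_le _))
  have hL3 : Nat.card L = 3 := hcard.resolve_right fun e => by
    rw [e] at hLodd; exact absurd hLodd (by decide)
  have hLeq : Subgroup.zpowers h.a = L :=
    Subgroup.eq_of_le_of_card_ge (Subgroup.zpowers_le.2 haL) (by rw [hL3, h.card_zpow_a])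
  rw [hLeq, Subgroup.normalizer_eq_top]

end Two

end Cfsg.Agent.Recog.ThreeCentSp
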