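import Cfsg.Agent.Lib.Recog.ThreeCentSp.EightSmall
import Cfsg.Agent.Lib.Recog.ThreeCentSp.One
import Cfsg.Agent.Lib.Recog.ThreeCentSp.Four
import Cfsg.Agent.Lib.Recog.ThreeCentSp.TwoNormal

/-!
The case division: with one, two or four conjugates the conclusion is reached, with eight conjugates
generators satisfying the relations of the certificates are found.
-/

set_option autoImplicit false
set_option linter.unusedSectionVars false
set_option linter.style.haveILetI false

namespace Cfsg.Agent.Recog.ThreeCentSp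

open Cfsg.Agent.Invol.PSp43Am (V3 act)
open Cert (relJ relA relC relX relR RelS RelF Controls)

namespace Hyp

variable {G : Type*} [Group G] [Finite G] (h : Hyp G)

include h in
/-- The element is not conjugate to its inverse. -/
theorem not_inverted (hinv : ¬ h.Inverted) (F : Type*) [Field F] [Fintype F] (hF : Fintype.card F = 3) :
    (∃ N : Subgroup G, N.Normal ∧ N.index = 3) ∨ Nonempty (G ≃* Cfsg.PSp 2 F) := by
  obtain ⟨K⟩ := h.exists_coords
  have h24 : ¬ K.toBase.Real (cols (act 24)) := fun hr => hinv (K.inverted_iff.2 hr)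
  by_cases h1 : K.toBase.Real (cols (act 1))
  · exact Or.inr (K.psp_of_four h24 h1 F hF)
  · exact Or.inl (K.index_three h24 h1)

include h in
/-- The element is conjugate to its inverse. -/
theorem inverted (hinv : h.Inverted) :
    Subgroup.normalizer (Subgroup.zpowers h.a : Set G) = ⊤ ∨
      ∃ K : Coords h, K.toBase.Real (cols (act 24)) ∧ K.toBase.Real (cols (act 1)) ∧ ∃ g : ℕ → G,
        (RelS relJ relA relC g ∧ Controls (Subgroup.closure (g '' Set.Iio 5)) g ∧
          ∀ y, y * g 0 = g 0 * y → y ∈ Subgroup.closure (g '' Set.Iio 5)) ∨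
        (RelF relJ relA relX relR g ∧ Controls (Subgroup.closure (g '' Set.Iio 6)) g) := by
  obtain ⟨K₀⟩ := h.exists_coords
  have h24 := K₀.inverted_iff.1 hinv
  by_cases h1 : K₀.toBase.Real (cols (act 1))
  · right
    obtain ⟨K, ⟨T⟩⟩ := K₀.exists_eight h24 h1
    have hreal : ∀ k : Fin 48, K.toBase.Real (cols (act (k : ℕ))) := fun k =>
      ⟨T.σ k, T.σ_N k, actH k, fun v => T.σ_act k v, rfl⟩
    refine ⟨K, hreal 24, hreal 1, ?_⟩
    obtain ⟨k⟩ := T.exists_kers
    rcases T.small_or_model with hs | ⟨⟨X⟩⟩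
    · refine ⟨T.gen 1, Or.inl ⟨k.rel_s hs 1, T.controls_small hs 1, fun y hy => T.cent_25_le hs 1 ?_⟩⟩
      have e : T.gen 1 0 = T.σ 25 := by
        show K.ψ 0 * T.σ 25 = _
        rw [K.toBase.ψ_zero, one_mul]
      rwa [e] at hy
    · exact ⟨T.gen X.r, Or.inr ⟨k.rel_f X, X.controls_full⟩⟩
  · left
    obtain ⟨T⟩ := K₀.exists_two h24 h1
    exact T.zpowers_normal

end Hyp

end Cfsg.Agent.Recog.ThreeCentSp
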