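import Cfsg.Agent.Lib.Recog.ThreeCentSp.Fusion
import Cfsg.Agent.Lib.Invol.PSp43Am.General

/-!
Subgroups normalised by `J`: no core of order prime to three, small ones with a self-centralising
element, Burnside's transfer when only `J` normalises.
-/

set_option autoImplicit false
set_option linter.unusedSectionVars false
set_option linter.style.haveILetI false
set_option maxRecDepth 20000

open scoped Pointwise

namespace Cfsg.Agent.Recog.ThreeCentSp

theorem two_cases {n : ℕ} (h : n ∣ 15) (h3 : 3 ∣ n) : n = 3 ∨ n = 15 := by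
  have hle := Nat.le_of_dvd (by norm_num) h
  have : ∀ m : Fin 16, (m : ℕ) ∣ 15 → 3 ∣ (m : ℕ) → (m : ℕ) = 3 ∨ (m : ℕ) = 15 := by decide
  exact this ⟨n, by omega⟩ h h3

/-- A permutation action of a 3-group on a set whose size is prime to three has a fixed point. -/
theorem exists_fixed_sylow {L : Type*} [Group L] [Finite L] {p : ℕ} [Fact p.Prime]
    {J : Type*} [Group J] [Finite J] (hJ : IsPGroup 3 J) (φ : J →* MulAut L)
    (h3 : ¬ 3 ∣ Nat.card (Sylow p L)) :
    ∃ S : Sylow p L, ∀ j : J, ∀ x ∈ (S : Subgroup L), φ j x ∈ (S : Subgroup L) := by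
  haveI := Fact.mk Nat.prime_three
  letI : MulDistribMulAction J L :=
    { smul := fun j x => φ j x
      one_smul := fun x => by show φ 1 x = x; rw [map_one]; rfl
      mul_smul := fun i j x => by show φ (i * j) x = φ i (φ j x); rw [map_mul]; rfl
      smul_mul := fun j x y => map_mul (φ j) x y
      smul_one := fun j => map_one (φ j) }
  obtain ⟨S, hS⟩ := hJ.nonempty_fixed_point_of_prime_not_dvd_card (Sylow p L) h3
  refine ⟨S, fun j x hx => ?_⟩
  have e : j • S = S := hS j
  rw [← e]
  exact ⟨x, hx, rfl⟩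

namespace Hyp

variable {G : Type*} [Group G] [Finite G] (h : Hyp G)

theorem J_isPGroup : IsPGroup 3 h.J := IsPGroup.of_card (n := 3) (by rw [h.J_card]; norm_num)

/-- conjugation by `J` on a subgroup it normalises -/
noncomputable def jAut {L : Subgroup G} (hJL : h.J ≤ Subgroup.normalizer (L : Set G)) : h.J →* MulAut L :=
  L.normalizerMonoidHom.comp (Subgroup.inclusion hJL)

theorem jAut_coe {L : Subgroup G} (hJL : h.J ≤ Subgroup.normalizer (L : Set G)) (j : h.J) (x : L) :
    ((h.jAut hJL j x : L) : G) = (j : G) * x * (j : G)⁻¹ := rfl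

/-- An invariant subgroup of order prime to three is trivial. -/
theorem sig' {K : Subgroup G} (hK : ¬ 3 ∣ Nat.card K)
    (hJK : ∀ j ∈ h.J, ∀ y ∈ K, j * y * j⁻¹ ∈ K) : K = ⊥ := by
  refine h.sig K ((Nat.Prime.coprime_iff_not_dvd Nat.prime_three).2 hK).symm fun j hj => ?_
  refine Subgroup.eq_of_le_of_card_ge ?_ (le_of_eq ?_)
  · rintro _ ⟨y, hy, rfl⟩
    exact hJK j hj y hy
  · rw [Subgroup.card_map_of_injective (f := (MulAut.conj j).toMonoidHom) (MulEquiv.injective _)]

theorem core_bot {L : Subgroup G} (hJL : h.J ≤ Subgroup.normalizer (L : Set G)) :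
    Cfsg.pPrimeCore 3 L = ⊥ := by
  haveI := Fact.mk Nat.prime_three
  set O := Cfsg.pPrimeCore 3 L with hO
  have h0 := h.sig' (K := O.map L.subtype)
    (by rw [Subgroup.card_map_of_injective L.subtype_injective]; exact Grp.pPrimeCore_not_dvd) fun j hj y hy => by
    obtain ⟨y, hyO, rfl⟩ := hy
    set e := h.jAut hJL ⟨j, hj⟩
    haveI hOn : O.Normal := Grp.pPrimeCore_isNormal
    have hle : O.map e.toMonoidHom ≤ O := Grp.le_pPrimeCore (hOn.map _ e.surjective) (by
      rw [Subgroup.card_map_of_injective (f := e.toMonoidHom) e.injective]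
      exact Grp.pPrimeCore_coprime)
    exact ⟨e y, hle ⟨y, hyO, rfl⟩, rfl⟩
  rw [eq_bot_iff]
  intro x hx
  have h1 : (x : G) ∈ O.map L.subtype := ⟨x, hx, rfl⟩
  rw [h0, Subgroup.mem_bot] at h1
  exact Subgroup.mem_bot.2 (Subtype.ext h1)

theorem no_fixed_sylow {L : Subgroup G} (hJL : h.J ≤ Subgroup.normalizer (L : Set G)) {p : ℕ}
    [Fact p.Prime] (hp : p ≠ 3) (hdvd : p ∣ Nat.card L) : 3 ∣ Nat.card (Sylow p L) := by
  by_contra h3
  haveI := Fact.mk Nat.prime_three
  obtain ⟨S, hS⟩ := exists_fixed_sylow h.J_isPGroup (h.jAut hJL) h3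
  have hne : (S : Subgroup L) ≠ ⊥ := S.ne_bot_of_dvd_card hdvd
  obtain ⟨m, hm⟩ := IsPGroup.iff_card.1 S.isPGroup'
  have h0 := h.sig' (K := (S : Subgroup L).map L.subtype)
    (by
      rw [Subgroup.card_map_of_injective L.subtype_injective, hm]
      intro hd
      exact hp ((Nat.prime_dvd_prime_iff_eq Nat.prime_three (Fact.out)).1 (Nat.prime_three.dvd_of_dvd_pow hd)).symm)
    fun j hj y hy => by
      obtain ⟨y, hyS, rfl⟩ := hy
      exact ⟨h.jAut hJL ⟨j, hj⟩ y, hS ⟨j, hj⟩ y hyS, rfl⟩
  refine hne (eq_bot_iff.2 fun x hx => ?_)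
  have h1 : (x : G) ∈ (S : Subgroup L).map L.subtype := ⟨x, hx, rfl⟩
  rw [h0, Subgroup.mem_bot] at h1
  exact Subgroup.mem_bot.2 (Subtype.ext h1)

/-- A subgroup normalised by `J` with an element of order three of `L` centralised in `L` only by
its powers has order three or six. -/
theorem selfcent_small {L : Subgroup G} (hJL : h.J ≤ Subgroup.normalizer (L : Set G)) {g : G}
    (hgL : g ∈ L) (hg : g ^ 3 = 1) (hg1 : g ≠ 1)
    (hc : ∀ x ∈ L, x * g = g * x → x ∈ Subgroup.zpowers g) :
    (Nat.card L = 3 ∨ Nat.card L = 6) ∧ ∀ x ∈ L, x * g * x⁻¹ ∈ Subgroup.zpowers g := by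
  classical
  haveI := Fact.mk Nat.prime_three
  set g' : L := ⟨g, hgL⟩ with hg'
  have ho : orderOf g' = 3 := orderOf_eq_prime (Subtype.ext hg) fun e => hg1 (congrArg Subtype.val e)
  have hO := h.core_bot hJL
  have hc' : ∀ x : L, x * g' = g' * x → x ∈ Subgroup.zpowers g' := fun x hx => by
    obtain ⟨i, hi⟩ := Subgroup.mem_zpowers_iff.1 (hc x x.2 (congrArg Subtype.val hx))
    exact Subgroup.mem_zpowers_iff.2 ⟨i, Subtype.ext (by simpa [hg'] using hi)⟩
  rcases Cfsg.Agent.Invol.PSp43Am.quot_cases ho
      (fun x hx => Subgroup.mem_sup_left (hc' x hx)) with ⟨hcard, hn⟩ | hcard | hcard <;>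
    simp only [hO, Subgroup.card_bot, mul_one] at hcard
  · refine ⟨hcard, fun x hx => ?_⟩
    have := hn ⟨x, hx⟩
    rw [hO, sup_bot_eq] at this
    obtain ⟨i, hi⟩ := Subgroup.mem_zpowers_iff.1 this
    exact Subgroup.mem_zpowers_iff.2 ⟨i, by simpa [hg'] using congrArg Subtype.val hi⟩
  · exfalso
    haveI := Fact.mk Nat.prime_two
    have h3 := h.no_fixed_sylow hJL (p := 2) (by norm_num) (by rw [hcard]; norm_num)
    obtain ⟨S⟩ : Nonempty (Sylow 2 L) := inferInstance
    have hS : Nat.card (S : Subgroup L) = 4 := by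
      rw [S.card_eq_multiplicity, hcard, show (60 : ℕ) = 2 ^ 2 * 15 by norm_num,
        Nat.factorization_mul (by norm_num) (by norm_num), Finsupp.add_apply,
        Nat.Prime.factorization_pow Nat.prime_two, Finsupp.single_eq_same,
        Nat.factorization_eq_zero_of_not_dvd (by norm_num)]
      norm_num
    have hi : (S : Subgroup L).index = 15 := by
      have := (S : Subgroup L).card_mul_index
      rw [hS, hcard] at this
      omega
    have hd := S.card_dvd_index
    rw [hi] at hd
    rcases two_cases hd h3 with hn | hn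
    · -- three Sylow subgroups
      set ρ := MulAction.toPermHom L (Sylow 2 L) with hρ
      have hcl : Nat.card (Equiv.Perm (Sylow 2 L)) = 6 := by rw [Nat.card_perm, hn]; rfl
      have h1 := Subgroup.card_eq_card_quotient_mul_card_subgroup ρ.ker
      rw [Nat.card_congr (QuotientGroup.quotientKerEquivRange ρ).toEquiv, hcard] at h1
      have hdvd : Nat.card ρ.range ∣ 6 := hcl ▸ Subgroup.card_subgroup_dvd_card _
      have h3r : 3 ∣ Nat.card ρ.range := by
        have e := Nat.card_congr (MulAction.orbitProdStabilizerEquivGroup L S)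
        rw [Nat.card_prod, hcard, MulAction.orbit_eq_univ, Nat.card_univ, hn] at e
        have hle : ρ.ker ≤ MulAction.stabilizer L S := fun x hx => by
          have := congrArg (fun f : Equiv.Perm (Sylow 2 L) => f S) (MonoidHom.mem_ker.1 hx)
          exact MulAction.mem_stabilizer_iff.2 this
        obtain ⟨q, hq⟩ := Subgroup.card_dvd_of_le hle
        refine ⟨q, Nat.eq_of_mul_eq_mul_right (Nat.card_pos (α := ρ.ker)) ?_⟩
        rw [← h1, ← e, hq]
        ring
      have hk3 : ¬ 3 ∣ Nat.card ρ.ker := by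
        intro hd3
        have := Nat.mul_dvd_mul h3r hd3
        rw [← h1] at this
        norm_num at this
      have hk : ρ.ker ≤ Cfsg.pPrimeCore 3 L := Grp.le_pPrimeCore inferInstance
        ((Nat.Prime.coprime_iff_not_dvd Nat.prime_three).2 hk3).symm
      rw [hO, le_bot_iff] at hk
      rw [hk, Subgroup.card_bot, mul_one] at h1
      rw [← h1] at hdvd
      norm_num at hdvd
    · -- fifteen Sylow subgroups
      have hN : Subgroup.normalizer ((S : Subgroup L) : Set L) = (S : Subgroup L) := by
        refine (Subgroup.eq_of_le_of_card_ge Subgroup.le_normalizer ?_).symm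
        have e := (Subgroup.normalizer ((S : Subgroup L) : Set L)).card_mul_index
        have e15 : (Subgroup.normalizer ((S : Subgroup L) : Set L)).index = 15 := by
          rw [← hn]; exact S.card_eq_index_normalizer.symm
        rw [e15, hcard] at e
        rw [hS]
        omega
      have hab : ∀ x ∈ (S : Subgroup L), ∀ y ∈ (S : Subgroup L), x * y = y * x := fun x hx y hy =>
        congrArg Subtype.val (IsPGroup.commutative_of_card_eq_prime_sq (p := 2) (by rw [hS]; norm_num)
          (⟨x, hx⟩ : (S : Subgroup L)) ⟨y, hy⟩)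
      have hP : Subgroup.normalizer ((S : Subgroup L) : Set L) ≤
          Subgroup.centralizer ((S : Subgroup L) : Set L) := fun x hx =>
        Subgroup.mem_centralizer_iff.2 fun y hy => hab y hy x (hN ▸ hx)
      set K := (MonoidHom.transferSylow S hP).ker with hK
      have hKc : Nat.card K = 15 := by
        have e := (MonoidHom.ker_transferSylow_isComplement' S hP).card_mul
        rw [hcard, hS] at e
        show Nat.card (MonoidHom.transferSylow S hP).ker = 15
        omega
      haveI := Fact.mk (show Nat.Prime 5 by norm_num)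
      obtain ⟨T⟩ : Nonempty (Sylow 5 K) := inferInstance
      have hT : Nat.card (T : Subgroup K) = 5 := by
        rw [T.card_eq_multiplicity, hKc, show (15 : ℕ) = 5 ^ 1 * 3 by norm_num,
          Nat.factorization_mul (by norm_num) (by norm_num), Finsupp.add_apply,
          Nat.Prime.factorization_pow (by norm_num), Finsupp.single_eq_same,
          Nat.factorization_eq_zero_of_not_dvd (by norm_num)]
        norm_num
      have hTn : Nat.card (Sylow 5 K) = 1 := by
        have hd5 := T.card_dvd_index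
        have e := (T : Subgroup K).card_mul_index
        rw [hT, hKc] at e
        rw [show (T : Subgroup K).index = 3 by omega] at hd5
        have hmod : Nat.card (Sylow 5 K) % 5 = 1 % 5 := card_sylow_modEq_one 5 K
        have := Nat.le_of_dvd (by norm_num) hd5
        interval_cases Nat.card (Sylow 5 K) <;> omega
      haveI : Subsingleton (Sylow 5 K) := (Nat.card_eq_one_iff_unique.1 hTn).1
      haveI : (T : Subgroup K).Characteristic := T.characteristic_of_subsingleton
      haveI : ((T : Subgroup K).map K.subtype).Normal := ConjAct.normal_of_characteristic_of_normal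
      have hle : (T : Subgroup K).map K.subtype ≤ Cfsg.pPrimeCore 3 L := Grp.le_pPrimeCore inferInstance (by
        rw [Subgroup.card_map_of_injective K.subtype_injective, hT]
        norm_num)
      rw [hO, le_bot_iff] at hle
      have := congrArg (fun U : Subgroup L => Nat.card U) hle
      simp only [Subgroup.card_map_of_injective K.subtype_injective, hT, Subgroup.card_bot] at this
      norm_num at this
  · exfalso
    haveI := Fact.mk (show Nat.Prime 7 by norm_num)
    have h3 := h.no_fixed_sylow hJL (p := 7) (by norm_num) (by rw [hcard]; norm_num)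
    obtain ⟨S⟩ : Nonempty (Sylow 7 L) := inferInstance
    have hS : Nat.card (S : Subgroup L) = 7 := by
      rw [S.card_eq_multiplicity, hcard, show (168 : ℕ) = 7 ^ 1 * 24 by norm_num,
        Nat.factorization_mul (by norm_num) (by norm_num), Finsupp.add_apply,
        Nat.Prime.factorization_pow (by norm_num), Finsupp.single_eq_same,
        Nat.factorization_eq_zero_of_not_dvd (by norm_num)]
      norm_num
    have hd := S.card_dvd_index
    have e := (S : Subgroup L).card_mul_index
    rw [hS, hcard] at e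
    rw [show (S : Subgroup L).index = 24 by omega] at hd
    have hmod : Nat.card (Sylow 7 L) % 7 = 1 % 7 := card_sylow_modEq_one 7 L
    have := Nat.le_of_dvd (by norm_num) hd
    interval_cases Nat.card (Sylow 7 L) <;> omega

/-- `J` is a Sylow subgroup of an overgroup in whose normaliser part it is. -/
theorem exists_sylow_J {Y : Subgroup G} (hJY : h.J ≤ Y)
    (hN : ∀ n ∈ Subgroup.normalizer (h.J : Set G), n ∈ Y → n ^ 81 = 1 → n ∈ h.J) :
    ∃ T : Sylow 3 Y, (T : Subgroup Y) = h.J.subgroupOf Y := by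
  haveI := Fact.mk Nat.prime_three
  have hJp : IsPGroup 3 (h.J.subgroupOf Y) := IsPGroup.of_card (n := 3) (by
    rw [Nat.card_congr (Subgroup.subgroupOfEquivOfLe hJY).toEquiv, h.J_card]; norm_num)
  obtain ⟨T, hT⟩ := hJp.exists_le_sylow
  refine ⟨T, (le_antisymm hT ?_).symm⟩
  by_contra hne
  have hlt : h.J.subgroupOf Y < (T : Subgroup Y) := lt_of_le_not_ge hT hne
  haveI : Group.IsNilpotent (T : Subgroup Y) := T.isPGroup'.isNilpotent
  set J' := (h.J.subgroupOf Y).subgroupOf (T : Subgroup Y) with hJ'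
  have hJ't : J' < ⊤ := lt_top_iff_ne_top.2 fun e => hne fun y hy => by
    have : (⟨y, hy⟩ : (T : Subgroup Y)) ∈ J' := e ▸ Subgroup.mem_top _
    exact this
  obtain ⟨n, hn, hnJ⟩ := SetLike.exists_of_lt (Group.normalizerCondition_of_isNilpotent _ hJ't)
  have hn81 : ((n : Y) : G) ^ 81 = 1 := by
    obtain ⟨m, hm⟩ := IsPGroup.iff_card.1 T.isPGroup'
    obtain ⟨x, hx⟩ := h.exists_conj_le (S := (T : Subgroup Y).map Y.subtype) (T.isPGroup'.map _)
    have hp := hx _ ⟨(n : Y), n.2, rfl⟩
    have := congrArg Subtype.val (pow_card_eq_one' (x := (⟨_, hp⟩ : h.P)))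
    rw [h.card_P, SubgroupClass.coe_pow, Subgroup.coe_one, conj_pow, conj_eq_one_iff] at this
    exact this
  refine hnJ ?_
  refine hN _ (Cfsg.Agent.Invol.PSp43Am.mem_normalizer_of_conj_mem fun y hy => ?_) (n : Y).2 hn81
  exact (Subgroup.mem_normalizer_iff.1 hn ⟨⟨y, hJY hy⟩, hT hy⟩).1 hy

/-- The joint centraliser of two elements of `J` is `J` when no other element of `N(J)` fixes both. -/
theorem cent_pair {v w : G} (hv : v ∈ h.J) (hw : w ∈ h.J)
    (hfix : ∀ n ∈ Subgroup.normalizer (h.J : Set G), n * v = v * n → n * w = w * n → n ∈ h.J)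
    {x : G} (hxv : x * v = v * x) (hxw : x * w = w * x) : x ∈ h.J := by
  haveI := Fact.mk Nat.prime_three
  set Y := Subgroup.centralizer ({v} : Set G) ⊓ Subgroup.centralizer ({w} : Set G) with hY
  have hJY : h.J ≤ Y := fun j hj => ⟨Subgroup.mem_centralizer_singleton_iff.2 (h.J_comm j hj v hv),
    Subgroup.mem_centralizer_singleton_iff.2 (h.J_comm j hj w hw)⟩
  have hfix' : ∀ n ∈ Subgroup.normalizer (h.J : Set G), n ∈ Y → n ∈ h.J := fun n hn hnY =>
    hfix n hn (Subgroup.mem_centralizer_singleton_iff.1 hnY.1) (Subgroup.mem_centralizer_singleton_iff.1 hnY.2)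
  obtain ⟨T, hT⟩ := h.exists_sylow_J hJY fun n hn hnY _ => hfix' n hn hnY
  have hP : Subgroup.normalizer ((T : Subgroup Y) : Set Y) ≤ Subgroup.centralizer ((T : Subgroup Y) : Set Y) := by
    rw [hT]
    intro n hn
    have hnJ : (n : G) ∈ h.J := hfix' _ (Cfsg.Agent.Invol.PSp43Am.mem_normalizer_of_conj_mem fun y hy =>
      (Subgroup.mem_normalizer_iff.1 hn ⟨y, hJY hy⟩).1 hy) n.2
    exact Subgroup.mem_centralizer_iff.2 fun y hy => Subtype.ext (h.J_comm _ hy _ hnJ)
  set K := (MonoidHom.transferSylow T hP).ker with hK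
  have hJn : h.J ≤ Subgroup.normalizer (Y : Set G) := hJY.trans Subgroup.le_normalizer
  have hKbot : K = ⊥ := by
    have : K ≤ Cfsg.pPrimeCore 3 Y := Grp.le_pPrimeCore inferInstance
      ((Nat.Prime.coprime_iff_not_dvd Nat.prime_three).2 (MonoidHom.not_dvd_card_ker_transferSylow T hP)).symm
    rwa [h.core_bot hJn, le_bot_iff] at this
  have e := (MonoidHom.ker_transferSylow_isComplement' T hP).card_mul
  rw [← hK, hKbot, Subgroup.card_bot, one_mul, hT,
    Nat.card_congr (Subgroup.subgroupOfEquivOfLe hJY).toEquiv] at e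
  have hJY' : h.J = Y := Subgroup.eq_of_le_of_card_ge hJY e.ge
  rw [hJY']
  exact ⟨Subgroup.mem_centralizer_singleton_iff.2 hxv, Subgroup.mem_centralizer_singleton_iff.2 hxw⟩

end Hyp

end Cfsg.Agent.Recog.ThreeCentSp
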