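import Cfsg.Agent.Lib.Recog.ThreeCentSp.Signal

/-!
Two conjugates of `a` under `N(J)`: the involution inverting `J`, fusion in `C_J(t)`, the centralisers
in `C(t)` of the elements of `C_J(t)` outside `⟨a⟩`, and the Sylow 3-subgroup of `C(t)`.
-/

set_option autoImplicit false
set_option linter.unusedSectionVars false
set_option linter.style.haveILetI false
set_option maxRecDepth 20000

namespace Cfsg.Agent.Recog.ThreeCentSp

open Cfsg.Agent.Invol.PSp43Am (V3 act aV xV yV zV)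

set_option synthInstance.maxSize 1000 in
theorem two_facts :
    (∀ k : Fin 48, (k : ℕ) % 4 ≠ 0 → ∃ p ∈ sixM, ∃ q ∈ sixM, cp p (cp (cols (act k)) q) = cols (act 1) ∨
      cp (cols (act 24)) (cp p (cp (cols (act k)) q)) = cols (act 1)) ∧
    (∀ k : Fin 48, (k : ℕ) % 4 = 0 → ∀ v : V3, act 4 v = v → act 4 (act k v) = act k v →
      act k v = v ∨ act k v = -v ∨ wt v = 0) ∧
    (∀ k : Fin 48, (k : ℕ) % 4 = 0 → ∀ v : V3, act 4 v = v → wt v ≠ 0 → act k v = v →
      (k : ℕ) = 0 ∨ (k : ℕ) = 4) ∧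
    (∀ k : Fin 48, (k : ℕ) % 4 = 0 → ∀ v : V3, act 4 v = v → act k v ≠ (1, 2, 0)) ∧
    (∀ v : V3, act 24 v = -v) ∧ (∀ v : V3, act 0 v = v) :=
  ⟨by decide +kernel, by decide +kernel, by decide +kernel, by decide +kernel, by decide +kernel,
    by decide +kernel⟩

set_option synthInstance.maxSize 1000 in
theorem line_facts : (∀ v : V3, act 4 v = v → wt v = 0 → v = 0 ∨ v = aV ∨ v = -aV) ∧
    (act 4 zV = zV ∧ wt zV ≠ 0) ∧ (act 4 aV = aV ∧ wt aV = 0) ∧
    (∀ v : V3, -v = (2 : ℕ) • v ∧ (3 : ℕ) • v = 0) ∧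
    act 4 ((1, 2, 0) : V3) = -(1, 2, 0) ∧ wt ((1, 2, 0) : V3) = 0 ∧
    act 4 xV - xV = (2, 1, 0) ∧ -((2, 1, 0) : V3) = (1, 2, 0) ∧
    (∀ v : V3, (∀ n : Fin 3, (n : ℕ) • v ≠ (1, 2, 0)) → v ≠ 0 → act 4 v = v ∨
      ∃ e : V3, ∃ n : Fin 3, act 4 e = e ∧ e ≠ 0 ∧ v = e + (n : ℕ) • ((1, 2, 0) : V3)) ∧
    (∀ v : V3, ∃ e : V3, ∃ n : Fin 3, act 4 e = e ∧ v = e + (n : ℕ) • ((1, 2, 0) : V3)) :=
  ⟨by decide +kernel, by decide +kernel, by decide +kernel, by decide +kernel, by decide +kernel,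
    by decide +kernel, by decide +kernel, by decide +kernel, by decide +kernel, by decide +kernel⟩

theorem g_facts : ((1, 2, 0) : V3) ≠ 0 ∧ act 4 ((1, 2, 0) : V3) ≠ (1, 2, 0) := by decide +kernel

/-- The data when `N(J)` induces the signed permutations without changes of sign. -/
structure Two {G : Type*} [Group G] {h : Hyp G} (K : Coords h) where
  w : G
  w_act : ∀ v, w * K.ψ v * w⁻¹ = K.ψ (-v)
  w_sq : w * w = 1
  w_t : w * K.t = K.t * w
  sign : ∀ g ∈ Subgroup.normalizer (h.J : Set G), ∀ k : Fin 48,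
    (∀ v, g * K.ψ v * g⁻¹ = K.ψ (act k v)) → (k : ℕ) % 4 = 0

namespace Coords

variable {G : Type*} [Group G] [Finite G] {h : Hyp G} (K : Coords h)

theorem exists_two (h24 : K.toBase.Real (cols (act 24))) (hno : ¬ K.toBase.Real (cols (act 1))) :
    Nonempty (Two K) := by
  obtain ⟨w, hwN, hw⟩ := K.exists_of_real (k := 24) h24
  have hneg : ∀ v, w * K.ψ v * w⁻¹ = K.ψ (-v) := fun v => by
    rw [hw, ← two_facts.2.2.2.2.1 v]
    rfl
  have hinv : ∀ j ∈ h.J, w * j * w⁻¹ = j⁻¹ := fun j hj => by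
    obtain ⟨v, rfl⟩ := K.ψ_surj j hj
    rw [hneg, K.toBase.ψ_neg]
  -- every such element is an involution
  have hsq : ∀ x : G, (∀ v, x * K.ψ v * x⁻¹ = K.ψ (-v)) → x * x = 1 := fun x hx => by
    have hmem : x * x ∈ h.J := h.cent_J fun j hj => by
      obtain ⟨v, rfl⟩ := K.ψ_surj j hj
      refine mul_inv_eq_iff_eq_mul.1 ?_
      calc x * x * K.ψ v * (x * x)⁻¹ = x * (x * K.ψ v * x⁻¹) * x⁻¹ := by group
        _ = K.ψ v := by rw [hx, hx, neg_neg]
    obtain ⟨v, hv⟩ := K.ψ_surj _ hmem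
    have h1 := hx v
    rw [hv, show x * (x * x) * x⁻¹ = x * x by group, ← hv] at h1
    rw [← hv, show v = 0 from (show ∀ u : V3, u = -u → u = 0 by decide +kernel) v (K.ψ_inj h1),
      K.toBase.ψ_zero]
  have hw2 := hsq w hneg
  have htinv : K.t⁻¹ = K.t := inv_eq_of_mul_eq_one_left K.t_sq
  have hwinv : w⁻¹ = w := inv_eq_of_mul_eq_one_left hw2
  have hu : w * (K.t * w * K.t⁻¹) ∈ h.J := h.cent_J fun j hj => by
    obtain ⟨v, rfl⟩ := K.ψ_surj j hj
    refine mul_inv_eq_iff_eq_mul.1 ?_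
    have e4 : ∀ v : V3, -act 4 (-act 4 v) = v := by decide +kernel
    calc w * (K.t * w * K.t⁻¹) * K.ψ v * (w * (K.t * w * K.t⁻¹))⁻¹
        = w * (K.t * (w * (K.t⁻¹ * K.ψ v * K.t⁻¹⁻¹) * w⁻¹) * K.t⁻¹) * w⁻¹ := by group
      _ = K.ψ v := by
        rw [show K.t⁻¹ * K.ψ v * K.t⁻¹⁻¹ = K.ψ (act 4 v) by rw [htinv, K.t_act], hneg, K.t_act, hneg, e4]
  obtain ⟨u, hu'⟩ := K.ψ_surj _ hu
  have htw : K.t * w * K.t⁻¹ = w * K.ψ u := by rw [hu', ← mul_assoc, hw2, one_mul]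
  have htu : K.ψ (act 4 u) = (K.ψ u)⁻¹ := by
    rw [← K.t_act]
    refine eq_inv_of_mul_eq_one_left ?_
    rw [hu']
    set A := K.t * w * K.t⁻¹ with hA
    have hAt : K.t * A * K.t⁻¹ = w := by
      rw [hA, show K.t * (K.t * w * K.t⁻¹) * K.t⁻¹ = (K.t * K.t) * w * (K.t * K.t)⁻¹ by group, K.t_sq,
        one_mul, inv_one, mul_one]
    calc K.t * (w * A) * K.t⁻¹ * (w * A) = A * (K.t * A * K.t⁻¹) * (w * A) := by rw [hA]; group
      _ = A * (w * w) * A := by rw [hAt]; group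
      _ = K.t * (w * w) * K.t⁻¹ := by
        rw [hw2, mul_one, hA, show K.t * w * K.t⁻¹ * (K.t * w * K.t⁻¹) = K.t * (w * w) * K.t⁻¹ by group, hw2]
      _ = 1 := by rw [hw2, mul_one, mul_inv_cancel]
  refine ⟨{ w := w * K.ψ ((2 : ℕ) • u), w_act := fun v => ?_, w_sq := ?_, w_t := ?_, sign := ?_ }⟩
  · calc w * K.ψ ((2 : ℕ) • u) * K.ψ v * (w * K.ψ ((2 : ℕ) • u))⁻¹
        = w * (K.ψ ((2 : ℕ) • u) * K.ψ v * (K.ψ ((2 : ℕ) • u))⁻¹) * w⁻¹ := by group
      _ = w * K.ψ v * w⁻¹ := by rw [K.toBase.ψ_comm, mul_inv_cancel_right]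
      _ = _ := hneg v
  · refine hsq _ fun v => ?_
    calc w * K.ψ ((2 : ℕ) • u) * K.ψ v * (w * K.ψ ((2 : ℕ) • u))⁻¹
        = w * (K.ψ ((2 : ℕ) • u) * K.ψ v * (K.ψ ((2 : ℕ) • u))⁻¹) * w⁻¹ := by group
      _ = w * K.ψ v * w⁻¹ := by rw [K.toBase.ψ_comm, mul_inv_cancel_right]
      _ = _ := hneg v
  · symm
    refine mul_inv_eq_iff_eq_mul.1 ?_
    have e2 : ∀ v : V3, act 4 ((2 : ℕ) • v) = (2 : ℕ) • act 4 v := by decide +kernel
    calc K.t * (w * K.ψ ((2 : ℕ) • u)) * K.t⁻¹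
        = (K.t * w * K.t⁻¹) * (K.t * K.ψ ((2 : ℕ) • u) * K.t⁻¹) := by group
      _ = w * (K.ψ u * ((K.ψ u)⁻¹) ^ 2) := by rw [htw, K.t_act, e2, K.toBase.ψ_nsmul, htu, mul_assoc]
      _ = w * K.ψ ((2 : ℕ) • u) := by
        rw [K.toBase.ψ_nsmul]
        congr 1
        have h3 := h.J_exp _ (K.ψ_mem u)
        rw [pow_succ, pow_two, mul_eq_one_iff_eq_inv] at h3
        rw [pow_two, pow_two, h3]
        group
  · intro g hg k hk
    by_contra h4
    obtain ⟨p, hp, q, hq, e⟩ := two_facts.1 k h4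
    have hr := K.toBase.real_cp (K.real_six hp) (K.toBase.real_cp (K.real_acts hg hk) (K.real_six hq))
    rcases e with e | e
    · exact hno (e ▸ hr)
    · exact hno (e ▸ K.toBase.real_cp h24 hr)

end Coords

namespace Two

variable {G : Type*} [Group G] [Finite G] {h : Hyp G} {K : Coords h} (T : Two K)

theorem w_inv : T.w⁻¹ = T.w := inv_eq_of_mul_eq_one_left T.w_sq

theorem w_conj (v : V3) : T.w * K.ψ v * T.w = K.ψ (-v) := by
  have := T.w_act v
  rwa [T.w_inv] at this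

include T in
/-- Fusion between elements fixed by `t`. -/
theorem fixed_fusion {v u : V3} {g : G} (hv : act 4 v = v) (hu : act 4 u = u) (hw : wt v ≠ 0)
    (e : g * K.ψ v * g⁻¹ = K.ψ u) : u = v ∨ u = -v := by
  obtain ⟨n, hn, en⟩ := h.fusion_J (K.ψ_mem v) (K.ψ_mem u) e
  obtain ⟨k, hk⟩ := K.acts n hn
  rw [hk] at en
  obtain rfl := K.ψ_inj en
  rcases two_facts.2.1 k (T.sign n hn k hk) v hv hu with r | r | r
  · exact Or.inl r
  · exact Or.inr r
  · exact absurd r hw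

include T in
/-- `(1, 2, 0)` is not conjugate to an element fixed by `t`. -/
theorem not_conj_g {v : V3} {g : G} (hv : act 4 v = v) : g * K.ψ v * g⁻¹ ≠ K.ψ (1, 2, 0) := by
  intro e
  obtain ⟨n, hn, en⟩ := h.fusion_J (K.ψ_mem v) (K.ψ_mem _) e
  obtain ⟨k, hk⟩ := K.acts n hn
  rw [hk] at en
  exact two_facts.2.2.2.1 k (T.sign n hn k hk) v hv (K.ψ_inj en)

theorem comm_iff (v : V3) : K.ψ v * K.t = K.t * K.ψ v ↔ act 4 v = v := by
  constructor
  · intro e
    refine K.ψ_inj ?_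
    rw [← K.t_act, ← e, mul_inv_cancel_right]
  · intro e
    refine (mul_inv_eq_iff_eq_mul.1 ?_).symm
    rw [K.t_act, e]

include T in
/-- The centraliser in `C(t)` of an element of `C_J(t)` outside `⟨a⟩`. -/
theorem cent_six {v : V3} (hv : act 4 v = v) (hw : wt v ≠ 0) {x : G} (hxt : x * K.t = K.t * x)
    (hxv : x * K.ψ v = K.ψ v * x) : ∃ u, act 4 u = u ∧ (x = K.ψ u ∨ x = K.ψ u * K.t) := by
  classical
  haveI := Fact.mk Nat.prime_three
  set Y := Subgroup.centralizer ({K.ψ v} : Set G) with hY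
  have hJY : h.J ≤ Y := fun j hj =>
    Subgroup.mem_centralizer_singleton_iff.2 (h.J_comm j hj _ (K.ψ_mem v))
  have htY : K.t ∈ Y := Subgroup.mem_centralizer_singleton_iff.2 ((comm_iff v).2 hv).symm
  have hcode : ∀ n ∈ Subgroup.normalizer (h.J : Set G), n ∈ Y → n ∈ h.J ∨ n * K.t ∈ h.J := by
    intro n hn hnY
    obtain ⟨k, hk⟩ := K.acts n hn
    have e := hk v
    rw [mul_inv_eq_iff_eq_mul.2 (Subgroup.mem_centralizer_singleton_iff.1 hnY)] at e
    have hcent : ∀ m : G, (∀ u, m * K.ψ u * m⁻¹ = K.ψ u) → m ∈ h.J := fun m hm => h.cent_J fun j hj => by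
      obtain ⟨u, rfl⟩ := K.ψ_surj j hj
      exact mul_inv_eq_iff_eq_mul.1 (hm u)
    rcases two_facts.2.2.1 k (T.sign n hn k hk) v hv hw (K.ψ_inj e).symm with r | r
    · refine Or.inl (hcent n fun u => ?_)
      rw [hk, show k = 0 from Fin.ext r]
      exact congrArg K.ψ (two_facts.2.2.2.2.2 u)
    · refine Or.inr (hcent _ fun u => ?_)
      rw [show n * K.t * K.ψ u * (n * K.t)⁻¹ = n * (K.t * K.ψ u * K.t⁻¹) * n⁻¹ by group, K.t_act, hk,
        show k = 4 from Fin.ext r]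
      exact congrArg K.ψ ((show ∀ u : V3, act 4 (act 4 u) = u by decide +kernel) u)
  obtain ⟨S, hS⟩ := h.exists_sylow_J hJY fun n hn hnY h81 => by
    rcases hcode n hn hnY with r | r
    · exact r
    have hsq : n * n ∈ h.J := by
      have h2 := K.toBase.t_mem_N
      have e : n * n = (n * K.t) * (K.t * (n * K.t) * K.t⁻¹) := by
        rw [show (n * K.t) * (K.t * (n * K.t) * K.t⁻¹) = n * (K.t * K.t) * n by group, K.t_sq, mul_one]
      rw [e]
      exact mul_mem r ((Subgroup.mem_normalizer_iff.1 h2 _).1 r)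
    have e : n = ((n * n) ^ 40)⁻¹ := by
      rw [← pow_two, ← pow_mul]
      exact eq_inv_of_mul_eq_one_left (by rw [← pow_succ']; exact h81)
    rw [e]
    exact inv_mem (pow_mem hsq 40)
  set i := fun (u : V3) => (⟨K.ψ u, hJY (K.ψ_mem u)⟩ : Y) with hi
  have hiS : ∀ u, i u ∈ (S : Subgroup Y) := fun u => by rw [hS]; exact K.ψ_mem u
  obtain ⟨V, hV⟩ := Cfsg.Agent.Invol.PSp43Am.exists_transfer S fun p hp q hq => by
    rw [hS] at hp hq
    exact Subtype.ext (h.J_comm _ hp _ hq)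
  have hVfix : ∀ u, act 4 u = u → (V (i u) : Y) = i u ^ (S : Subgroup Y).index := fun u hu =>
    hV _ (hiS u) fun n hn => Subtype.ext (by
      have hn' : (n : G) ∈ Subgroup.normalizer (h.J : Set G) :=
        Cfsg.Agent.Invol.PSp43Am.mem_normalizer_of_conj_mem fun y hy => by
          have h1 := (Subgroup.mem_normalizer_iff.1 hn ⟨y, hJY hy⟩).1 (by rw [hS]; exact hy)
          rw [hS] at h1
          exact h1
      show (n : G) * K.ψ u = K.ψ u * (n : G)
      rcases hcode _ hn' n.2 with r | r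
      · exact h.J_comm _ r _ (K.ψ_mem u)
      · obtain ⟨q, hq⟩ := K.ψ_surj _ r
        have e : (n : G) = K.ψ q * K.t := by rw [hq, mul_assoc, K.t_sq, mul_one]
        rw [e, mul_assoc, ← (comm_iff u).2 hu, ← mul_assoc, K.toBase.ψ_comm, mul_assoc])
  set idx := (S : Subgroup Y).index
  have hidx : ¬ 3 ∣ idx := S.not_dvd_index
  have hzero : ∀ e, act 4 e = e → V (i e) = 1 → e = 0 := by
    intro e he h1
    have h2 : K.ψ e ^ idx = 1 := by
      have := hVfix e he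
      rw [h1] at this
      exact (congrArg Subtype.val this).symm
    refine K.ψ_inj ?_
    rw [K.toBase.ψ_zero]
    exact orderOf_eq_one_iff.1 (Nat.eq_one_of_dvd_coprimes
      ((Nat.Prime.coprime_iff_not_dvd Nat.prime_three).2 hidx)
      (orderOf_dvd_of_pow_eq_one (h.J_exp _ (K.ψ_mem e))) (orderOf_dvd_of_pow_eq_one h2))
  have hadd : ∀ p q, i (p + q) = i p * i q := fun p q => Subtype.ext (K.ψ_add p q)
  have hg1 : V (i (1, 2, 0)) = 1 := by
    have hc : ∀ a b : (S : Subgroup Y), a * b = b * a := fun a b => by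
      exact Subtype.ext (Subtype.ext (h.J_comm _ (hS.le a.2) _ (hS.le b.2)))
    have e : (⟨K.t, htY⟩ : Y) * i xV * (⟨K.t, htY⟩ : Y)⁻¹ * (i xV)⁻¹ = i (2, 1, 0) := by
      refine Subtype.ext ?_
      show K.t * K.ψ xV * K.t⁻¹ * (K.ψ xV)⁻¹ = K.ψ (2, 1, 0)
      rw [K.t_act, ← K.toBase.ψ_sub, line_facts.2.2.2.2.2.2.1]
    have h21 : V (i (2, 1, 0)) = 1 := by
      rw [← e, map_mul, map_mul, map_mul, map_inv, map_inv, hc (V _) (V (i xV))]
      group
    rw [← line_facts.2.2.2.2.2.2.2.1, show i (-(2, 1, 0)) = (i (2, 1, 0))⁻¹ from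
      Subtype.ext (K.toBase.ψ_neg _), map_inv, h21, inv_one]
  set L := V.ker.map Y.subtype with hL
  have hJL : h.J ≤ Subgroup.normalizer (L : Set G) := fun j hj =>
    Cfsg.Agent.Invol.PSp43Am.mem_normalizer_of_conj_mem fun y hy => by
      obtain ⟨y', hy', rfl⟩ := hy
      exact ⟨⟨j, hJY hj⟩ * y' * (⟨j, hJY hj⟩ : Y)⁻¹, V.normal_ker.conj_mem _ hy' _, rfl⟩
  have hgne : K.ψ (1, 2, 0) ≠ 1 := fun e => by
    rw [← K.toBase.ψ_zero] at e
    exact g_facts.1 (K.ψ_inj e)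
  obtain ⟨hcard, -⟩ := h.selfcent_small hJL (g := K.ψ (1, 2, 0)) ⟨i (1, 2, 0), hg1, rfl⟩
    (h.J_exp _ (K.ψ_mem _)) hgne fun y hy hyg => by
      obtain ⟨y', hy', rfl⟩ := hy
      have hJmem : (y' : G) ∈ h.J := h.cent_pair (K.ψ_mem v) (K.ψ_mem _) (fun n hn hnv hng => by
        rcases hcode n hn (Subgroup.mem_centralizer_singleton_iff.2 hnv) with r | r
        · exact r
        exfalso
        obtain ⟨q, hq⟩ := K.ψ_surj _ r
        have e : n = K.ψ q * K.t := by rw [hq, mul_assoc, K.t_sq, mul_one]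
        have h1 : n * K.ψ (1, 2, 0) * n⁻¹ = K.ψ (1, 2, 0) := by rw [hng, mul_inv_cancel_right]
        rw [e, show K.ψ q * K.t * K.ψ (1, 2, 0) * (K.ψ q * K.t)⁻¹ =
          K.ψ q * (K.t * K.ψ (1, 2, 0) * K.t⁻¹) * (K.ψ q)⁻¹ by group, K.t_act, K.toBase.ψ_comm,
          mul_inv_cancel_right] at h1
        exact g_facts.2 (K.ψ_inj h1))
        (Subgroup.mem_centralizer_singleton_iff.1 y'.2) hyg
      obtain ⟨q, hq⟩ := K.ψ_surj _ hJmem
      obtain ⟨e, n, he, rfl⟩ := line_facts.2.2.2.2.2.2.2.2.2 q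
      have h0 : V (i (e + (n : ℕ) • (1, 2, 0))) = 1 := by
        rw [show i (e + (n : ℕ) • (1, 2, 0)) = y' from Subtype.ext hq]; exact hy'
      rw [hadd, map_mul, show i ((n : ℕ) • (1, 2, 0)) = i (1, 2, 0) ^ (n : ℕ) from
        Subtype.ext (K.toBase.ψ_nsmul _ _), map_pow, hg1, one_pow, mul_one] at h0
      show (y' : G) ∈ _
      rw [← hq, hzero e he h0, zero_add, K.toBase.ψ_nsmul]
      exact Subgroup.npow_mem_zpowers _ _
  have hr := Subgroup.card_eq_card_quotient_mul_card_subgroup V.ker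
  have hLc : Nat.card L = Nat.card V.ker := Subgroup.card_map_of_injective Y.subtype_injective
  rw [Nat.card_congr (QuotientGroup.quotientKerEquivRange V).toEquiv, ← hLc] at hr
  have hSc : Nat.card (S : Subgroup Y) = 27 := by
    rw [hS, Nat.card_congr (Subgroup.subgroupOfEquivOfLe hJY).toEquiv, h.J_card]
  have hd : Nat.card V.range ∣ 27 := hSc ▸ Subgroup.card_subgroup_dvd_card _
  have hYm := Subgroup.card_mul_index (S : Subgroup Y)
  rw [hSc] at hYm
  -- at most fifty-four elements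
  have hY54 : Nat.card Y ≤ 54 := by
    rw [show 27 = 3 ^ 3 from rfl, Nat.dvd_prime_pow Nat.prime_three] at hd
    obtain ⟨r, hr3, hre⟩ := hd
    rw [hre] at hr
    interval_cases r
    · rcases hcard with c | c <;> rw [c] at hr <;> omega
    · rcases hcard with c | c <;> rw [c] at hr <;> omega
    · rcases hcard with c | c <;> rw [c] at hr <;> omega
    · rcases hcard with c | c <;> rw [c] at hr
      · exact absurd (show 3 ∣ idx by omega) hidx
      · exact absurd (show 3 ∣ idx by omega) hidx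
  have htJ : K.t ∉ h.J := fun hh => by
    have := K.t_act zV
    have h2 : K.t ^ 3 = K.t := by rw [pow_succ, pow_two, K.t_sq, one_mul]
    rw [h.J_exp _ hh] at h2
    have h3 := h.neg_ne_one K.t_π
    exact h3 (h2 ▸ Subgroup.one_mem _)
  let f : V3 × Fin 2 → Y := fun q => i q.1 * (⟨K.t, htY⟩ : Y) ^ (q.2 : ℕ)
  have hf : Function.Injective f := by
    rintro ⟨p, a⟩ ⟨q, b⟩ e
    have e' : K.ψ p * K.t ^ (a : ℕ) = K.ψ q * K.t ^ (b : ℕ) := congrArg Subtype.val e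
    have hab : a = b := by
      by_contra hne
      refine htJ ?_
      have : K.t = (K.ψ q)⁻¹ * K.ψ p ∨ K.t = (K.ψ p)⁻¹ * K.ψ q := by
        fin_cases a <;> fin_cases b
        · exact absurd rfl hne
        · exact Or.inl (eq_inv_mul_iff_mul_eq.2 (by simpa using e'.symm))
        · exact Or.inr (eq_inv_mul_iff_mul_eq.2 (by simpa using e'))
        · exact absurd rfl hne
      rcases this with r | r <;> rw [r] <;> exact mul_mem (inv_mem (K.ψ_mem _)) (K.ψ_mem _)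
    subst hab
    exact Prod.ext (K.ψ_inj (mul_right_cancel e')) rfl
  have hle := Nat.card_le_card_of_injective f hf
  have hV54 : Nat.card (V3 × Fin 2) = 54 := by rw [Nat.card_eq_fintype_card]; rfl
  obtain ⟨⟨u, b⟩, hb⟩ := ((Nat.bijective_iff_injective_and_card f).2 ⟨hf, by omega⟩).2
    ⟨x, Subgroup.mem_centralizer_singleton_iff.2 hxv⟩
  have hb' : K.ψ u * K.t ^ (b : ℕ) = x := congrArg Subtype.val hb
  refine ⟨u, (comm_iff (K := K) u).1 ?_, ?_⟩
  · rw [eq_mul_inv_of_mul_eq hb']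
    exact (Commute.mul_left (show Commute x K.t from hxt)
      ((Commute.refl K.t).pow_left _).inv_left).eq
  · fin_cases b
    · exact Or.inl (by simpa using hb'.symm)
    · exact Or.inr (by simpa using hb'.symm)

/-- `C_J(t)` -/
def E (_T : Two K) : Subgroup G := h.J ⊓ Subgroup.centralizer ({K.t} : Set G)

theorem ψ_mem_E {v : V3} (hv : act 4 v = v) : K.ψ v ∈ T.E :=
  ⟨K.ψ_mem v, Subgroup.mem_centralizer_singleton_iff.2 ((comm_iff (K := K) v).2 hv)⟩

theorem exists_of_mem_E {x : G} (hx : x ∈ T.E) : ∃ v, act 4 v = v ∧ x = K.ψ v := by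
  obtain ⟨v, rfl⟩ := K.ψ_surj x hx.1
  exact ⟨v, (comm_iff (K := K) v).1 (Subgroup.mem_centralizer_singleton_iff.1 hx.2), rfl⟩

theorem z_t : K.ψ zV * K.t = K.t * K.ψ zV := (comm_iff (K := K) zV).2 line_facts.2.1.1

theorem a_t : h.a * K.t = K.t * h.a := (h.mem_C.1 K.t_C).symm

theorem E_isPGroup : IsPGroup 3 T.E := h.J_isPGroup.to_le inf_le_left

/-- `C_J(t)` is a maximal 3-subgroup of `C(t)`. -/
theorem E_max {U : Subgroup G} (hU : IsPGroup 3 U) (hUt : U ≤ Subgroup.centralizer ({K.t} : Set G))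
    (hEU : T.E ≤ U) : U ≤ T.E := by
  haveI := Fact.mk Nat.prime_three
  by_contra hne
  haveI : Group.IsNilpotent U := hU.isNilpotent
  have hlt : T.E.subgroupOf U < ⊤ := lt_top_iff_ne_top.2 fun e => hne fun y hy => by
    have : (⟨y, hy⟩ : U) ∈ T.E.subgroupOf U := e ▸ Subgroup.mem_top _
    exact this
  obtain ⟨⟨n, hnU⟩, hn, hnE⟩ :=
    SetLike.exists_of_lt (Group.normalizerCondition_of_isNilpotent _ hlt)
  refine hnE ?_
  show n ∈ T.E
  have hconj : ∀ y ∈ T.E, n * y * n⁻¹ ∈ T.E := fun y hy =>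
    (Subgroup.mem_normalizer_iff.1 hn ⟨y, hEU hy⟩).1 hy
  have h81 : n ^ 81 = 1 := by
    obtain ⟨x, hx⟩ := h.exists_conj_le hU
    have := congrArg Subtype.val (pow_card_eq_one' (x := (⟨_, hx n hnU⟩ : h.P)))
    rw [h.card_P, SubgroupClass.coe_pow, Subgroup.coe_one, conj_pow, conj_eq_one_iff] at this
    exact this
  have hnt : n * K.t = K.t * n := Subgroup.mem_centralizer_singleton_iff.1 (hUt hnU)
  obtain ⟨u, hu, e⟩ := T.exists_of_mem_E (hconj _ (T.ψ_mem_E line_facts.2.1.1))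
  have hcomm : n ^ 2 * K.ψ zV = K.ψ zV * n ^ 2 := by
    refine mul_inv_eq_iff_eq_mul.1 ?_
    rw [pow_two, show n * n * K.ψ zV * (n * n)⁻¹ = n * (n * K.ψ zV * n⁻¹) * n⁻¹ by group, e]
    rcases T.fixed_fusion line_facts.2.1.1 hu line_facts.2.1.2 e with r | r <;> subst r
    · exact e
    · rw [K.toBase.ψ_neg, ← conj_inv, e, K.toBase.ψ_neg, inv_inv]
  obtain ⟨q, hq, hcase⟩ := T.cent_six line_facts.2.1.1 line_facts.2.1.2
    (show Commute (n ^ 2) K.t from (show Commute n K.t from hnt).pow_left 2).eq hcomm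
  have hqE := T.ψ_mem_E hq
  have h4 : n ^ 4 ∈ T.E := by
    rw [show 4 = 2 * 2 from rfl, pow_mul, pow_two (n ^ 2)]
    rcases hcase with r | r <;> rw [r]
    · exact mul_mem hqE hqE
    · rw [show K.ψ q * K.t * (K.ψ q * K.t) = K.ψ q * (K.t * K.ψ q) * K.t by group,
        ← (comm_iff (K := K) q).2 hq, mul_assoc, mul_assoc (K.ψ q), K.t_sq, mul_one]
      exact mul_mem hqE hqE
  have e2 : n = (n ^ 4) ^ 61 := by
    rw [← pow_mul, show 4 * 61 = 81 * 3 + 1 from rfl, pow_succ, pow_mul, h81, one_pow, one_mul]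
  rw [e2]
  exact pow_mem h4 61

/-- `C_J(t)` is a Sylow 3-subgroup of every subgroup of `C(t)` containing it. -/
theorem exists_sylow_E {Y : Subgroup G} (hEY : T.E ≤ Y)
    (hYt : Y ≤ Subgroup.centralizer ({K.t} : Set G)) :
    ∃ S : Sylow 3 Y, (S : Subgroup Y) = T.E.subgroupOf Y := by
  haveI := Fact.mk Nat.prime_three
  obtain ⟨S, hS⟩ := (T.E_isPGroup.of_equiv (Subgroup.subgroupOfEquivOfLe hEY).symm).exists_le_sylow
  refine ⟨S, (le_antisymm hS ?_).symm⟩
  have := T.E_max (S.isPGroup'.map Y.subtype)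
    (fun x hx => hYt (Subgroup.map_subtype_le _ hx))
    (fun x hx => ⟨⟨x, hEY hx⟩, hS hx, rfl⟩)
  exact fun x hx => this ⟨x, hx, rfl⟩

end Two

end Cfsg.Agent.Recog.ThreeCentSp
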